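import Cfsg.Agent.Lib.Rec3D.ModN

/-! Basic facts on the coordinates, BAS (plans/REC3D.md). -/

set_option autoImplicit false
set_option maxRecDepth 100000
set_option linter.unusedSectionVars false
set_option linter.unusedVariables false

namespace CfsgLib.Rec3D

open Subgroup Cfsg CfsgLib.Tech CfsgLib.W2 CfsgLib.Rec3B Matrix
open CfsgLib.U43 (SL)

open Es FT

variable {G : Type*} [Group G] [Finite G] {φ : He →* G} {ψ : G → Sp} {ρ g c d : G}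

theorem He.hz : Hz (⊤ : Subgroup He) zz :=
  ⟨isPGroup_iff_mem.2 fun a _ => ⟨1, by simpa using a.cube⟩, trivial, zz_ne, He.cube _, fun a _ => mem_Cx.2 (zz_comm a),
    fun a _ b _ => mem_zz.2 (by rw [He.cmt])⟩

theorem He.ez : Ez (⊤ : Subgroup He) zz :=
  ⟨He.hz, fun a _ e => mem_zz.2 (B0_nondeg fun w => (He.comm_iff (a := a) (b := ⟨w, 0⟩)).1 (e ⟨w, 0⟩ trivial).symm)⟩

theorem He.dec (a : He) : a = ⟨a.v, 0⟩ * ⟨0, a.c⟩ := He.ext (by simp) (by simp)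

theorem z3 (φ : He →* G) : φ zz ^ 3 = 1 := by rw [← map_pow, He.cube, map_one]
theorem Qz (φ : He →* G) (a : He) : φ a ∈ Cx (φ zz) := mem_Cx.2 (by rw [← map_mul, zz_comm, map_mul])
theorem Q3 (φ : He →* G) (a : He) : φ a ^ 3 = 1 := by rw [← map_pow, He.cube, map_one]
theorem range_le (φ : He →* G) : φ.range ≤ Cx (φ zz) := by rintro _ ⟨a, rfl⟩; exact Qz φ a

theorem mem_Z_of {a : He} (φ : He →* G) (e : a.v = 0) : φ a ∈ zpowers (φ zz) := by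
  rw [← MonoidHom.map_zpowers]; exact ⟨a, mem_zz.2 e, rfl⟩

namespace HS

variable (h : HS φ ψ ρ)
include h

theorem z1 : φ zz ≠ 1 := fun e => zz_ne (h.inj (e.trans φ.map_one.symm))

theorem mem_Z {a : He} : φ a ∈ zpowers (φ zz) ↔ a.v = 0 := by
  rw [← MonoidHom.map_zpowers, mem_map_iff_mem h.inj, mem_zz]

theorem Z_le : zpowers (φ zz) ≤ φ.range := zpowers_le.2 ⟨zz, rfl⟩

theorem ez : Ez φ.range (φ zz) := by
  refine ⟨⟨isPGroup_iff_mem.2 ?_, ⟨zz, rfl⟩, h.z1, z3 φ, range_le φ, ?_⟩, ?_⟩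
  · rintro _ ⟨a, rfl⟩; exact ⟨1, by simpa using Q3 φ a⟩
  · rintro _ ⟨a, rfl⟩ _ ⟨b, rfl⟩
    simp only [← map_inv, ← map_mul]
    exact mem_Z_of φ (by rw [He.cmt])
  · rintro _ ⟨a, rfl⟩ e
    exact mem_Z_of φ (B0_nondeg fun w => (He.comm_iff (a := a) (b := ⟨w, 0⟩)).1 (h.inj (by
      rw [map_mul, map_mul]; exact (e _ ⟨⟨w, 0⟩, rfl⟩).symm)))

theorem hz : Hz φ.range (φ zz) := h.ez.toHz

theorem card_Q : Nat.card φ.range = 3 ^ 9 := by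
  rw [← Nat.card_congr (MonoidHom.ofInjective h.inj).toEquiv, He.card]

theorem norm_Q (hg : g ∈ Cx (φ zz)) : g ∈ normalizer (φ.range : Set G) :=
  h.nQ (mem_normalizer_of_forall fun w hw => by rwa [zcj hw hg])

theorem mq : MQ 4 (φ zz) φ.range := by
  refine ⟨h.hz, by rintro _ ⟨a, rfl⟩; exact Q3 φ a, fun g hg => h.norm_Q hg, fun q hq hn => ?_, fun B hB hc => ?_⟩
  · have := h.hz.card3 hq fun e => hn (h.ez.cen q hq fun y hy => mem_Cx.1 (e hy))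
    rw [h.card_Q] at this
    omega
  · have e := NBx.abel_sq _ _ h.hz h.card_Q B hB hc
    have : Nat.card (φ.range ⊓ centralizer (φ.range : Set G) : Subgroup G) ≤ 3 := by
      rw [← cardZ h.z1 (z3 φ)]
      exact card_le_of_le fun q hq => h.ez.cen q hq.1 hq.2
    have e2 := e.trans (Nat.mul_le_mul_left _ this)
    exact Nat.pow_le_pow_iff_left (n := 2) (by norm_num) |>.1 (e2.trans (by norm_num))

theorem ψ1 : ψ 1 = 1 := h.hom.map_one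
theorem ψinv (hg : g ∈ Cx (φ zz)) : ψ g⁻¹ = (ψ g)⁻¹ := h.hom.map_inv ⟨g, hg⟩
theorem ψpow (hg : g ∈ Cx (φ zz)) (n : ℕ) : ψ (g ^ n) = ψ g ^ n := h.hom.map_pow ⟨g, hg⟩ n
theorem ψcj (hg : g ∈ Cx (φ zz)) (hc : c ∈ Cx (φ zz)) : ψ (g * c * g⁻¹) = ψ g * ψ c * (ψ g)⁻¹ := by
  rw [h.mul _ (mul_mem hg hc) _ (inv_mem hg), h.mul _ hg _ hc, h.ψinv hg]
theorem ψcmt (hg : g ∈ Cx (φ zz)) (hc : c ∈ Cx (φ zz)) :
    ψ (g * c * g⁻¹ * c⁻¹) = ψ g * ψ c * (ψ g)⁻¹ * (ψ c)⁻¹ := by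
  rw [h.mul _ (mul_mem (mul_mem hg hc) (inv_mem hg)) _ (inv_mem hc), h.ψcj hg hc, h.ψinv hc]

theorem ψ_eq (hg : g ∈ Cx (φ zz)) {s : Sp} (e : ∀ a : He, ∃ k, g * φ a * g⁻¹ = φ ⟨s • a.v, k⟩) : ψ g = s :=
  eq_of_smul fun v => by
    obtain ⟨k, e1⟩ := e ⟨v, 0⟩
    obtain ⟨l, e2⟩ := h.act g hg ⟨v, 0⟩
    exact congrArg He.v (h.inj (e2.symm.trans e1))

theorem ψφ (a : He) : ψ (φ a) = 1 := h.ψ_eq (Qz φ a) fun b =>
  ⟨(a * b * a⁻¹).c, by rw [← map_inv, ← map_mul, ← map_mul]; exact congrArg φ (He.ext (by simp) rfl)⟩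

theorem ker_iff (hg : g ∈ Cx (φ zz)) : ψ g = 1 ↔ g ∈ φ.range :=
  ⟨h.ker g hg, by rintro ⟨a, rfl⟩; exact h.ψφ a⟩

theorem mem_of_eq (hg : g ∈ Cx (φ zz)) (hc : c ∈ Cx (φ zz)) (e : ψ g = ψ c) : g * c⁻¹ ∈ φ.range :=
  h.ker _ (mul_mem hg (inv_mem hc)) (by rw [h.mul _ hg _ (inv_mem hc), h.ψinv hc, e, mul_inv_cancel])

theorem ψφ_mul (a : He) (hg : g ∈ Cx (φ zz)) : ψ (φ a * g) = ψ g := by rw [h.mul _ (Qz φ a) _ hg, h.ψφ, one_mul]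

theorem ρz : ρ ∈ Cx (φ zz) := mem_Cx'.2 (by rw [h.ρa, smul_zz])
theorem ψρ : ψ ρ = ng := h.ψ_eq h.ρz fun a => ⟨a.c, h.ρa a⟩

theorem faith (hg : g ∈ Cx (φ zz)) (e : ∀ q ∈ φ.range, g * q * g⁻¹ * q⁻¹ ∈ zpowers (φ zz)) : g ∈ φ.range :=
  h.ker g hg (eq_of_smul fun v => by
    obtain ⟨k, e2⟩ := h.act g hg ⟨v, 0⟩
    have := e _ ⟨⟨v, 0⟩, rfl⟩
    rw [e2, ← map_inv, ← map_mul, h.mem_Z] at this
    simpa [add_neg_eq_zero] using this)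

theorem actX (hg : g ∈ Cx (φ zz)) (hρ : g ∈ Cx ρ) (a : He) : g * φ a * g⁻¹ = φ (ψ g • a) := by
  obtain ⟨k, e⟩ := h.act g hg ⟨a.v, 0⟩
  have e1 : ρ * (g * φ ⟨a.v, 0⟩ * g⁻¹) * ρ⁻¹ = (g * φ ⟨a.v, 0⟩ * g⁻¹)⁻¹ := by
    calc _ = (ρ * g) * φ ⟨a.v, 0⟩ * (ρ * g)⁻¹ := by group
      _ = g * (ρ * φ ⟨a.v, 0⟩ * ρ⁻¹) * g⁻¹ := by rw [← mem_Cx.1 hρ]; group
      _ = g * (φ ⟨a.v, 0⟩)⁻¹ * g⁻¹ := by
        rw [h.ρa, ← map_inv]; exact congrArg (fun t => g * φ t * g⁻¹) (He.ext (ng_smul _) (by simp))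
      _ = _ := by group
  rw [e, h.ρa, ← map_inv] at e1
  have k0 : k = 0 := (by decide : ∀ k : ZMod 3, k = -k → k = 0) k (congrArg He.c (h.inj e1))
  subst k0
  conv_lhs => rw [a.dec, map_mul, ← conj_mul, e, zcj (mem_Z_of φ rfl) hg, ← map_mul]
  exact congrArg φ (He.ext (by simp) (by simp))

theorem XQ {a : He} (ha : φ a ∈ Cx ρ) : a.v = 0 := by
  have := congrArg He.v (h.inj ((h.ρa a).symm.trans (mem_Cx'.1 (Cx_comm.1 ha))))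
  rw [He.smul_v, ng_smul] at this
  exact funext fun i => (by decide : ∀ k : ZMod 3, -k = k → k = 0) _ (congrFun this i)

theorem XQ' (h1 : g ∈ φ.range) (h2 : g ∈ Cx ρ) : g ∈ zpowers (φ zz) := by
  obtain ⟨a, rfl⟩ := h1
  exact mem_Z_of φ (h.XQ h2)

theorem zρ (hg : g ∈ zpowers (φ zz)) : g ∈ Cx ρ := Cx_comm.1 (mem_Cx.2 (zc hg h.ρz))

theorem dec (hg : g ∈ Cx (φ zz)) : ∃ k, ∃ c ∈ Cx (φ zz), c ∈ Cx ρ ∧ g = φ k * c ∧ ψ c = ψ g := by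
  have m1 := mul_mem (mul_mem hg h.ρz) (inv_mem hg)
  obtain ⟨m, hm⟩ := h.mem_of_eq m1 h.ρz (by rw [h.ψcj hg h.ρz, h.ψρ, ng_comm, mul_inv_cancel_right])
  have ρi : ρ⁻¹ = ρ := inv_eq_of_mul_eq_one_right h.ρρ
  have e : φ (m * ng • m) = 1 := by
    rw [map_mul, ← h.ρa, hm, ρi]
    calc _ = g * ρ * g⁻¹ * (ρ * ρ) * g * ρ * g⁻¹ * (ρ * ρ) := by group
      _ = g * (ρ * ρ) * g⁻¹ := by
        generalize hk : ρ * ρ = k
        rw [h.ρρ] at hk; subst hk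
        simp only [mul_one, mul_assoc, inv_mul_cancel_left]
        rw [← mul_assoc ρ, h.ρρ, one_mul]
      _ = 1 := by rw [h.ρρ, mul_one, mul_inv_cancel]
  have c0 : m.c = 0 := (by decide : ∀ k : ZMod 3, k + k = 0 → k = 0) _ (by
    simpa [ng_smul] using congrArg He.c (h.inj (e.trans φ.map_one.symm)))
  have e2 : φ ⟨-m.v, 0⟩ * ρ * (φ ⟨-m.v, 0⟩)⁻¹ = g * ρ * g⁻¹ := by
    have : (⟨-m.v, 0⟩ : He) * ng • (⟨-m.v, 0⟩ : He)⁻¹ = m :=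
      He.ext (funext fun i => by simpa [ng_smul] using (by decide : ∀ k : ZMod 3, -k + -k = k) (m.v i))
        (by simp [ng_smul, c0])
    rw [← mul_left_inj ρ⁻¹, ← hm]
    conv_rhs => rw [← this, map_mul, ← h.ρa, map_inv]
    group
  refine ⟨⟨-m.v, 0⟩, (φ ⟨-m.v, 0⟩)⁻¹ * g, mul_mem (inv_mem (Qz φ _)) hg, mem_Cx'.2 ?_, by group, ?_⟩
  · calc _ = (φ ⟨-m.v, 0⟩)⁻¹ * (g * ρ * g⁻¹) * φ ⟨-m.v, 0⟩ := by group
      _ = _ := by rw [← e2]; group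
  · rw [← map_inv, h.ψφ_mul _ hg]

theorem Im_le : h.Im ≤ N1 := by rintro _ ⟨g, rfl⟩; exact h.mem g g.2
theorem Rm_le_Im : Rm ≤ h.Im := fun r hr => h.mem_Im.2 (h.onR r hr)
theorem ψ_mem (hg : g ∈ Cx (φ zz)) : ψ g ∈ h.Im := h.mem_Im.2 ⟨g, hg, rfl⟩

theorem lift {s : Sp} (hs : s ∈ h.Im) : ∃ c ∈ Cx (φ zz), c ∈ Cx ρ ∧ ψ c = s := by
  obtain ⟨g, hg, rfl⟩ := h.mem_Im.1 hs
  obtain ⟨-, c, h1, h2, -, e⟩ := h.dec hg
  exact ⟨c, h1, h2, e⟩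

theorem lift2 {s : Sp} (hs : s ∈ h.Im) {m : ℕ} (hm : m ∣ 8) (e : s ^ m = 1) :
    ∃ c ∈ Cx (φ zz), c ∈ Cx ρ ∧ ψ c = s ∧ c ^ m = 1 := by
  obtain ⟨c, h1, h2, rfl⟩ := h.lift hs
  refine ⟨c ^ 9, pow_mem h1 9, pow_mem h2 9, ?_, ?_⟩
  · obtain ⟨k, hk⟩ := hm
    rw [h.ψpow h1, show 9 = m * k + 1 by omega, pow_succ, pow_mul, e, one_pow, one_mul]
  · have := zcube (z3 φ) (h.XQ' (h.ker _ (pow_mem h1 m) (by rw [h.ψpow h1, e])) (pow_mem h2 m))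
    rw [← pow_mul, mul_comm, pow_mul, show 9 = 3 * 3 from rfl, pow_mul, this, one_pow]

theorem commX (h1 : c ∈ Cx (φ zz)) (h2 : c ∈ Cx ρ) (h3 : d ∈ Cx (φ zz)) (h4 : d ∈ Cx ρ) (c8 : c ^ 8 = 1)
    (e : ψ d * ψ c = ψ c * ψ d) : d ∈ Cx c := by
  have m := h.XQ' (h.ker _ (mul_mem (mul_mem (mul_mem h3 h1) (inv_mem h3)) (inv_mem h1))
    (by rw [h.ψcmt h3 h1, e]; group)) (mul_mem (mul_mem (mul_mem h4 h2) (inv_mem h4)) (inv_mem h2))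
  have k : (d * c * d⁻¹ * c⁻¹ * c) ^ 8 = 1 := by rw [inv_mul_cancel_right, conj_pow, c8]; group
  rw [(show Commute _ c from (zc m h1).symm).mul_pow, c8, mul_one] at k
  have k3 := zcube (z3 φ) m
  refine cmt_one ?_
  generalize d * c * d⁻¹ * c⁻¹ = w at k k3
  calc w = w ^ 8 * w := by rw [k, one_mul]
    _ = (w ^ 3) ^ 3 := by group
    _ = 1 := by rw [k3, one_pow]

/-- the image of a subgroup of `C(z)` -/
noncomputable def img (D : Subgroup G) : Subgroup Sp := (D.subgroupOf (Cx (φ zz))).map h.hom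

theorem mem_img {D : Subgroup G} (hD : D ≤ Cx (φ zz)) {s : Sp} : s ∈ h.img D ↔ ∃ g ∈ D, ψ g = s :=
  ⟨fun ⟨g, hg, e⟩ => ⟨g.1, hg, e⟩, fun ⟨g, hg, e⟩ => ⟨⟨g, hD hg⟩, hg, e⟩⟩

theorem img_le (D : Subgroup G) : h.img D ≤ h.Im := map_le_range _ _

theorem card_img {D : Subgroup G} (hD : D ≤ Cx (φ zz)) :
    Nat.card D = Nat.card (D ⊓ φ.range : Subgroup G) * Nat.card (h.img D) := by
  let f := h.hom.comp (inclusion hD)
  have e1 : f.ker = (D ⊓ φ.range).subgroupOf D := Subgroup.ext fun x => by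
    rw [mem_subgroupOf, mem_inf, and_iff_right x.2]; exact h.ker_iff (hD x.2)
  have e2 : f.range = h.img D := Subgroup.ext fun s => by
    rw [h.mem_img hD]
    exact ⟨fun ⟨x, e⟩ => ⟨x.1, x.2, e⟩, fun ⟨g, hg, e⟩ => ⟨⟨g, hg⟩, e⟩⟩
  rw [← f.ker.card_mul_index, index_ker, e1, e2, Nat.card_congr (subgroupOfEquivOfLe inf_le_left).toEquiv]

theorem card_Cx : Nat.card (Cx (φ zz)) = 3 ^ 9 * Nat.card h.Im := by
  rw [h.card_img le_rfl, inf_eq_right.2 (range_le φ), h.card_Q, img, subgroupOf_self, ← MonoidHom.range_eq_map]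
  rfl

theorem exp_card {D : Subgroup G} (hD : D ≤ Cx (φ zz)) (h3 : ∀ g ∈ D, g ^ 3 = 1) :
    Nat.card D ≤ 27 * Nat.card (D ⊓ φ.range : Subgroup G) := by
  rw [h.card_img hD, mul_comm]
  refine Nat.mul_le_mul_right _ (exp3_le ((h.img_le D).trans h.Im_le) fun s hs => ?_)
  obtain ⟨g, hg, rfl⟩ := (h.mem_img hD).1 hs
  rw [← h.ψpow (hD hg), h3 g hg, h.ψ1]

theorem conj (g : G) : HS ((MulAut.conj g).toMonoidHom.comp φ) (fun x => ψ (g⁻¹ * x * g)) (g * ρ * g⁻¹) := by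
  have e : ∀ a, ((MulAut.conj g).toMonoidHom.comp φ) a = g * φ a * g⁻¹ := fun _ => rfl
  have m : ∀ {x}, x ∈ Cx (g * φ zz * g⁻¹) → g⁻¹ * x * g ∈ Cx (φ zz) := fun hx => mem_cj.1 (by rwa [cj_Cx])
  have r : ((MulAut.conj g).toMonoidHom.comp φ).range = cj g φ.range := MonoidHom.range_comp _ _
  refine ⟨(MulAut.conj g).injective.comp h.inj, ?_, fun a ha b hb => ?_, fun x hx k => ?_, fun x hx a => ?_,
    fun x hx => h.mem _ (m hx), fun r hr => ?_, fun a => ?_, ?_⟩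
  · rw [r, e, ← cj_zpowers, ← cj_normalizer, ← cj_normalizer]; exact cj_mono g h.nQ
  · rw [← h.mul _ (m ha) _ (m hb)]; congr 1; group
  · rw [r, mem_cj]; exact h.ker _ (m hx) k
  · obtain ⟨k, hk⟩ := h.act _ (m hx) a
    exact ⟨k, by rw [e, e, ← hk]; group⟩
  · obtain ⟨x, hx, rfl⟩ := h.onR r hr
    exact ⟨g * x * g⁻¹, conj_mem_Cx.2 hx, by congr 1; group⟩
  · rw [e, e, ← h.ρa]; group
  · rw [conj_mul, h.ρρ]; group

omit h in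
theorem range_conj (g : G) : ((MulAut.conj g).toMonoidHom.comp φ).range = cj g φ.range := MonoidHom.range_comp _ _

omit h in
theorem range_tr (n : Sp) : (φ.comp (MulDistribMulAction.toMonoidHom He n⁻¹)).range = φ.range := by
  refine le_antisymm (by rintro _ ⟨a, rfl⟩; exact ⟨_, rfl⟩) ?_
  rintro _ ⟨a, rfl⟩
  exact ⟨n • a, congrArg φ (inv_smul_smul n a)⟩

omit h in
theorem tr_zz (n : Sp) : (φ.comp (MulDistribMulAction.toMonoidHom He n⁻¹)) zz = φ zz := congrArg φ (smul_zz _)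

theorem transport {n : Sp} (hn : n ∈ N1) :
    HS (φ.comp (MulDistribMulAction.toMonoidHom He n⁻¹)) (fun x => n * ψ x * n⁻¹) ρ := by
  have e : ∀ a, (φ.comp (MulDistribMulAction.toMonoidHom He n⁻¹)) a = φ (n⁻¹ • a) := fun _ => rfl
  refine ⟨h.inj.comp (MulAction.injective n⁻¹), ?_, ?_, ?_, ?_, ?_, ?_, fun a => ?_, h.ρρ⟩
  all_goals try rw [tr_zz]
  · rw [range_tr]; exact h.nQ
  · intro a ha b hb; rw [h.mul a ha b hb]; group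
  · intro x hx k; rw [range_tr]; exact h.ker x hx (by simpa using k)
  · intro x hx a
    obtain ⟨k, hk⟩ := h.act x hx (n⁻¹ • a)
    exact ⟨k, by rw [e, e, hk]; exact congrArg φ (He.ext (by simp [mul_smul]) rfl)⟩
  · exact fun x hx => mul_mem (mul_mem hn (h.mem x hx)) (inv_mem hn)
  · intro r hr
    obtain ⟨x, hx, k⟩ := h.onR _ (conj_Rm (inv_mem hn) hr)
    exact ⟨x, hx, by rw [k]; group⟩
  · rw [e, e, h.ρa, ← mul_smul, ← mul_smul, ng_comm]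

theorem Im_tr {n : Sp} (hn : n ∈ N1) : (h.transport hn).Im = cj n h.Im := Subgroup.ext fun s => by
  rw [mem_cj, HS.mem_Im, h.mem_Im, tr_zz]
  exact exists_congr fun g => and_congr_right fun _ => ⟨fun e => by rw [← e]; group, fun e => by rw [e]; group⟩

theorem cenT {T : Subgroup G} (QT : φ.range ≤ T) (e : ∀ q ∈ T, q * g = g * q) : g ∈ zpowers (φ zz) :=
  h.ez.cen _ (h.faith (mem_Cx.2 (e _ (QT ⟨zz, rfl⟩)).symm) fun q hq => by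
    rw [← e q (QT hq), mul_inv_cancel_right, mul_inv_cancel]; exact one_mem _) fun q hq => e q (QT hq)

theorem sylow {T : Subgroup G} (hT : IsSylowIn 3 T (Cx (φ zz))) : IsSylowIn 3 T ⊤ := by
  have : Fact (Nat.Prime 3) := ⟨by norm_num⟩
  have QT : φ.range ≤ T := hT.le_of_le_normalizer h.hz.two (range_le φ) fun g hg => h.norm_Q hg
  refine isSylowIn_of_isSylowIn_normalizer le_top (isSylowIn_of_maximal hT.pgroup (le_inf le_top le_normalizer)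
    fun R h3 TR RN => (hT.eq_of_le h3 TR fun y hy => ?_).le)
  have m : y * φ zz * y⁻¹ ∈ zpowers (φ zz) := h.cenT QT fun q hq => by
    calc _ = y * (y⁻¹ * q * y * φ zz) * y⁻¹ := by group
      _ = _ := by rw [mem_Cx.1 (hT.le (conj_mem_of_mem_normalizer' (RN hy).2 hq))]; group
  obtain ⟨k, hk⟩ := isPGroup_iff_mem.1 h3 y hy
  refine mem_Cx.2 (Rec3.comm_of_odd (Odd.pow (by decide)) hk ?_)
  exact (three_cases (z3 φ) m).resolve_left fun e => h.z1 (by simpa using e)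

theorem nw {Z : Subgroup G} (eZ : Z = zpowers (φ zz)) (S : Sylow 3 G) (hZS : Z ≤ S) (hg : cj g Z ≤ S)
    (hn : cj g Z ≠ Z) : ∃ g, g * φ zz * g⁻¹ ∈ Cx (φ zz) ∧ g * φ zz * g⁻¹ ∉ zpowers (φ zz) := by
  have : Fact (Nat.Prime 3) := ⟨by norm_num⟩
  by_contra hc
  push Not at hc
  obtain ⟨T, hT⟩ := exists_isSylowIn 3 (Cx (φ zz))
  obtain ⟨k, -, hk⟩ := (h.sylow hT).exists_cj_le S.isPGroup' le_top
  have key : ∀ g, cj g Z ≤ S → cj k (cj g Z) = Z := fun g hg => by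
    refine eq_of_le_of_card_ge ?_ (by rw [card_cj, card_cj])
    have := ((cj_mono k hg).trans hk).trans hT.le
    rw [← cj_mul, eZ, cj_zpowers, zpowers_le] at this ⊢
    exact hc _ this
  exact hn (cj_injective k ((key g hg).trans (by
    have := key 1 (by rwa [cj_one])
    rw [cj_one] at this
    exact this.symm)))

theorem tf {θ : E7 →* G} (θz : ∀ e, θ e ∈ Cx (φ zz)) (e : ∀ e, ψ (θ e) = rm e)
    (hc : Nat.card (Cx (φ zz)) = 3 ^ 9 * (128 * 648)) (t : AbT (φ zz) φ.range θ) : TF h.Im := by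
  obtain ⟨t, tz, t1, ⟨e3, t3⟩, tc⟩ := t
  have k : ∀ {g e}, g ∈ Cx (φ zz) → (g * (θ e)⁻¹ ∈ φ.range ↔ ψ g = rm e) := fun {g a} hg => by
    rw [← h.ker_iff (mul_mem hg (inv_mem (θz a))), h.mul _ hg _ (inv_mem (θz a)), h.ψinv (θz a), e, mul_inv_eq_one]
  refine ⟨by have := h.card_Cx; omega, ψ t, h.ψ_mem tz, fun ⟨a, ha⟩ => t1 a ((k tz).2 ha.symm),
    ⟨e3, by rw [← h.ψpow tz, (k (pow_mem tz 3)).1 t3]⟩, fun s hs => ?_⟩
  obtain ⟨g, hg, rfl⟩ := h.mem_Im.1 hs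
  obtain ⟨a, ha⟩ := tc g hg
  exact ⟨a, by rw [← h.ψcmt hg tz, (k (mul_mem (mul_mem (mul_mem hg tz) (inv_mem hg)) (inv_mem tz))).1 ha]⟩

theorem tb (hc : Nat.card (Cx (φ zz)) = 3 ^ 9 * (128 * 25920)) : TB h.Im := by
  have := h.card_Cx; unfold TB; omega

end HS

end CfsgLib.Rec3D
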