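import Cfsg.Agent.Lib.Rec3D.Defs
import Cfsg.Agent.Lib.ExtraTwo.Basic

/-! Quotients of `C(a)` by `⟨a⟩` (plans/REC3D.md). -/

set_option autoImplicit false
set_option maxRecDepth 100000
set_option linter.unusedSectionVars false
set_option linter.unusedVariables false

namespace CfsgLib.Rec3D

open Subgroup Cfsg CfsgLib.Tech CfsgLib.W2 CfsgLib.Rec3B Matrix
open CfsgLib.U43 (SL)

open Es FT

variable {G Y : Type*} [Group G] [Finite G] [Group Y] [Finite Y]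

/-- `F` is the quotient map `C(a) → C(a) / ⟨a⟩` -/
structure QT (a : G) (F : G → Y) : Prop where
  a2 : a * a = 1
  mul : ∀ g ∈ Cx a, ∀ k ∈ Cx a, F (g * k) = F g * F k
  surj : ∀ x, ∃ g ∈ Cx a, F g = x
  ker : ∀ g ∈ Cx a, F g = 1 ↔ g ∈ zpowers a

theorem exists_QT {a : G} (a2 : a * a = 1) (f : Cx a →* Y) (hf : Function.Surjective f)
    (hk : ∀ x, f x = 1 ↔ x.1 ∈ zpowers a) : ∃ F : G → Y, QT a F ∧ ∀ x : Cx a, F x = f x := by
  classical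
  refine ⟨fun g => if hg : g ∈ Cx a then f ⟨g, hg⟩ else 1, ⟨a2, fun g hg k hk => ?_, fun x => ?_, fun g hg => ?_⟩,
    fun x => dif_pos x.2⟩
  · rw [dif_pos hg, dif_pos hk, dif_pos (mul_mem hg hk), ← map_mul]; rfl
  · obtain ⟨y, rfl⟩ := hf x
    exact ⟨y, y.2, dif_pos y.2⟩
  · rw [dif_pos hg, hk]

namespace QT

variable {a g k x : G} {F : G → Y} {D : Subgroup G} (q : QT a F)
include q

def hom : Cx a →* Y := MonoidHom.mk' (fun g => F g) fun g k => q.mul g g.2 k k.2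

theorem one : F 1 = 1 := q.hom.map_one
theorem inv (hg : g ∈ Cx a) : F g⁻¹ = (F g)⁻¹ := q.hom.map_inv ⟨g, hg⟩
theorem pow (hg : g ∈ Cx a) (n : ℕ) : F (g ^ n) = F g ^ n := q.hom.map_pow ⟨g, hg⟩ n
theorem cnj (hg : g ∈ Cx a) (hk : k ∈ Cx a) : F (g * k * g⁻¹) = F g * F k * (F g)⁻¹ := by
  rw [q.mul _ (mul_mem hg hk) _ (inv_mem hg), q.mul _ hg _ hk, q.inv hg]
theorem cmt (hg : g ∈ Cx a) (hk : k ∈ Cx a) : F (g * k * g⁻¹ * k⁻¹) = F g * F k * (F g)⁻¹ * (F k)⁻¹ := by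
  rw [q.mul _ (mul_mem (mul_mem hg hk) (inv_mem hg)) _ (inv_mem hk), q.cnj hg hk, q.inv hk]

omit q in
theorem aa_mem : a ∈ Cx a := mem_Cx.2 rfl

theorem Fa : F a = 1 := (q.ker a aa_mem).2 (mem_zpowers a)

theorem eq_cases (hg : g ∈ Cx a) (hk : k ∈ Cx a) (e : F g = F k) : g = k ∨ g = a * k := by
  have := (q.ker _ (mul_mem hg (inv_mem hk))).1 (by rw [q.mul _ hg _ (inv_mem hk), q.inv hk, e, mul_inv_cancel])
  exact ((ExtraTwo.mem_zpowers_iff_of_mul_self q.a2).1 this).imp mul_inv_eq_one.1 mul_inv_eq_iff_eq_mul.1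

theorem eq_of_cube (hg : g ∈ Cx a) (hk : k ∈ Cx a) (g3 : g ^ 3 = 1) (k3 : k ^ 3 = 1) (e : F g = F k) : g = k := by
  rcases q.eq_cases hg hk e with e | e
  · exact e
  · rw [e, (show Commute a k from (mem_Cx.1 hk).symm).mul_pow, k3, mul_one] at g3
    rw [e, eq_one g3 q.a2, one_mul]

theorem cent (hg : g ∈ Cx a) (hx : x ∈ Cx a) (x3 : x ^ 3 = 1) : F g ∈ Cx (F x) ↔ g ∈ Cx x := by
  rw [mem_Cx', mem_Cx', ← q.cnj hg hx]
  exact ⟨q.eq_of_cube (mul_mem (mul_mem hg hx) (inv_mem hg)) hx (conj3 x3 g) x3, congrArg F⟩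

theorem zp_of (hx : x ∈ Cx a) (e : g ∈ zpowers x) : F g ∈ zpowers (F x) := by
  obtain ⟨n, rfl⟩ := e
  exact ⟨n, (q.hom.map_zpow ⟨x, hx⟩ n).symm⟩

theorem zp (hg : g ∈ Cx a) (hx : x ∈ Cx a) (g3 : g ^ 3 = 1) (x3 : x ^ 3 = 1) (e : F g ∈ zpowers (F x)) :
    g ∈ zpowers x := by
  obtain ⟨n, hn⟩ := e
  have m : x ^ n ∈ zpowers x := ⟨n, rfl⟩
  rwa [q.eq_of_cube hg (zpow_mem hx n) g3 (zcube x3 m) (hn.symm.trans (q.hom.map_zpow ⟨x, hx⟩ n).symm)]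

/-- the image of `D ∩ C(a)` -/
def bar (D : Subgroup G) : Subgroup Y := (D.subgroupOf (Cx a)).map q.hom

theorem mem_bar {y : Y} : y ∈ q.bar D ↔ ∃ g ∈ D, g ∈ Cx a ∧ F g = y :=
  ⟨fun ⟨g, hg, e⟩ => ⟨g.1, hg, g.2, e⟩, fun ⟨g, hg, ha, e⟩ => ⟨⟨g, ha⟩, hg, e⟩⟩

theorem bar_mem (hg : g ∈ D) (ha : g ∈ Cx a) : F g ∈ q.bar D := q.mem_bar.2 ⟨g, hg, ha, rfl⟩

theorem bar_mono {E : Subgroup G} (h : D ≤ E) : q.bar D ≤ q.bar E := map_mono (comap_mono h)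

theorem card_bar (hD : D ≤ Cx a) : Nat.card D = Nat.card (D ⊓ zpowers a : Subgroup G) * Nat.card (q.bar D) := by
  let f := q.hom.comp (inclusion hD)
  have e1 : f.ker = (D ⊓ zpowers a).subgroupOf D := Subgroup.ext fun x => by
    rw [mem_subgroupOf, mem_inf, and_iff_right x.2]; exact q.ker _ (hD x.2)
  have e2 : f.range = q.bar D := Subgroup.ext fun s => by
    rw [q.mem_bar]
    exact ⟨fun ⟨x, e⟩ => ⟨x.1, x.2, hD x.2, e⟩, fun ⟨g, hg, _, e⟩ => ⟨⟨g, hg⟩, e⟩⟩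
  rw [← f.ker.card_mul_index, index_ker, e1, e2, Nat.card_congr (subgroupOfEquivOfLe inf_le_left).toEquiv]

theorem card_bar3 (hD : D ≤ Cx a) (h3 : ∀ g ∈ D, g ^ 3 = 1) : Nat.card (q.bar D) = Nat.card D := by
  rw [q.card_bar hD, eq_bot_iff.2 (show D ⊓ zpowers a ≤ ⊥ from fun g hg => eq_one (h3 g hg.1) (by
    rcases (ExtraTwo.mem_zpowers_iff_of_mul_self q.a2).1 hg.2 with rfl | rfl
    exacts [mul_one _, q.a2])), card_bot, one_mul]

theorem card_bar2 (hD : D ≤ Cx a) (ha : a ∈ D) (a1 : a ≠ 1) : Nat.card D = 2 * Nat.card (q.bar D) := by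
  rw [q.card_bar hD, inf_eq_right.2 (zpowers_le.2 ha), Nat.card_zpowers,
    orderOf_eq_prime (by rw [sq, q.a2]) a1]

end QT

theorem Hb_cen {S : Set (Fin 4)} {b : He} (hb : b ∈ Hb S) (e : ∀ k ∈ Hb S, k * b = b * k) : b.v = 0 := by
  classical
  refine B0_nondeg fun w => ?_
  have := (He.comm_iff (a := b) (b := ⟨unb fun k => if k ∈ S then blk w k else 0, 0⟩)).1
    (e _ fun l hl => by simp [hl]).symm
  rw [B0_blk] at this ⊢
  rw [← this]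
  refine Finset.sum_congr rfl fun k _ => ?_
  by_cases hk : k ∈ S
  · simp [hk]
  · simp [hb k hk, b2]

theorem card_Hb (S : Set (Fin 4)) : Nat.card (Hb S) = 9 ^ Nat.card S * 3 := by
  classical
  have e : Hb S ≃ (S → Fin 2 → ZMod 3) × ZMod 3 :=
    ⟨fun b => (fun k => blk b.1.v k, b.1.c), fun p => ⟨⟨unb fun k => if hk : k ∈ S then p.1 ⟨k, hk⟩ else 0, p.2⟩,
      fun l hl => by simp [hl]⟩, fun b => Subtype.ext (He.ext (blk_ext fun k => by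
        by_cases hk : k ∈ S
        · simp [hk]
        · simp [hk, b.2 k hk]) rfl), fun p => Prod.ext (funext fun k => by simp [k.2]) rfl⟩
  rw [Nat.card_congr e, Nat.card_prod, Nat.card_fun, Nat.card_fun]
  simp

theorem Hb_comm {i j : Fin 4} (e : i ≠ j) {b c : He} (hb : b ∈ Hb {i}) (hc : c ∈ Hb {j}) : b * c = c * b :=
  He.comm_iff.2 (by
    rw [B0_blk]
    refine Finset.sum_eq_zero fun k _ => ?_
    by_cases hk : k = i
    · simp [hc k (hk ▸ e), b2]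
    · simp [hb k hk, b2])

theorem Hb_sup : Hb {1, 2, 3} ≤ Hb {1} ⊔ Hb {2} ⊔ Hb {3} := fun b hb => by
  let w : Fin 4 → He := fun i => ⟨unb (Pi.single i (blk b.v i)), 0⟩
  have m : ∀ i, w i ∈ Hb {i} := fun i l hl => by simp [w, Pi.single_eq_of_ne (show l ≠ i from hl)]
  have : b * (w 1 * w 2 * w 3)⁻¹ ∈ Hb {1} := fun l _ => by
    have := hb 0 (by simp)
    fin_cases l <;> simp [w, this]
  rw [← inv_mul_cancel_right b (w 1 * w 2 * w 3)]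
  exact mul_mem (mem_sup_left (mem_sup_left this)) (mul_mem (mul_mem (mem_sup_left (mem_sup_left (m 1)))
    (mem_sup_left (mem_sup_right (m 2)))) (mem_sup_right (m 3)))

end CfsgLib.Rec3D
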