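import Cfsg.Agent.Lib.Rec3D.Three
import Cfsg.Agent.Lib.Rec3D.Quo

/-! The centraliser of `z` in `C(a) / ⟨a⟩`, CEN (plans/REC3D.md). -/

set_option autoImplicit false
set_option maxRecDepth 100000
set_option linter.unusedSectionVars false
set_option linter.unusedVariables false

namespace CfsgLib.Rec3D

open Subgroup Cfsg CfsgLib.Tech CfsgLib.W2 CfsgLib.Rec3B Matrix
open CfsgLib.U43 (SL)

open Es FT

variable {G Y : Type*} [Group G] [Finite G] [Group Y] [Finite Y] {φ : He →* G} {ψ : G → Sp} {ρ g c a : G}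
  {K : Subgroup Sp} {F : G → Y}

theorem aa_facts : aa ∉ Rm ∧ aa ≠ 1 ∧ c3 * aa = aa * c3 ∧ (∀ r ∈ [uu, vv, i3, j3], r ∈ Rm ∧ r * aa = aa * r) ∧
    bd ![.o 1, 1, 1, 1] = aa ∧ t1 ∈ Rm ∧ t1 * aa * t1⁻¹ ≠ aa ∧ t1 * aa * t1⁻¹ * aa = aa * (t1 * aa * t1⁻¹) := by
  decide +kernel

theorem aa_cases {s : Sp} : s ∈ zpowers aa ↔ s = 1 ∨ s = aa := ExtraTwo.mem_zpowers_iff_of_mul_self aa_sq

namespace HA

variable (h : HA φ ψ ρ a K)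
include h

theorem eI : K = h.toHS.Im := Subgroup.ext fun s => (h.im s).trans h.toHS.mem_Im.symm
theorem K1 : K ≤ N1 := h.eI ▸ h.toHS.Im_le
theorem K0 : N0 ≤ K := h.eK.elim (fun e => e.ge) fun e => N0_le.trans e.ge
theorem ψK (hg : g ∈ Cx (φ zz)) : ψ g ∈ K := (h.im _).2 ⟨g, hg, rfl⟩
theorem a1 : a ≠ 1 := fun e => aa_facts.2.1 (by rw [← h.ψa, e, h.toHS.ψ1])
theorem za : φ zz ∈ Cx a := Cx_comm.1 h.az

theorem ψ_comm (hg : g ∈ Cx (φ zz)) (ha : g ∈ Cx a) : ψ g * aa = aa * ψ g := by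
  rw [← h.ψa, ← h.mul _ hg _ h.az, mem_Cx.1 ha, h.mul _ h.az _ hg]

theorem liftA {s : Sp} (hs : s ∈ K) (e : s * aa = aa * s) : ∃ c ∈ Cx (φ zz), c ∈ Cx ρ ∧ c ∈ Cx a ∧ ψ c = s := by
  obtain ⟨c, h1, h2, rfl⟩ := h.toHS.lift (h.eI ▸ hs)
  refine ⟨c, h1, h2, h.toHS.commX h.az h.aρ h1 h2 ?_ (by rw [h.ψa, e]), rfl⟩
  rw [show 8 = 2 * 4 from rfl, pow_mul, sq, h.a2, one_pow]

theorem φa {b : He} : φ b ∈ Cx a ↔ b ∈ Hb {1, 2, 3} := by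
  rw [Cx_comm, mem_Cx', h.toHS.actX h.az h.aρ, h.ψa, h.inj.eq_iff, He.ext_iff, He.smul_v, fix_aa, He.smul_c, mem_Hb]
  refine ⟨fun e l hl => ?_, fun e => ⟨e 0 (by simp), rfl⟩⟩
  fin_cases l <;> first | exact e.1 | simp at hl

theorem Hb_le {S : Set (Fin 4)} (hS : 0 ∉ S) : (Hb S).map φ ≤ Cx a := by
  rintro _ ⟨b, hb, rfl⟩
  refine h.φa.2 fun l hl => ?_
  fin_cases l <;> first | exact hb 0 hS | simp at hl

theorem eQa : (Hb {1, 2, 3}).map φ = φ.range ⊓ Cx a := le_antisymm (le_inf (map_le_range _ _) (h.Hb_le (by simp)))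
  (by rintro _ ⟨⟨b, rfl⟩, hb⟩; exact ⟨b, h.φa.1 hb, rfl⟩)

/-- the preimage of `S` in `C(z, a)` -/
noncomputable def pre (S : Subgroup Sp) : Subgroup G := (S.comap h.toHS.hom).map (Cx (φ zz)).subtype ⊓ Cx a

theorem mem_pre {S : Subgroup Sp} : g ∈ h.pre S ↔ g ∈ Cx (φ zz) ∧ g ∈ Cx a ∧ ψ g ∈ S :=
  ⟨fun ⟨⟨x, hx, e⟩, ha⟩ => e ▸ ⟨x.2, e ▸ ha, hx⟩, fun ⟨h1, h2, h3⟩ => ⟨⟨⟨g, h1⟩, h3, rfl⟩, h2⟩⟩

theorem aPK : aa ∈ PK K := ⟨h.K0 mems.1, _, show ∀ k, _ ^ 4 = 1 by decide +kernel, aa_facts.2.2.2.2.1⟩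

theorem card_pre : Nat.card (h.pre (PK K)) = 3 ^ 7 * Nat.card (PK K) := by
  have le : h.pre (PK K) ≤ Cx (φ zz) := fun g hg => (h.mem_pre.1 hg).1
  have e1 : h.pre (PK K) ⊓ φ.range = (Hb {1, 2, 3}).map φ := by
    rw [h.eQa]
    refine le_antisymm (fun g hg => ⟨hg.2, hg.1.2⟩) fun g hg => ⟨h.mem_pre.2 ⟨range_le φ hg.1, hg.2, ?_⟩, hg.1⟩
    rw [(h.toHS.ker_iff (range_le φ hg.1)).2 hg.1]; exact one_mem _
  have e2 : h.toHS.img (h.pre (PK K)) = PK K := Subgroup.ext fun s => by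
    rw [h.toHS.mem_img le]
    refine ⟨by rintro ⟨g, hg, rfl⟩; exact (h.mem_pre.1 hg).2.2, fun hs => ?_⟩
    obtain ⟨c, h1, -, h3, e⟩ := h.liftA hs.1 (by obtain ⟨γ, -, rfl⟩ := hs.2; exact bd_aa γ)
    exact ⟨c, h.mem_pre.2 ⟨h1, h3, e ▸ hs⟩, e⟩
  rw [h.toHS.card_img le, e1, e2, card_map_of_injective h.inj, card_Hb]
  simp

variable (q : QT a F)
include q

theorem centZ {y : Y} (hy : y ∈ Cx (F (φ zz))) : ∃ g ∈ Cx (φ zz), g ∈ Cx a ∧ F g = y := by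
  obtain ⟨g, hg, rfl⟩ := q.surj y
  exact ⟨g, (q.cent hg h.za (z3 φ)).1 hy, hg, rfl⟩

theorem centZ' (hg : g ∈ Cx (φ zz)) (ha : g ∈ Cx a) : F g ∈ Cx (F (φ zz)) := (q.cent ha h.za (z3 φ)).2 hg

theorem barQ (hg : g ∈ Cx (φ zz)) (ha : g ∈ Cx a) : F g ∈ q.bar ((Hb {1, 2, 3}).map φ) ↔ ψ g ∈ zpowers aa := by
  rw [h.eQa, aa_cases, q.mem_bar]
  constructor
  · rintro ⟨k, hk, ka, e⟩
    have k1 := (h.toHS.ker_iff (range_le φ hk.1)).2 hk.1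
    rcases q.eq_cases ha ka e.symm with rfl | rfl
    · exact Or.inl k1
    · exact Or.inr (by rw [h.mul _ h.az _ (range_le φ hk.1), k1, h.ψa, mul_one])
  · rintro (e | e)
    · exact ⟨g, ⟨h.ker g hg e, ha⟩, ha, rfl⟩
    · have m := mul_mem ha (inv_mem QT.aa_mem)
      exact ⟨g * a⁻¹, ⟨h.toHS.mem_of_eq hg h.az (e.trans h.ψa.symm), m⟩, m, by
        rw [q.mul _ ha _ (inv_mem QT.aa_mem), q.inv QT.aa_mem, q.Fa, inv_one, mul_one]⟩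

theorem ezS {S : Set (Fin 4)} (hS : 0 ∉ S) : Ez (q.bar ((Hb S).map φ)) (F (φ zz)) := by
  have m : ∀ {y}, y ∈ q.bar ((Hb S).map φ) → ∃ b ∈ Hb S, φ b ∈ Cx a ∧ F (φ b) = y := fun hy => by
    obtain ⟨_, ⟨b, hb, rfl⟩, e⟩ := q.mem_bar.1 hy
    exact ⟨b, hb, e⟩
  refine ⟨⟨isPGroup_iff_mem.2 fun y hy => ?_, q.bar_mem ⟨zz, fun _ _ => rfl, rfl⟩ h.za, fun e => h.toHS.z1 ?_,
    by rw [← q.pow h.za, z3, q.one], fun y hy => ?_, fun x hx y hy => ?_⟩, fun y hy e => ?_⟩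
  · obtain ⟨b, -, ba, rfl⟩ := m hy
    exact ⟨1, by rw [pow_one, ← q.pow ba, Q3, q.one]⟩
  · exact q.eq_of_cube h.za (one_mem _) (z3 φ) (one_pow _) (e.trans q.one.symm)
  · obtain ⟨b, -, ba, rfl⟩ := m hy
    exact h.centZ' q (Qz φ b) ba
  · obtain ⟨b, -, ba, rfl⟩ := m hx
    obtain ⟨c, -, ca, rfl⟩ := m hy
    rw [← q.cmt ba ca]
    exact q.zp_of h.za (h.toHS.hz.cmt _ ⟨b, rfl⟩ _ ⟨c, rfl⟩)
  · obtain ⟨b, hb, ba, rfl⟩ := m hy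
    refine q.zp_of h.za (mem_Z_of φ (Hb_cen hb fun k hk => h.inj ?_))
    have ka := h.Hb_le hS ⟨k, hk, rfl⟩
    rw [map_mul, map_mul]
    exact mem_Cx.1 ((q.cent ka ba (Q3 φ b)).1 (mem_Cx.2 (e _ (q.bar_mem ⟨k, hk, rfl⟩ ka))))

theorem cardS {S : Set (Fin 4)} (hS : 0 ∉ S) : Nat.card (q.bar ((Hb S).map φ)) = 9 ^ Nat.card S * 3 := by
  rw [q.card_bar3 (h.Hb_le hS) (by rintro _ ⟨b, -, rfl⟩; exact Q3 φ b), card_map_of_injective h.inj, card_Hb]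

theorem normZ {y : Y} (hy : y ∈ normalizer (zpowers (F (φ zz)) : Set Y)) :
    ∃ g ∈ normalizer (zpowers (φ zz) : Set G), g ∈ Cx a ∧ F g = y := by
  obtain ⟨g, hg, rfl⟩ := q.surj y
  refine ⟨g, mem_normalizer_of_cj_le ?_, hg, rfl⟩
  rw [cj_zpowers, zpowers_le]
  refine q.zp (mul_mem (mul_mem hg h.za) (inv_mem hg)) h.za (conj3 (z3 φ) g) (z3 φ) ?_
  rw [q.cnj hg h.za]
  exact conj_mem_of_mem_normalizer hy (mem_zpowers _)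

theorem core {N : Subgroup Y} (h1 : N ≤ Cx (F (φ zz))) (h2 : Cx (F (φ zz)) ≤ normalizer (N : Set Y))
    (h3 : IsPGroup 3 N) : N ≤ q.bar ((Hb {1, 2, 3}).map φ) := fun y hy => by
  have key : ∀ g ∈ Cx (φ zz), g ∈ Cx a → F g ∈ N → ∃ n, ψ g ^ 3 ^ n ∈ zpowers aa := fun g hg ha hN => by
    obtain ⟨n, hn⟩ := isPGroup_iff_mem.1 h3 _ hN
    refine ⟨n, ?_⟩
    rw [← h.toHS.ψpow hg, ← h.barQ q (pow_mem hg _) (pow_mem ha _), q.pow ha, hn]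
    exact one_mem _
  obtain ⟨g, hg, ha, rfl⟩ := h.centZ q (h1 hy)
  have cm : ∀ r ∈ [uu, vv, i3, j3], ψ g * r = r * ψ g := fun r hr => by
    obtain ⟨r1, r2⟩ := aa_facts.2.2.2.1 r hr
    obtain ⟨c, cz, -, ca, rfl⟩ := h.liftA (h.K0 (mems.2.2.2.2.2 r1)) r2
    obtain ⟨n, hn⟩ := key _ (mul_mem (mul_mem (mul_mem hg cz) (inv_mem hg)) (inv_mem cz))
      (mul_mem (mul_mem (mul_mem ha ca) (inv_mem ha)) (inv_mem ca)) (by
        have := mul_mem hy (conj_mem_of_mem_normalizer (h2 (h.centZ' q cz ca)) (inv_mem hy))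
        rwa [q.cmt ha ca, mul_assoc, mul_assoc, ← mul_assoc (F c)])
    rw [h.toHS.ψcmt hg cz] at hn
    have m := mul_mem (conj_Rm (h.mem g hg) r1) (inv_mem r1)
    have e1 := (aa_cases.1 hn).resolve_right fun e => aa_facts.1 (e ▸ pow_mem m _)
    have := pow_gcd_eq_one.2 ⟨e1, Rm_pow m⟩
    rw [Nat.Coprime.gcd_eq_one (Nat.Coprime.pow_left _ (by norm_num)), pow_one, mul_inv_eq_one,
      mul_inv_eq_iff_eq_mul] at this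
    exact this
  obtain ⟨n, hn⟩ := key g hg ha hy
  have e2 : ψ g ^ 2 = 1 := cent_core (n := n) (fun r hr => (Commute.pow_left (cm r hr) 2).eq) (by
    rw [← pow_mul, mul_comm, pow_mul]
    rcases aa_cases.1 hn with e | e <;> rw [e]
    exacts [one_pow _, by rw [sq, aa_sq]])
  obtain ⟨m, hm⟩ : Odd (3 ^ n) := Odd.pow (by decide)
  rw [hm, pow_succ, pow_mul, e2, one_pow, one_mul] at hn
  exact (h.barQ q hg ha).2 hn

theorem preC {c : ℕ} (hc : Nat.card (PK K) = 2 * c) : PreC c (F (φ zz)) (q.bar ((Hb {1, 2, 3}).map φ))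
    (q.bar (h.pre (PK K))) fun i => q.bar ((Hb {i.succ}).map φ) := by
  have s0 : ∀ i : Fin 3, (0 : Fin 4) ∉ ({i.succ} : Set (Fin 4)) := fun i e => Fin.succ_ne_zero i e.symm
  have mS : ∀ {S y}, y ∈ q.bar ((Hb S).map φ) → ∃ b ∈ Hb S, φ b ∈ Cx a ∧ F (φ b) = y := fun hy => by
    obtain ⟨_, ⟨b, hb, rfl⟩, e⟩ := q.mem_bar.1 hy
    exact ⟨b, hb, e⟩
  have mP : ∀ {y}, y ∈ q.bar (h.pre (PK K)) → ∃ g ∈ Cx (φ zz), g ∈ Cx a ∧ ψ g ∈ PK K ∧ F g = y := fun hy => by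
    obtain ⟨g, hg, ha, e⟩ := q.mem_bar.1 hy
    exact ⟨g, (h.mem_pre.1 hg).1, ha, (h.mem_pre.1 hg).2.2, e⟩
  have le : ∀ i : Fin 3, q.bar ((Hb {i.succ}).map φ) ≤ q.bar ((Hb {1, 2, 3}).map φ) := fun i =>
    q.bar_mono (h.eQa ▸ le_inf (map_le_range _ _) (h.Hb_le (s0 i)))
  refine ⟨h.ezS q (by simp), fun i => h.ezS q (s0 i), le, fun y hy => ?_, by rw [h.cardS q (by simp)]; simp,
    fun i => by rw [h.cardS q (s0 i)]; simp, fun i j e x hx y hy => ?_,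
    le_antisymm (sup_le (sup_le (le 0) (le 1)) (le 2)) fun y hy => ?_, fun y hy e => ?_,
    fun N => h.core q, q.bar_mono fun g hg => ?_, fun y hy => ?_, fun y hy => ?_, ?_, fun i y hy => ?_,
    fun N h1 h2 h3 y hy => ?_, fun i => ?_⟩
  · obtain ⟨g, hg, ha, rfl⟩ := h.normZ q hy
    refine mem_normalizer_of_forall fun x hx => ?_
    obtain ⟨k, hk, ka, rfl⟩ := q.mem_bar.1 hx
    have m := mul_mem (mul_mem ha ka) (inv_mem ha)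
    rw [← q.cnj ha ka]
    rw [h.eQa] at hk ⊢
    exact q.bar_mem ⟨conj_mem_of_mem_normalizer (h.nQ hg) hk.1, m⟩ m
  · obtain ⟨b, hb, ba, rfl⟩ := mS hx
    obtain ⟨c, hc, ca, rfl⟩ := mS hy
    rw [← q.mul _ ba _ ca, ← q.mul _ ca _ ba, ← map_mul, ← map_mul,
      Hb_comm (fun k => e (Fin.succ_injective _ k)) hb hc]
  · obtain ⟨b, hb, ba, rfl⟩ := mS hy
    have : Hb {1} ⊔ Hb {2} ⊔ Hb {3} ≤ (((q.bar ((Hb {Fin.succ 0}).map φ) ⊔ q.bar ((Hb {Fin.succ 1}).map φ) ⊔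
        q.bar ((Hb {Fin.succ 2}).map φ)).comap q.hom).map (Cx a).subtype).comap φ := by
      refine sup_le (sup_le ?_ ?_) ?_ <;> intro k hk
      · exact ⟨⟨_, h.Hb_le (s0 0) ⟨k, hk, rfl⟩⟩, mem_sup_left (mem_sup_left ⟨_, ⟨k, hk, rfl⟩, rfl⟩), rfl⟩
      · exact ⟨⟨_, h.Hb_le (s0 1) ⟨k, hk, rfl⟩⟩, mem_sup_left (mem_sup_right ⟨_, ⟨k, hk, rfl⟩, rfl⟩), rfl⟩
      · exact ⟨⟨_, h.Hb_le (s0 2) ⟨k, hk, rfl⟩⟩, mem_sup_right ⟨_, ⟨k, hk, rfl⟩, rfl⟩, rfl⟩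
    obtain ⟨x, hx, e⟩ := this (Hb_sup hb)
    exact e ▸ hx
  · obtain ⟨g, hg, ha, rfl⟩ := h.centZ q hy
    refine (h.barQ q hg ha).2 (aa_cases.2 (triv_on (h.mem g hg) (h.ψ_comm hg ha) fun v hv => ?_))
    have hb : (⟨v, 0⟩ : He) ∈ Hb {1, 2, 3} := fun l hl => by fin_cases l <;> first | exact hv | simp at hl
    exact h.toHS.fix_v hg (a := ⟨v, 0⟩) ((q.cent ha (h.φa.2 hb) (Q3 φ _)).1
      (mem_Cx.2 (e _ (q.bar_mem ⟨_, hb, rfl⟩ (h.φa.2 hb))).symm))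
  · rw [h.eQa] at hg
    refine h.mem_pre.2 ⟨range_le φ hg.1, hg.2, ?_⟩
    rw [(h.toHS.ker_iff (range_le φ hg.1)).2 hg.1]; exact one_mem _
  · obtain ⟨g, hg, ha, -, rfl⟩ := mP hy
    exact h.centZ' q hg ha
  · obtain ⟨g, hg, ha, rfl⟩ := h.centZ q hy
    refine mem_normalizer_of_forall fun x hx => ?_
    obtain ⟨k, hk, ka, kP, rfl⟩ := mP hx
    have m := mul_mem (mul_mem ha ka) (inv_mem ha)
    rw [← q.cnj ha ka]
    refine q.bar_mem (h.mem_pre.2 ⟨mul_mem (mul_mem hg hk) (inv_mem hg), m, ?_⟩) m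
    rw [h.toHS.ψcj hg hk]
    exact PK_norm h.K1 (h.ψK hg) (h.ψ_comm hg ha) kP
  · have := q.card_bar2 (D := h.pre (PK K)) inf_le_right (h.mem_pre.2 ⟨h.az, QT.aa_mem, h.ψa ▸ h.aPK⟩) h.a1
    rw [h.card_pre, hc] at this
    omega
  · obtain ⟨g, hg, ha, ⟨-, γ, -, e⟩, rfl⟩ := mP hy
    refine mem_normalizer_of_forall fun x hx => ?_
    obtain ⟨b, hb, ba, rfl⟩ := mS hx
    obtain ⟨k, hk⟩ := h.act g hg b
    rw [← q.cnj ha ba]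
    refine q.bar_mem ⟨_, fun l hl => ?_, hk.symm⟩ (mul_mem (mul_mem ha ba) (inv_mem ha))
    rw [← e, blk_bd, hb l hl, mulVec_zero]
  · obtain ⟨g, hg, ha, rfl⟩ := h.centZ q (h1 hy)
    obtain ⟨c, cz, -, ca, e⟩ := h.liftA (h.K0 mems.2.1) aa_facts.2.2.1
    refine q.bar_mem (h.mem_pre.2 ⟨hg, ha, h.ψK hg, PK_max (h.mem g hg) (h.ψ_comm hg ha) ?_ ?_⟩) ha
    · rw [← h.toHS.ψpow hg, ← h.barQ q (pow_mem hg _) (pow_mem ha _), q.pow ha]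
      exact h3 _ hy
    · have m1 := mul_mem (mul_mem (mul_mem hg cz) (inv_mem hg)) (inv_mem cz)
      have m2 := mul_mem (mul_mem (mul_mem ha ca) (inv_mem ha)) (inv_mem ca)
      rw [← e, ← h.toHS.ψcmt hg cz, ← h.toHS.ψpow m1, ← h.barQ q (pow_mem m1 _) (pow_mem m2 _), q.pow m2]
      refine h3 _ ?_
      have := mul_mem hy (conj_mem_of_mem_normalizer (h2 (h.centZ' q cz ca)) (inv_mem hy))
      rwa [q.cmt ha ca, mul_assoc, mul_assoc, ← mul_assoc (F c)]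
  · obtain ⟨c, cz, cρ, ca, e⟩ := h.liftA (h.K0 (sign_mem i.succ)) (bd_aa _)
    have m1 : m2 (.o 1) = -1 := by decide +kernel
    have m0 : m2 1 = 1 := by decide +kernel
    refine ⟨F c, q.bar_mem (h.mem_pre.2 ⟨cz, ca, h.ψK cz, _, fun k => ?_, e.symm⟩) ca, fun y hy => ?_,
      fun j hj y hy => ?_⟩
    · by_cases hk : k = i.succ
      · rw [hk, Pi.mulSingle_eq_same]; decide +kernel
      · rw [Pi.mulSingle_eq_of_ne hk, one_pow]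
    · obtain ⟨b, hb, ba, rfl⟩ := mS hy
      rw [← q.cnj ca ba, ← q.mul _ (mul_mem (mul_mem ca ba) (inv_mem ca)) _ ba, h.toHS.actX cz cρ, ← map_mul, e]
      refine q.zp_of h.za (mem_Z_of φ (blk_ext fun k => ?_))
      by_cases hk : k = i.succ
      · simp [blk_bd, hk, m1, neg_mulVec]
      · simp [blk_bd, hb k hk]
    · obtain ⟨b, hb, ba, rfl⟩ := mS hy
      rw [← q.cmt ca ba, h.toHS.actX cz cρ, ← map_inv, ← map_mul, e]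
      refine q.zp_of h.za (mem_Z_of φ (blk_ext fun k => ?_))
      by_cases hk : k = i.succ
      · simp [blk_bd, hb k (fun e => hj (Fin.succ_injective _ (e.symm.trans hk)))]
      · simp [blk_bd, Pi.mulSingle_eq_of_ne hk, m0]

theorem cnjQ : ∃ g, g * F (φ zz) * g⁻¹ ∈ q.bar ((Hb {1, 2, 3}).map φ) ∧ g * F (φ zz) * g⁻¹ ∉ zpowers (F (φ zz)) := by
  obtain ⟨p, pa, h1, h2⟩ := h.cnj
  have m := mul_mem (mul_mem pa h.za) (inv_mem pa)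
  refine ⟨F p, ?_, fun e => h2 (q.zp m h.za (conj3 (z3 φ) p) (z3 φ) (by rwa [q.cnj pa h.za]))⟩
  rw [← q.cnj pa h.za, h.eQa]
  exact q.bar_mem ⟨h1, m⟩ m

end HA

end CfsgLib.Rec3D
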