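import Cfsg.Agent.Lib.Rec3D.Fin23
import Cfsg.Agent.Lib.PGroup.Extraspecial
import Cfsg.Prelude.Def_LieTwisted

/-! The case `B`: the centraliser of `a` (plans/REC3D.md). -/

set_option autoImplicit false
set_option maxRecDepth 100000
set_option linter.unusedSectionVars false
set_option linter.unusedVariables false

namespace CfsgLib.Rec3D

open Subgroup Cfsg CfsgLib.Tech CfsgLib.W2 CfsgLib.Rec3B Matrix
open CfsgLib.U43 (SL)

open Es FT

universe u

/-- the recognition theorem for `²E₆(2)` -/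
def St3337 : Prop := ∀ {G : Type u} [Group G] [Finite G]
    (H : Subgroup G) (Q : Subgroup H) (hQF : Q = Cfsg.generalizedFittingSubgroup H) [hQn : Q.Normal]
    (hQex : Cfsg.IsExtraspecial 3 Q) (hQcard : Nat.card Q = 3 ^ 7)
    (hZZ : (Subgroup.center Q).map Q.subtype = Subgroup.center H)
    (eO : Cfsg.pCore 2 (H ⧸ Q) ≃* QuaternionGroup 2 × QuaternionGroup 2 × QuaternionGroup 2)
    (Z : Subgroup G) (hZ : Z = (Subgroup.center H).map H.subtype) (hHC : H = Subgroup.centralizer (Z : Set G))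
    (S : Sylow 3 G) (hZS : Z ≤ S) (hnwc : ¬ Cfsg.IsWeaklyClosed Z S),
    ¬ Cfsg.IsWeaklyClosed Z ((Cfsg.pCore 3 H).map H.subtype) ∧
    ∃ N : Subgroup G, N.Normal ∧
      (∃ (K : Type) (_ : Field K) (_ : Fintype K), Fintype.card K = 4 ∧ Nonempty (N ≃* Cfsg.Lie.twistedE6 K 2)) ∧
      Subgroup.centralizer (N : Set G) = ⊥ ∧ N.index ∣ 6

theorem pow_four_of {M : Type*} [Group M] {x : M} {n : ℕ} (h : x ^ 12 = 1) (h2 : x ^ 2 ^ n = 1) : x ^ 4 = 1 := by
  have h3 : (x ^ 4) ^ 3 = 1 := by rw [← pow_mul]; exact h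
  have h4 : (x ^ 4) ^ 2 ^ n = 1 := by rw [← pow_mul, mul_comm, pow_mul, h2, one_pow]
  exact orderOf_eq_one_iff.1 (Nat.dvd_one.1 ((Nat.dvd_gcd (orderOf_dvd_of_pow_eq_one h3)
    (orderOf_dvd_of_pow_eq_one h4)).trans (dvd_of_eq (Nat.Coprime.pow_right n (by norm_num)))))

open MK in
theorem PK_max'' {g : Sp} (hg : g ∈ N1) (ha : g * aa = aa * g) {n : ℕ} (h1 : g ^ 2 ^ n ∈ zpowers aa)
    (h2 : (g * c3 * g⁻¹ * c3⁻¹) ^ 2 ^ n ∈ zpowers aa) : g ∈ Q84.map bd := by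
  obtain ⟨γ, w, p, rfl, hp, h⟩ := dec2 hg ha
  have e0 : ∀ q : Equiv.Perm (Fin 4), q ^ 12 = 1 := by decide
  have e1 := pow_four_of (e0 _) ((hp.pow _).uniq (Pp.zaa h1))
  have e2 := pow_four_of (e0 _) (((((hp.mul Pp.c3).mul hp.inv).mul Pp.c3.inv).pow _).uniq (Pp.zaa h2))
  rcases h with ⟨rfl, -⟩ | ⟨-, rfl⟩ | ⟨-, rfl⟩ | h
  · rw [mul_one] at h1 ⊢
    have : γ ^ 2 ^ (n + 1) = 1 := bd_inj (by
      rw [pow_succ, pow_mul, map_pow, map_pow, map_one]
      rcases mem_zaa.1 h1 with e | e <;> rw [e]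
      exacts [one_pow _, (sq _).trans aa_sq])
    exact ⟨γ, fun k => pow_four_of ((by decide +kernel : ∀ a : SL, a ^ 12 = 1) _) (congrFun this k), rfl⟩
  · exact absurd e1 (by decide)
  · exact absurd e1 (by decide)
  · exact absurd e2 (by revert h; generalize p = q; revert q; decide)

variable {G : Type*} {Y : Type u} [Group G] [Finite G] [Group Y] [Finite Y] {φ : He →* G} {ψ : G → Sp} {ρ g c a : G}
  {F : G → Y}

theorem HA.o2 (h : HA φ ψ ρ a N1) (q : QT a F)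
    [((q.bar ((Hb {1, 2, 3}).map φ)).subgroupOf (Cx (F (φ zz)))).Normal] :
    Nonempty (pCore 2 (Cx (F (φ zz)) ⧸ (q.bar ((Hb {1, 2, 3}).map φ)).subgroupOf (Cx (F (φ zz)))) ≃*
      QuaternionGroup 2 × QuaternionGroup 2 × QuaternionGroup 2) := by
  obtain ⟨f, fs, fk⟩ := PK1_quo
  set Q := (q.bar ((Hb {1, 2, 3}).map φ)).subgroupOf (Cx (F (φ zz)))
  let μ : (Cx (φ zz) ⊓ Cx a : Subgroup G) →* Cx (F (φ zz)) ⧸ Q := (QuotientGroup.mk' Q).comp
    ((q.hom.comp (inclusion inf_le_right)).codRestrict _ fun x => h.centZ' q x.2.1 x.2.2)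
  let ν : (Cx (φ zz) ⊓ Cx a : Subgroup G) →* Sp := h.toHS.hom.comp (inclusion inf_le_left)
  have μs : Function.Surjective μ := fun y => by
    obtain ⟨y, rfl⟩ := QuotientGroup.mk'_surjective Q y
    obtain ⟨g, h1, h2, e⟩ := h.centZ q y.2
    exact ⟨⟨g, h1, h2⟩, congrArg (QuotientGroup.mk' Q) (Subtype.ext e)⟩
  have μk : ∀ x, μ x = 1 ↔ ν x ∈ zpowers aa := fun x => (QuotientGroup.eq_one_iff _).trans (h.barQ q x.2.1 x.2.2)
  have νa : ∀ x, ν x * aa = aa * ν x := fun x => h.ψ_comm x.2.1 x.2.2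
  have νK : ∀ x, ν x ∈ N1 := fun x => h.ψK x.2.1
  have νs : ∀ s ∈ N1, s * aa = aa * s → ∃ x, ν x = s := fun s hs e => by
    obtain ⟨c, h1, -, h2, e⟩ := h.liftA hs e
    exact ⟨⟨c, h1, h2⟩, e⟩
  have nP : ((PK N1).comap ν).Normal := ⟨fun x hx g => by
    rw [mem_comap, map_mul, map_mul, map_inv]; exact PK_norm le_rfl (νK g) (νa g) hx⟩
  have e : ((PK N1).comap ν).map μ = pCore 2 _ := by
    have := Normal.map nP μ μs
    refine le_antisymm (Core.le_pCore (isPGroup_iff_mem.2 ?_)) fun y hy => ?_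
    · rintro _ ⟨x, ⟨-, γ, hγ, e⟩, rfl⟩
      refine ⟨2, ?_⟩
      rw [← map_pow, μk, map_pow, ← e, ← map_pow, show γ ^ 2 ^ 2 = 1 from funext hγ, map_one]
      exact one_mem _
    · obtain ⟨x, rfl⟩ := μs y
      obtain ⟨c, ec⟩ := νs c3 (N0_le mems.2.1) aa_facts.2.2.1
      obtain ⟨n, hn⟩ := isPGroup_iff_mem.1 (Core.isPGroup_pCore 2 _) _ hy
      obtain ⟨m, hm⟩ := isPGroup_iff_mem.1 (Core.isPGroup_pCore 2 _) _
        (mul_mem hy (Normal.conj_mem inferInstance _ (inv_mem hy) (μ c)))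
      refine ⟨x, ⟨νK x, PK_max'' (νK x) (νa x) (n := n + m) ?_ ?_⟩, rfl⟩
      · rw [← map_pow, ← μk, map_pow, pow_add, pow_mul, hn, one_pow]
      · rw [← ec, ← map_inv, ← map_inv, ← map_mul, ← map_mul, ← map_mul, ← map_pow, ← μk, map_pow, pow_add,
          mul_comm (2 ^ n), pow_mul]
        simp only [map_mul, map_inv, mul_assoc] at hm ⊢
        rw [hm, one_pow]
  let α := μ.subgroupMap ((PK N1).comap ν)
  let β := f.comp (ν.subgroupComap (PK N1))
  have βs : Function.Surjective β := fs.comp fun s => by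
    obtain ⟨x, e⟩ := νs s.1 s.2.1 (by obtain ⟨γ, -, e⟩ := s.2.2; exact e ▸ bd_aa γ)
    exact ⟨⟨x, mem_comap.2 (e ▸ s.2)⟩, Subtype.ext e⟩
  have k : α.ker = β.ker := Subgroup.ext fun x => (Subtype.ext_iff.trans (μk x)).trans (fk _).symm
  exact ⟨((MulEquiv.subgroupCongr e.symm).trans (QuotientGroup.quotientKerEquivOfSurjective α
    (μ.subgroupMap_surjective _)).symm).trans ((QuotientGroup.quotientMulEquivOfEq k).trans
      (QuotientGroup.quotientKerEquivOfSurjective β βs))⟩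

theorem HA.exists_N (h : HA φ ψ ρ a N1) (q : QT a F) (st : St3337.{u}) : ∃ N : Subgroup Y, N.Normal ∧
    (∃ (K : Type) (_ : Field K) (_ : Fintype K), Fintype.card K = 4 ∧ Nonempty (N ≃* Cfsg.Lie.twistedE6 K 2)) ∧
    centralizer (N : Set Y) = ⊥ ∧ N.index ∣ 6 := by
  have : Fact (Nat.Prime 3) := ⟨by norm_num⟩
  have p := h.preC q (c := 512) card_PK1
  have nrm : ((q.bar ((Hb {1, 2, 3}).map φ)).subgroupOf (Cx (F (φ zz)))).Normal :=
    (normal_subgroupOf_iff_le_normalizer p.ez.zc).2 fun g hg =>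
      p.nQ (mem_normalizer_of_forall fun w hw => by rwa [zcj hw hg])
  obtain ⟨e⟩ := h.o2 q
  obtain ⟨g, g1, g2⟩ := h.cnjQ q
  generalize q.bar ((Hb {1, 2, 3}).map φ) = Q at *
  generalize F (φ zz) = z at *
  have eQ : Q.subgroupOf (Cx z) = pCore 3 (Cx z) := le_antisymm (Core.le_pCore p.ez.two.comap_subtype)
    (map_le_iff_le_comap.1 (p.core _ (map_subtype_le _) (Core.le_normalizer_map_subtype_of_normal _)
      ((Core.isPGroup_pCore 3 _).map _)))
  have cQ : centralizer (Q.subgroupOf (Cx z) : Set (Cx z)) ≤ Q.subgroupOf (Cx z) := fun x hx =>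
    p.cQ _ x.2 fun y hy => congrArg Subtype.val (hx ⟨y, p.ez.zc hy⟩ hy)
  have eC : center (Cx z) = (zpowers z).subgroupOf (Cx z) := le_antisymm
    (fun x hx => p.ez.cen _ (cQ (center_le_centralizer _ hx)) fun y hy =>
      congrArg Subtype.val (mem_center_iff.1 hx ⟨y, p.ez.zc hy⟩))
    fun x hx => mem_center_iff.2 fun g => Subtype.ext (zc hx g.2)
  have eI : Q.subgroupOf (Cx z) ⊓ centralizer (Q.subgroupOf (Cx z) : Set (Cx z)) = center (Cx z) := le_antisymm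
    (fun x hx => eC.ge (p.ez.cen _ hx.1 fun y hy => congrArg Subtype.val (hx.2 ⟨y, p.ez.zc hy⟩ hy)))
    (le_inf (eC.le.trans (comap_mono p.ez.ZP)) (center_le_centralizer _))
  have c3 : Nat.card (center (Cx z)) = 3 := by
    rw [eC, Nat.card_congr (subgroupOfEquivOfLe zle).toEquiv, cardZ p.ez.z1 p.ez.z3]
  have cq : Nat.card (Q.subgroupOf (Cx z)) = 3 ^ 7 := by
    rw [Nat.card_congr (subgroupOfEquivOfLe p.ez.zc).toEquiv, p.card]
  obtain ⟨S, hS⟩ := p.ez.two.exists_le_sylow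
  refine (st (Cx z) (Q.subgroupOf (Cx z)) (eQ.trans (Comp.fstar_eq_pCore_iff.2 (eQ ▸ cQ)).symm)
    (PGroup.isExtraspecial_of_ambient p.ez.two.comap_subtype (by rw [eI, c3]) (commutator_le.2 fun x hx y hy =>
      center_le_centralizer _ (eC.ge (p.ez.cmt _ hx _ hy))) fun k => ?_) cq
    ((Core.map_subtype_center _).trans eI) e (zpowers z) (by rw [eC, map_subgroupOf_eq_of_le zle])
    (le_antisymm (fun g hg w hw => (zc hw hg).symm) (centralizer_le (by simp))) S (p.ez.ZP.trans hS) fun w => g2 ?_).2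
  · have := card_le_of_le (eI ▸ le_inf le_rfl fun a ha b hb =>
      congrArg Subtype.val (k.is_comm.comm (⟨b, hb⟩ : Q.subgroupOf (Cx z)) ⟨a, ha⟩) : Q.subgroupOf (Cx z) ≤ _)
    omega
  · have : cj g (zpowers z) = zpowers z := w.2 g <| show cj g _ ≤ _ by
      rw [cj_zpowers, zpowers_le]; exact hS g1
    rw [← this, cj_zpowers]
    exact mem_zpowers _

end CfsgLib.Rec3D
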