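import Cfsg.Agent.Lib.Rec3D.ModA
import Cfsg.Agent.S3366

/-! The hypotheses of S2914 and S2915, CO1 (plans/REC3D.md). -/

set_option autoImplicit false
set_option maxRecDepth 100000
set_option linter.unusedSectionVars false
set_option linter.unusedVariables false

namespace CfsgLib.Rec3D

open Subgroup Cfsg CfsgLib.Tech CfsgLib.W2 CfsgLib.Rec3B Matrix
open CfsgLib.U43 (SL)

namespace Co1

open Cfsg.Agent.S3366

theorem card_Cx {A B : Type*} [Group A] [Group B] (φ : A ≃* B) (a : A) :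
    Nat.card (centralizer ({φ a} : Set B)) = Nat.card (centralizer ({a} : Set A)) := by
  refine (Nat.card_congr (φ.toEquiv.subtypeEquiv fun g => ?_)).symm
  rw [mem_centralizer_singleton_iff, mem_centralizer_singleton_iff]
  exact ⟨fun h => by simpa using congrArg φ h, fun h => φ.injective (by simpa using h)⟩

theorem mo_ext {x y : Mo} (h1 : x.p = y.p) (h2 : x.q = y.q) (h3 : x.c = y.c) (h4 : x.A = y.A) : pm x = pm y :=
  congrArg pm (Mo.ext h1 h2 h3 h4)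

theorem pm_one : pm ⟨0, 0, 0, 1⟩ = 1 := by
  have : pm ⟨0, 0, 0, 1⟩ * pm ⟨0, 0, 0, 1⟩ = pm ⟨0, 0, 0, 1⟩ := by
    rw [← pm_mul]; exact mo_ext (by decide) (by decide) (by decide) (mul_one _)
  simpa using this

theorem pm_h (p q c p' q' c' : ZMod 3) :
    pm ⟨p, q, c, 1⟩ * pm ⟨p', q', c', 1⟩ = pm ⟨p + p', q + q', c + c' + (p * q' - q * p'), 1⟩ := by
  rw [← pm_mul]
  refine mo_ext ?_ ?_ ?_ (mul_one _)
  · change p + (1 * p' + 0 * q') = p + p'
    ring
  · change q + (0 * p' + 1 * q') = q + q'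
    ring
  · change c + c' + (p * (0 * p' + 1 * q') - q * (1 * p' + 0 * q')) = c + c' + (p * q' - q * p')
    ring

/-- the extraspecial group -/
def T : Subgroup (PSp 2 (ZMod 3)) where
  carrier := {g | ∃ p q c, g = pm ⟨p, q, c, 1⟩}
  one_mem' := ⟨0, 0, 0, pm_one.symm⟩
  mul_mem' := by
    rintro _ _ ⟨p, q, c, rfl⟩ ⟨p', q', c', rfl⟩
    exact ⟨_, _, _, pm_h ..⟩
  inv_mem' := by
    rintro _ ⟨p, q, c, rfl⟩
    refine ⟨-p, -q, -c, inv_eq_of_mul_eq_one_right ?_⟩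
    rw [pm_h, ← pm_one]
    exact mo_ext (by simp) (by simp) (by simp [mul_comm]) rfl

theorem T_three : IsPGroup 3 T := by
  rintro ⟨_, p, q, c, rfl⟩
  refine ⟨1, Subtype.ext ?_⟩
  change pm _ ^ 3 = 1
  rw [pow_three', pm_h, pm_h, ← pm_one]
  have h3 : ∀ a : ZMod 3, a + a + a = 0 := by decide
  exact mo_ext (h3 p) (h3 q) (by linear_combination h3 c) rfl

theorem card_zc : Nat.card (centralizer ({pm zc} : Set (PSp 2 (ZMod 3)))) = 648 := by
  have e : Mo ≃ ZMod 3 × ZMod 3 × ZMod 3 × S2 :=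
    ⟨fun m => (m.p, m.q, m.c, m.A), fun x => ⟨x.1, x.2.1, x.2.2.1, x.2.2.2⟩, fun _ => rfl, fun _ => rfl⟩
  have c : Nat.card S2 = 24 := (Nat.card_congr (Equiv.ofBijective _ SL.rho_bijective)).symm.trans (Nat.card_fin 24)
  have b : Function.Bijective fun m : Mo => (⟨pm m, mem_centralizer_singleton_iff.2 (by
      rw [← pm_mul, ← pm_mul]
      refine mo_ext ?_ ?_ ?_ ((mul_one _).trans (one_mul _).symm)
      · change m.p + (_ * 0 + _ * 0) = 0 + (1 * m.p + 0 * m.q)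
        ring
      · change m.q + (_ * 0 + _ * 0) = 0 + (0 * m.p + 1 * m.q)
        ring
      · change m.c + 1 + (_ * (_ * 0 + _ * 0) - _ * (_ * 0 + _ * 0)) = 1 + m.c + (0 * _ - 0 * _)
        ring)⟩ : centralizer ({pm zc} : Set (PSp 2 (ZMod 3)))) :=
    ⟨fun _ _ h => pm_inj (congrArg Subtype.val h), fun g =>
      (cent g (mem_centralizer_singleton_iff.1 g.2)).imp fun _ h => Subtype.ext h⟩
  rw [← Nat.card_eq_of_bijective _ b, Nat.card_congr e]
  simp only [Nat.card_prod, c, Nat.card_zmod]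

theorem eq_zc {y : PSp 2 (ZMod 3)} (h1 : y ≠ 1) (h : ∀ t ∈ T, y * t = t * y) : y = pm zc ∨ y = (pm zc)⁻¹ := by
  obtain ⟨⟨p, q, c, A⟩, rfl⟩ := cent y (h _ ⟨0, 0, 1, rfl⟩)
  have a := h _ ⟨1, 0, 0, rfl⟩
  have b := h _ ⟨0, 1, 0, rfl⟩
  rw [← pm_mul, ← pm_mul] at a b
  have a1 : p + (A 0 0 * 1 + A 0 1 * 0) = 1 + (1 * p + 0 * q) := congrArg Mo.p (pm_inj a)
  have a2 : q + (A 1 0 * 1 + A 1 1 * 0) = 0 + (0 * p + 1 * q) := congrArg Mo.q (pm_inj a)
  have a3 : c + 0 + (p * (A 1 0 * 1 + A 1 1 * 0) - q * (A 0 0 * 1 + A 0 1 * 0)) =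
    0 + c + (1 * (0 * p + 1 * q) - 0 * (1 * p + 0 * q)) := congrArg Mo.c (pm_inj a)
  have b1 : p + (A 0 0 * 0 + A 0 1 * 1) = 0 + (1 * p + 0 * q) := congrArg Mo.p (pm_inj b)
  have b2 : q + (A 1 0 * 0 + A 1 1 * 1) = 1 + (0 * p + 1 * q) := congrArg Mo.q (pm_inj b)
  have b3 : c + 0 + (p * (A 1 0 * 0 + A 1 1 * 1) - q * (A 0 0 * 0 + A 0 1 * 1)) =
    0 + c + (0 * (0 * p + 1 * q) - 1 * (1 * p + 0 * q)) := congrArg Mo.c (pm_inj b)
  have h3 : (3 : ZMod 3) = 0 := rfl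
  have e00 : A 0 0 = 1 := by linear_combination a1
  have e10 : A 1 0 = 0 := by linear_combination a2
  have e01 : A 0 1 = 0 := by linear_combination b1
  have e11 : A 1 1 = 1 := by linear_combination b2
  rw [e00, e10] at a3
  rw [e01, e11] at b3
  obtain rfl : q = 0 := by linear_combination a3 + q * h3
  obtain rfl : p = 0 := by linear_combination -b3 + p * h3
  obtain rfl : A = 1 := Matrix.SpecialLinearGroup.ext _ _ fun i j => by
    fin_cases i <;> fin_cases j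
    exacts [e00, e01, e10, e11]
  rcases (by decide : ∀ c : ZMod 3, c = 0 ∨ c = 1 ∨ c = -1) c with rfl | rfl | rfl
  · exact absurd pm_one h1
  · exact Or.inl rfl
  · exact Or.inr (eq_inv_of_mul_eq_one_left ((pm_h ..).trans (by simpa using pm_one)))

end Co1

theorem psp_card {F : Type} [Field F] [Fintype F] (hF : Fintype.card F = 3) : Nat.card (PSp 2 F) = 25920 := by
  have hc := Symp.card_PSp (F := F) (m := 2) (by norm_num)
  rw [hF] at hc
  simp [Finset.prod_range_succ] at hc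
  omega

theorem psp_cent {F : Type} [Field F] [Fintype F] (hF : Fintype.card F = 3) {x : PSp 2 F} (hx : orderOf x = 3)
    (P : Sylow 3 (PSp 2 F)) (hP : (P : Subgroup (PSp 2 F)) ≤ centralizer ({x} : Set (PSp 2 F))) :
    Nat.card (centralizer ({x} : Set (PSp 2 F))) = 648 := by
  have : Fact (Nat.Prime 3) := ⟨Nat.prime_three⟩
  have : Finite (PSp 2 F) := Nat.finite_of_card_ne_zero (by rw [psp_card hF]; norm_num)
  let E : PSp 2 (ZMod 3) ≃* PSp 2 F := Classical.centerQuotEquiv (Classical.spMapEquiv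
    (FiniteField.ringEquivOfCardEq (K := ZMod 3) (by rw [hF, ZMod.card])))
  obtain ⟨P', hP'⟩ := (Co1.T_three.map E.toMonoidHom).exists_le_sylow
  obtain ⟨g, rfl⟩ := MulAction.exists_smul_eq (PSp 2 F) P P'
  obtain ⟨y, rfl⟩ := (E.trans (MulAut.conj g⁻¹)).surjective x
  rw [Co1.card_Cx]
  rcases Co1.eq_zc (y := y) (fun e => by simp [e] at hx) (fun t ht => (E.trans (MulAut.conj g⁻¹)).injective (by
    have := hP' (mem_map_of_mem _ ht)
    rw [Sylow.coe_subgroup_smul, mem_pointwise_smul_iff_inv_smul_mem, ← map_inv] at this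
    rw [map_mul, map_mul]
    exact (mem_centralizer_singleton_iff.1 (hP this)).symm)) with rfl | rfl
  · exact Co1.card_zc
  · rw [← Co1.card_zc]
    congr 2
    ext k
    simp only [SetLike.mem_coe, mem_centralizer_singleton_iff]
    exact Commute.inv_right_iff

variable {G : Type*} [Group G] [Finite G]

theorem exists_Ab (Z : Subgroup G) (hZ : Nat.card Z = 3) (Q : Subgroup (centralizer (Z : Set G)))
    (eQ : Q = generalizedFittingSubgroup (centralizer (Z : Set G))) (hQ : IsExtraspecial 3 Q)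
    (hQcard : Nat.card Q = 3 ^ 9) [hQn : Q.Normal] (hexp : ∀ x ∈ Q, x ^ 3 = 1)
    (R : Subgroup (centralizer (Z : Set G) ⧸ Q)) [hRn : R.Normal] (hR : IsExtraspecial 2 R)
    (hRcard : Nat.card R = 2 ^ 7) (hRminus : ∀ A : Subgroup R, IsElementaryAbelian 2 A → Nat.card A ≤ 2 ^ 3)
    {T : Type*} [Group T] (e : (centralizer (Z : Set G) ⧸ Q) ⧸ R ≃* T) :
    ∃ (z : G) (Q' : Subgroup G) (θ : E7 →* G), Z = zpowers z ∧ Ab z Q' θ ∧
      Nat.card (Cx z) = 3 ^ 9 * (128 * Nat.card T) ∧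
      ((∃ t : T, t ≠ 1 ∧ t ^ 3 = 1 ∧ ∀ s, s * t = t * s) → AbT z Q' θ) := by
  have : Fact (Nat.Prime 3) := ⟨Nat.prime_three⟩
  obtain ⟨z, zZ, z1⟩ := Z.bot_or_exists_ne_one.resolve_left fun e => by simp [e] at hZ
  have z3 : z ^ 3 = 1 := by rw [← hZ]; exact congrArg Subtype.val (pow_card_eq_one' (x := (⟨z, zZ⟩ : Z)))
  have eZ : Z = zpowers z := (eq_of_le_of_card_ge (zpowers_le.2 zZ) (by rw [hZ, Es.cardZ z1 z3])).symm
  have eH : centralizer (Z : Set G) = Cx z := by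
    rw [eZ]
    exact le_antisymm (centralizer_le (by simp)) fun g hg w hw => (Es.zc hw hg).symm
  revert Q
  rw [eH]
  intro Q eQ hQ hQcard hQn hexp R hRn hR hRcard hRminus e
  have cQ : ∀ g : Cx z, (∀ q ∈ Q, q * g = g * q) → g ∈ Q := fun g k => by
    rw [eQ] at k ⊢
    exact Comp.centralizer_fstar_le k
  have z0 : (⟨z, mem_Cx.2 rfl⟩ : Cx z) ∈ Q := cQ _ fun q _ => Subtype.ext (mem_Cx.1 q.2)
  have ez : Ez (Q.map (Cx z).subtype) z := by
    obtain ⟨a, b⟩ := Rec3.es_facts hQ (z := ⟨_, z0⟩) (mem_center_iff.2 fun g => Subtype.ext (Subtype.ext (mem_Cx.1 g.1.2)))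
      fun e => z1 (congrArg (fun x => x.1.1) e)
    have c : ∀ x : Q, x ∈ zpowers (⟨_, z0⟩ : Q) → x.1.1 ∈ zpowers z := by
      rintro _ ⟨k, rfl⟩
      exact ⟨k, by simp⟩
    refine ⟨⟨hQ.1.1.map _, ⟨_, z0, rfl⟩, z1, z3, map_subtype_le _, ?_⟩, ?_⟩
    · rintro _ ⟨p, hp, rfl⟩ _ ⟨q, hq, rfl⟩
      exact c _ (b ⟨p, hp⟩ ⟨q, hq⟩)
    · rintro _ ⟨p, hp, rfl⟩ e
      exact c _ (a ⟨p, hp⟩ fun y => Subtype.ext (Subtype.ext (e _ ⟨_, y.2, rfl⟩)))
  have mQ : ∀ {x : Cx z}, x.1 ∈ Q.map (Cx z).subtype ↔ x ∈ Q := mem_map_iff_mem (subtype_injective _)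
  have ex : ∀ q ∈ Q.map (Cx z).subtype, q ^ 3 = 1 := by
    rintro _ ⟨q, hq, rfl⟩
    exact congrArg Subtype.val (hexp q hq)
  obtain ⟨ι⟩ := iso_E7 hR hRcard hRminus
  obtain ⟨θ, hθ⟩ : ∃ θ : E7 →* Cx z, ∀ a, QuotientGroup.mk' Q (θ a) = ι a := by
    have le : Q ≤ R.comap (QuotientGroup.mk' Q) := (QuotientGroup.ker_mk' Q).ge.trans (ker_le_comap _ _)
    have ri : Q.relIndex (R.comap (QuotientGroup.mk' Q)) = 2 ^ 7 := by
      have := card_mul_relIndex' le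
      rw [Core.card_comap_mk', hRcard, hQcard] at this
      omega
    obtain ⟨K, k1, k2, k3, -⟩ := Coprime.exists_complement_of_le_normalizer le le_normalizer_of_normal
      (by rw [ri, hQcard]; norm_num)
    let f : K →* R := ((QuotientGroup.mk' Q).comp K.subtype).codRestrict R fun k => k1 k.2
    have bf : Function.Bijective f := ⟨(injective_iff_map_eq_one _).2 fun k hk => Subtype.ext (mem_bot.1
      (k2 ▸ mem_inf.2 ⟨(QuotientGroup.eq_one_iff _).1 (congrArg Subtype.val hk), k.2⟩)), fun r => by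
        obtain ⟨g, hg⟩ := QuotientGroup.mk'_surjective Q r
        obtain ⟨q, hq, k, hk, rfl⟩ := mem_sup_of_normal_left.1 (k3.ge (show g ∈ R.comap _ from mem_comap.2 (hg ▸ r.2)))
        refine ⟨⟨k, hk⟩, Subtype.ext ?_⟩
        rw [← hg, map_mul, QuotientGroup.mk'_apply Q q, (QuotientGroup.eq_one_iff _).2 hq, one_mul]
        rfl⟩
    exact ⟨K.subtype.comp ((MulEquiv.ofBijective f bf).symm.toMonoidHom.comp ι.toMonoidHom), fun a =>
      congrArg Subtype.val ((MulEquiv.ofBijective f bf).apply_symm_apply (ι a))⟩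
  have key : ∀ (g : Cx z) (a : E7), g.1 * (θ a).1⁻¹ ∈ Q.map (Cx z).subtype ↔ QuotientGroup.mk' Q g = ι a :=
    fun g a => by
      rw [← hθ, ← mul_inv_eq_one, ← map_inv, ← map_mul, QuotientGroup.mk'_apply, QuotientGroup.eq_one_iff]
      exact mQ (x := g * (θ a)⁻¹)
  let π : Cx z →* T := e.toMonoidHom.comp ((QuotientGroup.mk' R).comp (QuotientGroup.mk' Q))
  have kπ : ∀ g : Cx z, π g = 1 ↔ ∃ a, g.1 * (θ a).1⁻¹ ∈ Q.map (Cx z).subtype := fun g => by
    simp only [key]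
    refine ((map_eq_one_iff _ e.injective).trans (QuotientGroup.eq_one_iff _)).trans
      ⟨fun h => ⟨ι.symm ⟨_, h⟩, by simp⟩, fun ⟨a, h⟩ => ?_⟩
    exact h ▸ (ι a).2
  have nQ : normalizer (zpowers z : Set G) ≤ normalizer (Q.map (Cx z).subtype : Set G) := fun g hg => by
    have : Q.Characteristic := by rw [eQ]; exact Comp.fstar_characteristic
    refine Core.normalizer_le_normalizer_map_subtype_of_characteristic Q (mem_normalizer_of_forall fun k hk => ?_)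
    refine Cx_comm.1 (conj_mem_Cx (g := g⁻¹).1 ?_)
    rw [show g⁻¹ * (g * k * g⁻¹) * g⁻¹⁻¹ = k by group]
    exact mem_Cx.2 (Es.zc (conj_mem_of_mem_normalizer (inv_mem hg) (mem_zpowers z)) hk).symm
  refine ⟨z, Q.map (Cx z).subtype, (Cx z).subtype.comp θ, eZ, ⟨ez, ex,
    (card_map_of_injective (subtype_injective _)).trans hQcard, nQ, fun g hg k => ?_, fun a => (θ a).2, fun k => ?_,
    fun g hg a => (kπ (⟨g, hg⟩ * θ a * ⟨g, hg⟩⁻¹)).1 ?_⟩, ?_, fun ⟨t, t1, t3, tc⟩ => ?_⟩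
  · have m : ∀ {k}, k ∈ Cx z ⊓ ⨅ q ∈ Q.map (Cx z).subtype, Es.cmz z q ↔
        k ∈ Cx z ∧ ∀ q ∈ Q.map (Cx z).subtype, k * q * k⁻¹ * q⁻¹ ∈ zpowers z := by
      simp only [mem_inf, mem_iInf]
      exact ⟨fun k => ⟨k.1, fun q hq => (k.2 q hq).2⟩, fun k => ⟨k.1, fun q hq => ⟨k.1, k.2 q hq⟩⟩⟩
    refine map_mono (eQ ▸ Comp.pCore_le_fstar 3) (Core.le_map_pCore inf_le_left
      (fun a ha => mem_normalizer_of_forall fun k hk => m.2 ⟨mul_mem (mul_mem ha hk.1) (inv_mem ha), fun q hq => ?_⟩)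
      (isPGroup_iff_mem.2 fun k hk => ⟨2, ?_⟩) (m.2 ⟨hg, k⟩))
    · have := (m.1 hk).2 _ (conj_mem_of_mem_normalizer' (Core.le_normalizer_map_subtype_of_normal Q ha) hq)
      rw [← Es.zcj this ha] at this
      convert this using 1
      group
    · rw [sq, pow_mul]
      exact ex _ (mQ.2 (cQ ⟨_, pow_mem hk.1 3⟩ fun q hq =>
        Subtype.ext (F1x.cube_cj z3 hk.1 ((m.1 hk).2 q (mQ.2 hq)))))
  · have := (QuotientGroup.eq_one_iff _).2 (mQ.1 k)
    rw [← QuotientGroup.mk'_apply, hθ, OneMemClass.coe_eq_one, map_eq_one_iff _ ι.injective] at this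
    exact absurd this (by decide +kernel)
  · rw [map_mul, map_mul, (kπ (θ a)).2 ⟨a, by simp⟩]
    simp
  · rw [card_eq_card_quotient_mul_card_subgroup Q, card_eq_card_quotient_mul_card_subgroup R, hQcard, hRcard,
      Nat.card_congr e.toEquiv]
    ring
  · obtain ⟨g, rfl⟩ : ∃ g, π g = t :=
      (e.surjective.comp ((QuotientGroup.mk'_surjective R).comp (QuotientGroup.mk'_surjective Q))) t
    exact ⟨g, g.2, fun a k => t1 ((kπ g).2 ⟨a, k⟩), (kπ (g ^ 3)).1 (by rw [map_pow, t3]), fun s hs =>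
      (kπ (⟨s, hs⟩ * g * ⟨s, hs⟩⁻¹ * g⁻¹)).1 (by rw [map_mul, map_mul, map_mul, tc, map_inv, map_inv]; group)⟩

end CfsgLib.Rec3D
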