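import Cfsg.Agent.Lib.Rec3D.ModA
import Cfsg.Agent.Lib.PLocal.ElemRep

/-! Coordinates, CO2 (plans/REC3D.md). -/

set_option autoImplicit false
set_option maxRecDepth 100000
set_option linter.unusedSectionVars false
set_option linter.unusedVariables false

namespace CfsgLib.Rec3D

open Subgroup Cfsg CfsgLib.Tech CfsgLib.W2 CfsgLib.Rec3B Matrix
open CfsgLib.U43 (SL)

variable {G : Type*} [Group G] [Finite G] {z : G} {Q : Subgroup G} {θ : E7 →* G}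

namespace Co2

open CfsgLib.PLocal ElemMod Es

theorem nC (h : Ab z Q θ) {g q : G} (hg : g ∈ Cx z) (hq : q ∈ Q) : g * q * g⁻¹ ∈ Q :=
  conj_mem_of_mem_normalizer (h.nQ (mem_normalizer_of_forall fun w hw => by rwa [zcj hw hg])) hq

/-- linear coordinates on `Q / ⟨z⟩` -/
structure Lin (z : G) (Q : Subgroup G) (θ : E7 →* G) (F : G → V8) : Prop where
  add : ∀ p ∈ Q, ∀ q ∈ Q, F (p * q) = F p + F q
  ker : ∀ q ∈ Q, F q = 0 ↔ q ∈ zpowers z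
  onto : ∀ v, ∃ q ∈ Q, F q = v
  lin : ∀ g ∈ Cx z, ∃ A : M8, ∀ q ∈ Q, F (g * q * g⁻¹) = A *ᵥ F q
  rm : ∀ e, ∀ q ∈ Q, F (θ e * q * (θ e)⁻¹) = rm e • F q

theorem exists_lin (h : Ab z Q θ) : ∃ F, Lin z Q θ F := by
  classical
  have : Fact (Nat.Prime 3) := ⟨Nat.prime_three⟩
  have : ((zpowers z).subgroupOf (Cx z)).Normal :=
    ⟨fun w hw g => by rw [mem_subgroupOf] at hw ⊢; simpa [zcj hw g.2] using hw⟩
  let π := QuotientGroup.mk' ((zpowers z).subgroupOf (Cx z))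
  have π1 : ∀ g : Cx z, π g = 1 ↔ g.1 ∈ zpowers z := fun g => QuotientGroup.eq_one_iff g
  let V := (Q.subgroupOf (Cx z)).map π
  have hV : IsElementaryAbelian 3 V := by
    refine ⟨⟨⟨?_⟩⟩, ?_⟩
    · rintro ⟨_, p, hp, rfl⟩ ⟨_, q, hq, rfl⟩
      refine Subtype.ext (commutatorElement_eq_one_iff_mul_comm.1 ?_)
      exact (map_commutatorElement π p q).symm.trans ((π1 _).2 (h.ez.cmt _ hp _ hq))
    · rintro _ ⟨q, hq, rfl⟩
      rw [← map_pow, show q ^ 3 = 1 from Subtype.ext (h.exp _ hq), map_one]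
  have nV : ∀ g : Cx z, π g ∈ normalizer (V : Set _) := fun g => mem_normalizer_of_forall (by
    rintro _ ⟨q, hq, rfl⟩
    exact ⟨g * q * g⁻¹, nC h g.2 hq, by simp⟩)
  have cV : Nat.card (ElemMod hV) = 3 ^ 8 := by
    have := card_mul_relIndex' h.ez.ZP
    rw [cardZ h.ez.z1 h.ez.z3, h.card, ← relIndex_subgroupOf h.ez.zc, ← QuotientGroup.ker_mk' (subgroupOf _ _),
      relIndex_ker] at this
    rw [card_eq]
    change 3 * Nat.card V = _ at this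
    omega
  let σ : Cx z →* Module.End (ZMod 3) (ElemMod hV) := (rep hV (H := normalizer (V : Set _)) le_rfl).comp
    (π.codRestrict _ nV)
  have hσ : ∀ g x, (σ g x).toG = π g * x.toG * (π g)⁻¹ := fun g x => toG_rep le_rfl _ x
  let c : ∀ q ∈ Q, ElemMod hV := fun q hq => ofG hV (π ⟨q, h.ez.zc hq⟩) (mem_map_of_mem _ hq)
  have cσ : ∀ g (hg : g ∈ Cx z) q (hq : q ∈ Q), c _ (nC h hg hq) = σ ⟨g, hg⟩ (c q hq) := fun g hg q hq =>
    toG_injective (by rw [hσ, toG_ofG, toG_ofG, ← map_inv, ← map_mul, ← map_mul]; rfl)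
  obtain ⟨f, hf⟩ := exists_equiv cV (σ.comp (θ.codRestrict _ h.θz)) fun e => h.θ1 (h.faith _ (h.θz _) fun q hq => by
    have := congrArg toG (cσ _ (h.θz (TG.o 64)) q hq)
    rw [show σ ⟨_, h.θz (TG.o 64)⟩ = 1 from e, Module.End.one_apply, toG_ofG, toG_ofG, ← mul_inv_eq_one, ← map_inv π,
      ← map_mul π, π1] at this
    exact this)
  refine ⟨fun q => if hq : q ∈ Q then f.symm (c q hq) else 0, fun p hp q hq => ?_, fun q hq => ?_, fun v => ?_,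
    fun g hg => ⟨LinearMap.toMatrix' (f.symm.toLinearMap ∘ₗ σ ⟨g, hg⟩ ∘ₗ f.toLinearMap), fun q hq => ?_⟩,
    fun e q hq => ?_⟩
  · rw [dif_pos hp, dif_pos hq, dif_pos (mul_mem hp hq), ← map_add]
    exact congrArg _ (toG_injective (by rw [toG_add, toG_ofG, toG_ofG, toG_ofG, ← map_mul]; rfl))
  · rw [dif_pos hq, map_eq_zero_iff _ f.symm.injective, ← toG_eq_one, toG_ofG, π1]
  · obtain ⟨q, hq, e⟩ := (f v).toG_mem
    refine ⟨q, hq, ?_⟩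
    rw [dif_pos (show q.1 ∈ Q from hq), LinearEquiv.symm_apply_eq]
    exact toG_injective e
  · rw [dif_pos hq, dif_pos (nC h hg hq), cσ g hg q hq, LinearMap.toMatrix'_mulVec]
    simp
  · rw [dif_pos hq, dif_pos (nC h (h.θz e) hq), cσ _ (h.θz e) q hq, LinearEquiv.symm_apply_eq, hf,
      LinearEquiv.apply_symm_apply]
    rfl

/-- powers with exponents modulo three -/
def pz (z : G) (c : ZMod 3) : G := z ^ c.val

theorem pz_mem (z : G) (c : ZMod 3) : pz z c ∈ zpowers z := pow_mem (mem_zpowers z) _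

theorem pz_add (z3 : z ^ 3 = 1) (a b : ZMod 3) : pz z (a + b) = pz z a * pz z b := by
  rw [pz, pz, pz, ← pow_add, ZMod.val_add, ← pow_eq_pow_mod _ z3]

theorem pz_zero : pz z 0 = 1 := pow_zero z

theorem pz_neg (z3 : z ^ 3 = 1) (a : ZMod 3) : pz z (-a) = (pz z a)⁻¹ :=
  eq_inv_of_mul_eq_one_left (by rw [← pz_add z3, neg_add_cancel, pz_zero])

theorem pz_inv (z3 : z ^ 3 = 1) (a : ZMod 3) : pz z⁻¹ (-a) = pz z a := by
  rw [pz, inv_pow, ← pz, pz_neg z3, inv_inv]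

theorem pz_eq_one (z1 : z ≠ 1) (z3 : z ^ 3 = 1) {a : ZMod 3} (e : pz z a = 1) : a = 0 := by
  rcases (by decide : ∀ c : ZMod 3, c = 0 ∨ c = 1 ∨ c = -1) a with rfl | rfl | rfl
  · rfl
  · exact absurd ((pow_one z).symm.trans e) z1
  · rw [pz_neg z3, inv_eq_one] at e
    exact absurd ((pow_one z).symm.trans e) z1

theorem pz_inj (z1 : z ≠ 1) (z3 : z ^ 3 = 1) {a b : ZMod 3} (e : pz z a = pz z b) : a = b :=
  sub_eq_zero.1 (pz_eq_one z1 z3 (by rw [sub_eq_add_neg, pz_add z3, pz_neg z3, e, mul_inv_cancel]))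

theorem pz_surj (z3 : z ^ 3 = 1) {w : G} (hw : w ∈ zpowers z) : ∃ c, pz z c = w := by
  rcases three_cases z3 hw with rfl | rfl | rfl
  exacts [⟨0, pz_zero⟩, ⟨1, pow_one _⟩, ⟨-1, by rw [pz_neg z3]; exact congrArg _ (pow_one _)⟩]

namespace Lin

variable {F : G → V8} (h : Ab z Q θ) (l : Lin z Q θ F)
include h l

theorem one : F 1 = 0 := (l.ker 1 (one_mem _)).2 (one_mem _)

theorem inv {q : G} (hq : q ∈ Q) : F q⁻¹ = -F q :=
  eq_neg_of_add_eq_zero_left (by rw [← l.add _ (inv_mem hq) _ hq, inv_mul_cancel, l.one h])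

theorem eq_iff {p q : G} (hp : p ∈ Q) (hq : q ∈ Q) : F p = F q ↔ p * q⁻¹ ∈ zpowers z := by
  rw [← l.ker _ (mul_mem hp (inv_mem hq)), l.add _ hp _ (inv_mem hq), l.inv h hq, ← sub_eq_add_neg, sub_eq_zero]

theorem mulz {q w : G} (hq : q ∈ Q) (hw : w ∈ zpowers z) : F (q * w) = F q := by
  rw [l.add _ hq _ (h.ez.ZP hw), (l.ker _ (h.ez.ZP hw)).2 hw, add_zero]

theorem rho {q : G} (hq : q ∈ Q) : F (θ (TG.o 64) * q * (θ (TG.o 64))⁻¹) = -F q := by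
  rw [l.rm _ q hq, rm_vals.1, ng_smul]

theorem exists_ev (v : V8) : ∃ q ∈ Q, F q = v ∧ θ (TG.o 64) * q * (θ (TG.o 64))⁻¹ = q⁻¹ := by
  obtain ⟨q, hq, rfl⟩ := l.onto v
  have hw := (l.eq_iff h (nC h (h.θz (TG.o 64)) hq) (inv_mem hq)).1 ((l.rho h hq).trans (l.inv h hq).symm)
  rw [inv_inv] at hw
  refine ⟨_, mul_mem hq (h.ez.ZP hw), l.mulz h hq hw, ?_⟩
  obtain ⟨w, e⟩ : ∃ w, w = θ (TG.o 64) * q * (θ (TG.o 64))⁻¹ * q := ⟨_, rfl⟩
  rw [← e] at hw ⊢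
  rw [← conj_mul, zcj hw (h.θz _), eq_mul_inv_of_mul_eq e.symm, eq_inv_iff_mul_eq_one, zc hw (h.ez.zc hq)]
  calc _ = w * (q⁻¹ * w) * w * q := by group
    _ = w * (w * q⁻¹) * w * q := by rw [zc hw (h.ez.zc (inv_mem hq))]
    _ = w * w * (q⁻¹ * w) * q := by group
    _ = w ^ 3 := by rw [zc hw (h.ez.zc (inv_mem hq)), pow_three]; group
    _ = 1 := zcube h.ez.z3 hw

theorem uniq {p q : G} (hp : p ∈ Q) (hq : q ∈ Q) (e : F p = F q) (e1 : θ (TG.o 64) * p * (θ (TG.o 64))⁻¹ = p⁻¹)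
    (e2 : θ (TG.o 64) * q * (θ (TG.o 64))⁻¹ = q⁻¹) : p = q := by
  have hw := (l.eq_iff h hp hq).1 e
  obtain ⟨w, rfl⟩ : ∃ w, p = w * q := ⟨p * q⁻¹, by group⟩
  rw [mul_inv_cancel_right] at hw
  rw [← conj_mul, zcj hw (h.θz _), e2, _root_.mul_inv_rev, ← zc hw (h.ez.zc (inv_mem hq)), mul_right_inj,
    eq_inv_iff_mul_eq_one] at e1
  rw [eq_one (zcube h.ez.z3 hw) e1, one_mul]

theorem exists_form : ∃ y, (y = z ∨ y = z⁻¹) ∧ ∀ p ∈ Q, ∀ q ∈ Q, p * q * p⁻¹ * q⁻¹ = pz y (B0 (F p) (F q)) := by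
  have z3 := h.ez.z3
  choose ev e1 e2 using l.onto
  choose b hb using fun v w => pz_surj z3 (h.ez.cmt _ (e1 v) _ (e1 w))
  have ml : ∀ p ∈ Q, ∀ p' ∈ Q, ∀ q ∈ Q, p * p' * q * (p * p')⁻¹ * q⁻¹ =
      p * q * p⁻¹ * q⁻¹ * (p' * q * p'⁻¹ * q⁻¹) := fun p hp p' hp' q hq => by
    rw [zc (h.ez.cmt _ hp' _ hq) (h.ez.zc (h.ez.ZP (h.ez.cmt _ hp _ hq))), ← zcj (h.ez.cmt _ hp' _ hq) (h.ez.zc hp)]
    group
  have sw : ∀ p q : G, p * q * p⁻¹ * q⁻¹ = (q * p * q⁻¹ * p⁻¹)⁻¹ := fun p q => by group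
  have cl : ∀ p ∈ Q, ∀ p' ∈ Q, ∀ q ∈ Q, F p = F p' → p * q * p⁻¹ * q⁻¹ = p' * q * p'⁻¹ * q⁻¹ :=
    fun p hp p' hp' q hq e => by
      have hw := (l.eq_iff h hp hp').1 e
      obtain ⟨w, rfl⟩ : ∃ w, p = w * p' := ⟨p * p'⁻¹, by group⟩
      rw [mul_inv_cancel_right] at hw
      rw [ml _ (h.ez.ZP hw) _ hp' _ hq, ← zc hw (h.ez.zc hq)]
      group
  have hc : ∀ p ∈ Q, ∀ q ∈ Q, p * q * p⁻¹ * q⁻¹ = pz z (b (F p) (F q)) := fun p hp q hq => by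
    rw [hb, cl p hp _ (e1 _) q hq (e2 _).symm, sw, cl q hq _ (e1 _) _ (e1 _) (e2 _).symm, ← sw]
  have a1 : ∀ u v w, b (u + v) w = b u w + b v w := fun u v w => pz_inj h.ez.z1 z3 (by
    rw [pz_add z3, hb u, hb v, ← ml _ (e1 u) _ (e1 v) _ (e1 w), hc _ (mul_mem (e1 u) (e1 v)) _ (e1 w),
      l.add _ (e1 u) _ (e1 v), e2, e2, e2])
  have a0 : ∀ v w, b v w = -b w v := fun v w => pz_inj h.ez.z1 z3 (by rw [pz_neg z3, hb, hb, ← sw])
  have a2 : ∀ (c : ZMod 3) v w, b (c • v) w = c • b v w := fun c v w =>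
    ZMod.map_smul (AddMonoidHom.mk' (fun v => b v w) fun u v => a1 u v w) c v
  let B := LinearMap.mk₂ (ZMod 3) b a1 a2 (fun u v w => by rw [a0, a1, a0 v, a0 w]; ring)
    fun c v w => by rw [a0, a2, a0 w]; simp
  have := form_eq (B := B) (by
    rintro _ ⟨e, rfl⟩ v w
    refine pz_inj h.ez.z1 z3 (?_ : pz z (b _ _) = pz z (b _ _))
    rw [hb v, ← zcj (h.ez.cmt _ (e1 v) _ (e1 w)) (h.θz e), ← e2 v, ← e2 w, ← l.rm e _ (e1 v), ← l.rm e _ (e1 w),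
      ← hc _ (nC h (h.θz e) (e1 v)) _ (nC h (h.θz e) (e1 w)), e2, e2]
    group) fun e => by
      have := (l.ker _ (e1 1)).2 (h.ez.cen _ (e1 1) fun y hy => by
        have := hc y hy _ (e1 1)
        rw [show b _ _ = B _ _ from rfl, e, LinearMap.zero_apply, LinearMap.zero_apply, pz_zero, mul_inv_eq_one,
          mul_inv_eq_iff_eq_mul] at this
        exact this)
      rw [e2] at this
      exact one_ne_zero this
  rcases this with e | e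
  · exact ⟨z, Or.inl rfl, fun p hp q hq => by rw [hc p hp q hq, ← e]; rfl⟩
  · refine ⟨z⁻¹, Or.inr rfl, fun p hp q hq => ?_⟩
    rw [hc p hp q hq, ← pz_inv z3, show b _ _ = B _ _ from rfl, e]
    simp

end Lin

end Co2

open Co2 Es in
theorem Ab.exists_HS (h : Ab z Q θ) : ∃ φ ψ, HS φ ψ (θ (TG.o 64)) ∧ (φ zz = z ∨ φ zz = z⁻¹) ∧ φ.range = Q ∧
    ∀ e, ψ (θ e) = rm e := by
  obtain ⟨F, l⟩ := exists_lin h
  obtain ⟨y, hy, hc⟩ := l.exists_form h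
  choose ev e1 e2 e3 using l.exists_ev h
  have eZ : zpowers y = zpowers z := hy.elim (fun e => e ▸ rfl) fun e => e ▸ zpowers_inv
  have eC : Cx y = Cx z := hy.elim (fun e => e ▸ rfl) fun e => by
    ext g
    rw [e, mem_Cx, mem_Cx]
    exact Commute.inv_right_iff
  have y1 : y ≠ 1 := hy.elim (fun e => e ▸ h.ez.z1) fun e => e ▸ inv_ne_one.2 h.ez.z1
  have y3 : y ^ 3 = 1 := zcube h.ez.z3 (eZ ▸ mem_zpowers y)
  have pm : ∀ c, pz y c ∈ zpowers z := fun c => eZ ▸ pz_mem y c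
  have pc : ∀ c, ∀ g ∈ Cx z, g * pz y c = pz y c * g := fun c g hg => zc (pm c) hg
  have em : ∀ v w, ev v * ev w * pz y (B0 v w) = ev (v + w) := fun v w => by
    refine l.uniq h (mul_mem (mul_mem (e1 v) (e1 w)) (h.ez.ZP (pm _))) (e1 _) ?_ ?_ (e3 _)
    · rw [l.mulz h (mul_mem (e1 v) (e1 w)) (pm _), l.add _ (e1 v) _ (e1 w), e2, e2, e2]
    · have k := hc _ (inv_mem (e1 v)) _ (inv_mem (e1 w))
      rw [l.inv h (e1 v), l.inv h (e1 w), e2, e2, map_neg, map_neg, LinearMap.neg_apply, neg_neg] at k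
      rw [← conj_mul, ← conj_mul, e3, e3, zcj (pm _) (h.θz _), _root_.mul_inv_rev, ← pz_neg y3,
        show -B0 v w = B0 v w + B0 v w from (by decide : ∀ c : ZMod 3, -c = c + c) _, pz_add y3,
        pc _ _ (h.ez.zc (mul_mem (inv_mem (e1 v)) (inv_mem (e1 w)))), mul_assoc (pz y _), mul_right_inj, ← k]
      group
  have e0 : ev 0 = 1 := l.uniq h (e1 0) (one_mem _) ((e2 0).trans (l.one h).symm) (e3 0) (by group)
  let φ : He →* G := MonoidHom.mk' (fun a => ev a.v * pz y a.c) fun a b => by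
    rw [He.mul_v, He.mul_c, ← em, sub_eq_add_neg, pz_add y3, pz_add y3, pz_neg y3]
    calc _ = ev a.v * ev b.v * (pz y (B0 a.v b.v) * (pz y a.c * pz y b.c)) * (pz y (B0 a.v b.v))⁻¹ := by group
      _ = ev a.v * (ev b.v * pz y a.c) * pz y b.c := by
        rw [← pc _ _ (zle (mul_mem (pm _) (pm _)))]; group
      _ = _ := by rw [pc _ _ (h.ez.zc (e1 _))]; group
  have φd : ∀ a, φ a = ev a.v * pz y a.c := fun _ => rfl
  have φQ : ∀ a, φ a ∈ Q := fun a => mul_mem (e1 _) (h.ez.ZP (pm _))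
  have φF : ∀ a, F (φ a) = a.v := fun a => (l.mulz h (e1 _) (pm _)).trans (e2 _)
  have φz : φ zz = y := by rw [φd, show zz.v = 0 from rfl, e0, one_mul]; exact pow_one y
  have φr : ∀ q ∈ Q, ∃ c, q = φ ⟨F q, c⟩ := fun q hq => by
    have := (l.eq_iff h hq (e1 (F q))).1 (e2 _).symm
    obtain ⟨c, hc⟩ := pz_surj y3 (eZ ▸ this)
    exact ⟨c, by rw [φd, pc _ _ (h.ez.zc (e1 _)), hc, inv_mul_cancel_right]⟩
  have eQ : φ.range = Q := le_antisymm (by rintro _ ⟨a, rfl⟩; exact φQ a) fun q hq =>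
    let ⟨c, e⟩ := φr q hq; ⟨_, e.symm⟩
  have ex : ∀ g ∈ Cx z, ∃ s : Sp, ∀ q ∈ Q, F (g * q * g⁻¹) = s • F q := fun g hg => by
    obtain ⟨A, hA⟩ := l.lin g hg
    obtain ⟨s, rfl⟩ := exists_mat (sp_of_B0 (A := A) fun v w => pz_inj y1 y3 (by
      rw [← e2 v, ← e2 w, ← hA _ (e1 v), ← hA _ (e1 w), ← hc _ (nC h hg (e1 v)) _ (nC h hg (e1 w)),
        ← hc _ (e1 v) _ (e1 w), ← zcj (h.ez.cmt _ (e1 v) _ (e1 w)) hg]
      group))
    exact ⟨s, hA⟩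
  have : Nonempty Sp := ⟨1⟩
  choose! ψ hψ using ex
  have un : ∀ g ∈ Cx z, ∀ s : Sp, (∀ q ∈ Q, F (g * q * g⁻¹) = s • F q) → ψ g = s := fun g hg s k =>
    eq_of_smul fun v => by rw [← e2 v, ← hψ g hg _ (e1 v), k _ (e1 v)]
  have ψm : ∀ a ∈ Cx z, ∀ b ∈ Cx z, ψ (a * b) = ψ a * ψ b := fun a ha b hb => un _ (mul_mem ha hb) _ fun q hq => by
    rw [mul_smul, ← hψ b hb q hq, ← hψ a ha _ (nC h hb hq)]
    congr 1
    group
  have ψθ : ∀ e, ψ (θ e) = rm e := fun e => un _ (h.θz e) _ (l.rm e)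
  have ψQ : ∀ p ∈ Q, ψ p = 1 := fun p hp => un _ (h.ez.zc hp) _ fun q hq => by
    rw [one_smul, l.eq_iff h (nC h (h.ez.zc hp) hq) hq]
    exact h.ez.cmt p hp q hq
  refine ⟨φ, ψ, ⟨(injective_iff_map_eq_one _).2 fun a e => ?_, ?_, ?_, ?_, ?_, ?_, ?_, fun a => ?_,
    by rw [← map_mul, show (TG.o 64 * TG.o 64 : E7) = 1 by decide +kernel, map_one]⟩, φz ▸ hy, eQ, ψθ⟩
  · have : a.v = 0 := by rw [← φF, e, l.one h]
    rw [φd, this, e0, one_mul] at e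
    exact He.ext this (pz_eq_one y1 y3 e)
  · rw [φz, eZ, eQ]; exact h.nQ
  · rw [φz, eC]; exact ψm
  · rw [φz, eC, eQ]
    exact fun g hg e => h.faith g hg fun q hq => (l.eq_iff h (nC h hg hq) hq).1 (by rw [hψ g hg q hq, e, one_smul])
  · rw [φz, eC]
    intro g hg a
    have := φr _ (nC h hg (φQ a))
    rwa [hψ g hg _ (φQ a), φF] at this
  · rw [φz, eC]
    refine fun g hg => mem_N1.2 fun e _ => ?_
    obtain ⟨e', k⟩ := h.θn g hg e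
    refine ⟨e', ?_⟩
    rw [eq_mul_inv_iff_mul_eq, ← ψθ, ← ψθ, ← ψm _ hg _ (h.θz e), ← ψm _ (h.θz e') _ hg,
      show g * θ e = g * θ e * g⁻¹ * (θ e')⁻¹ * (θ e' * g) by group, ψm _ (h.ez.zc k) _ (mul_mem (h.θz e') hg),
      ψQ _ k, one_mul]
  · rw [φz, eC]
    rintro _ ⟨e, rfl⟩
    exact ⟨_, h.θz e, ψθ e⟩
  · rw [φd, φd, ← conj_mul, zcj (pm _) (h.θz _), e3, He.smul_v, He.smul_c, ng_smul, mul_left_inj]
    exact l.uniq h (inv_mem (e1 _)) (e1 _) (by rw [l.inv h (e1 _), e2, e2]) (by rw [← conj_inv, e3]) (e3 _)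

end CfsgLib.Rec3D
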