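import Cfsg.Agent.Lib.Rec3D.Blk
import Cfsg.Agent.Lib.Rec3B.F1
import Cfsg.Agent.Lib.Rec3B.FT

/-! Centralisers of shape `3^{1+8} . 2^{1+6} . X` (plans/REC3D.md). -/

set_option autoImplicit false

namespace CfsgLib.Rec3D

open Subgroup Cfsg CfsgLib.Tech CfsgLib.W2 CfsgLib.Rec3B

variable {G : Type*} [Group G]

/-- the data before coordinates are chosen: `θ` lifts `O₂(C(z) / Q)` -/
structure Ab (z : G) (Q : Subgroup G) (θ : E7 →* G) : Prop where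
  ez : Ez Q z
  exp : ∀ q ∈ Q, q ^ 3 = 1
  card : Nat.card Q = 3 ^ 9
  nQ : normalizer (zpowers z : Set G) ≤ normalizer (Q : Set G)
  faith : ∀ g ∈ Cx z, (∀ q ∈ Q, g * q * g⁻¹ * q⁻¹ ∈ zpowers z) → g ∈ Q
  θz : ∀ e, θ e ∈ Cx z
  θ1 : θ (TG.o 64) ∉ Q
  θn : ∀ g ∈ Cx z, ∀ e, ∃ e', g * θ e * g⁻¹ * (θ e')⁻¹ ∈ Q

/-- an element of order three that is central modulo `Q θ(E7)` -/
def AbT (z : G) (Q : Subgroup G) (θ : E7 →* G) : Prop :=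
  ∃ t ∈ Cx z, (∀ e, t * (θ e)⁻¹ ∉ Q) ∧ (∃ e, t ^ 3 * (θ e)⁻¹ ∈ Q) ∧
    ∀ s ∈ Cx z, ∃ e, s * t * s⁻¹ * t⁻¹ * (θ e)⁻¹ ∈ Q

/-- coordinates: `z = φ zz`, `Q = φ.range`, `ψ` is the action of `C(z)` on `Q / ⟨z⟩` -/
structure HS (φ : He →* G) (ψ : G → Sp) (ρ : G) : Prop where
  inj : Function.Injective φ
  nQ : normalizer (zpowers (φ zz) : Set G) ≤ normalizer (φ.range : Set G)
  mul : ∀ a ∈ Cx (φ zz), ∀ b ∈ Cx (φ zz), ψ (a * b) = ψ a * ψ b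
  ker : ∀ g ∈ Cx (φ zz), ψ g = 1 → g ∈ φ.range
  act : ∀ g ∈ Cx (φ zz), ∀ h : He, ∃ c, g * φ h * g⁻¹ = φ ⟨ψ g • h.v, c⟩
  mem : ∀ g ∈ Cx (φ zz), ψ g ∈ N1
  onR : ∀ r ∈ Rm, ∃ g ∈ Cx (φ zz), ψ g = r
  ρa : ∀ h, ρ * φ h * ρ⁻¹ = φ (ng • h)
  ρρ : ρ * ρ = 1

variable {φ : He →* G} {ψ : G → Sp} {ρ : G}

/-- `ψ` as a homomorphism -/
noncomputable def HS.hom (h : HS φ ψ ρ) : Cx (φ zz) →* Sp :=
  MonoidHom.mk' (fun g => ψ g) fun a b => h.mul a a.2 b b.2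

/-- the image of `C(z)` -/
noncomputable def HS.Im (h : HS φ ψ ρ) : Subgroup Sp := h.hom.range

theorem HS.mem_Im (h : HS φ ψ ρ) {s : Sp} : s ∈ h.Im ↔ ∃ g ∈ Cx (φ zz), ψ g = s :=
  ⟨fun ⟨g, e⟩ => ⟨g.1, g.2, e⟩, fun ⟨g, hg, e⟩ => ⟨⟨g, hg⟩, e⟩⟩

/-- the type `Fi₂₃` -/
def TF (K : Subgroup Sp) : Prop :=
  Nat.card K = 128 * 648 ∧ ∃ t ∈ K, t ∉ Rm ∧ t ^ 3 ∈ Rm ∧ ∀ s ∈ K, s * t * s⁻¹ * t⁻¹ ∈ Rm

/-- the type `B` -/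
def TB (K : Subgroup Sp) : Prop := Nat.card K = 128 * 25920

/-- the elements of `Q` that commute with `φ h0 * c`, `ψ c = x` -/
def Dx (x : Sp) (h0 : He) : Subgroup He where
  carrier := {h | h0 * x • h = h * h0}
  one_mem' := by simp
  mul_mem' := fun {a b} ha hb => by
    change _ = _ at ha hb ⊢
    rw [smul_mul', ← mul_assoc, ha, mul_assoc, hb, mul_assoc]
  inv_mem' := fun {a} ha => by
    change _ = _ at ha ⊢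
    rw [smul_inv', mul_inv_eq_iff_eq_mul, mul_assoc, ha, inv_mul_cancel_left]

/-- the intersection `E` of `Q` with a conjugate `Q'` whose centre is generated by `φ h0 * c` -/
structure OM (x : Sp) (h0 : He) (E : Subgroup He) : Prop where
  z : zz ∉ E
  le : E ≤ Dx x h0
  inv : ∀ r ∈ Rm, r * x = x * r → ∀ k : He, k * r • h0 = h0 * x • k → ∀ e ∈ E, k * r • e * k⁻¹ ∈ E
  star : ∀ h : He, h * (h0 * x • h⁻¹ * h0⁻¹) ∈ E → h * (h0 * x • h⁻¹ * h0⁻¹) = 1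
  card : Nat.card (Dx x h0) ≤ 27 * Nat.card E

/-- the involution `a` -/
structure HA (φ : He →* G) (ψ : G → Sp) (ρ a : G) (K : Subgroup Sp) : Prop extends HS φ ψ ρ where
  im : ∀ s, s ∈ K ↔ ∃ g ∈ Cx (φ zz), ψ g = s
  eK : K = N0 ∨ K = N1
  az : a ∈ Cx (φ zz)
  aρ : a ∈ Cx ρ
  ψa : ψ a = aa
  a2 : a * a = 1
  cnj : ∃ p ∈ Cx a, p * φ zz * p⁻¹ ∈ φ.range ∧ p * φ zz * p⁻¹ ∉ zpowers (φ zz)
  inv : ∃ t ∈ closure {g | g ∈ Cx a ∧ g ^ 3 = 1}, t * φ zz * t⁻¹ = (φ zz)⁻¹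

/-- `Rec3B.F1x.Pre` with a variable order of `P / Q` -/
structure PreC (c : ℕ) (z : G) (Q P : Subgroup G) (Qi : Fin 3 → Subgroup G) : Prop where
  ez : Ez Q z
  ezi : ∀ i, Ez (Qi i) z
  le : ∀ i, Qi i ≤ Q
  nQ : normalizer (zpowers z : Set G) ≤ normalizer (Q : Set G)
  card : Nat.card Q = 3 ^ 7
  cardi : ∀ i, Nat.card (Qi i) = 27
  cm : ∀ i j, i ≠ j → ∀ p ∈ Qi i, ∀ q ∈ Qi j, p * q = q * p
  sup : Qi 0 ⊔ Qi 1 ⊔ Qi 2 = Q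
  cQ : ∀ g ∈ Cx z, (∀ q ∈ Q, q * g = g * q) → g ∈ Q
  core : ∀ N ≤ Cx z, Cx z ≤ normalizer (N : Set G) → IsPGroup 3 N → N ≤ Q
  QP : Q ≤ P
  Pz : P ≤ Cx z
  nP : Cx z ≤ normalizer (P : Set G)
  Pc : Nat.card P = c * 3 ^ 7
  Pn : ∀ i, P ≤ normalizer (Qi i : Set G)
  pmax : ∀ N ≤ Cx z, Cx z ≤ normalizer (N : Set G) → (∀ g ∈ N, g ^ 4 ∈ Q) → N ≤ P
  cent : ∀ i, ∃ x ∈ P, (∀ q ∈ Qi i, x * q * x⁻¹ * q ∈ zpowers z) ∧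
    ∀ j ≠ i, ∀ q ∈ Qi j, x * q * x⁻¹ * q⁻¹ ∈ zpowers z

theorem PreC.pre {z : G} {Q P : Subgroup G} {Qi : Fin 3 → Subgroup G} (h : PreC 128 z Q P Qi) : F1x.Pre z Q P Qi :=
  ⟨h.ez, h.ezi, h.le, h.nQ, h.card, h.cardi, h.cm, h.sup, h.cQ, h.core, h.QP, h.Pz, h.nP, h.Pc, h.Pn, h.pmax, h.cent⟩

end CfsgLib.Rec3D
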