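import Cfsg.Agent.Lib.Rec3D.Cen
import Cfsg.Agent.Lib.Rec3B.F3
import Cfsg.Agent.Lib.Rec3B.F6
import Cfsg.Agent.S1714

/-! The case `Fi₂₃`, FIN (plans/REC3D.md). -/

set_option autoImplicit false
set_option maxRecDepth 100000
set_option linter.unusedSectionVars false
set_option linter.unusedVariables false

namespace CfsgLib.Rec3D

open Subgroup Cfsg CfsgLib.Tech CfsgLib.W2 CfsgLib.Rec3B Matrix
open CfsgLib.U43 (SL)

open Es FT

variable {G : Type*} [Group G] [Finite G] {φ : He →* G} {ψ : G → Sp} {ρ g c a : G} {K : Subgroup Sp}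

theorem three_of_sq {H L : Subgroup G} (e : ∀ g ∈ L, g * g ∈ H) (hg : g ∈ L) {n : ℕ} (g3 : g ^ 3 ^ n = 1) : g ∈ H := by
  obtain ⟨m, hm⟩ : Odd (3 ^ n) := Odd.pow (by decide)
  have := pow_mem (e g hg) (m + 1)
  rwa [← sq, ← pow_mul, show 2 * (m + 1) = 3 ^ n + 1 by omega, pow_succ, g3, one_mul] at this

namespace HA

variable (h : HA φ ψ ρ a K)
include h

theorem normT {T : Subgroup G} (hT : IsSylowIn 3 T (Cx (φ zz) ⊓ Cx a)) (ha : g ∈ Cx a)
    (hg : g ∈ normalizer (T : Set G)) : g * φ zz * g⁻¹ = φ zz ∨ g * φ zz * g⁻¹ = (φ zz)⁻¹ := by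
  have : Fact (Nat.Prime 3) := ⟨by norm_num⟩
  have QT : φ.range ⊓ Cx a ≤ T := hT.le_of_le_normalizer h.toHS.hz.two.to_inf_left
    (inf_le_inf_right _ (range_le φ)) fun g hg => mem_normalizer_of_forall fun x hx => mem_inf.2
      ⟨conj_mem_of_mem_normalizer (h.toHS.norm_Q hg.1) hx.1,
        mul_mem (mul_mem (mem_inf.1 hg).2 (mem_inf.1 hx).2) (inv_mem (mem_inf.1 hg).2)⟩
  have zT : φ zz ∈ T := QT ⟨⟨zz, rfl⟩, h.za⟩
  have m := hT.le (conj_mem_of_mem_normalizer hg zT)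
  have c : ∀ q ∈ T, q * (g * φ zz * g⁻¹) = g * φ zz * g⁻¹ * q := fun q hq => by
    calc _ = g * (g⁻¹ * q * g * φ zz) * g⁻¹ := by group
      _ = _ := by rw [mem_Cx.1 (hT.le (conj_mem_of_mem_normalizer' hg hq)).1]; group
  have e := triv_on (h.mem _ m.1) (h.ψ_comm m.1 m.2) fun v hv => h.toHS.fix_v m.1 (a := ⟨v, 0⟩)
    (mem_Cx.2 (c _ (QT ⟨⟨_, rfl⟩, h.φa.2 fun l hl => by fin_cases l <;> first | exact hv | simp at hl⟩)).symm)
  have e3 : ψ (g * φ zz * g⁻¹) ^ 3 = 1 := by rw [← h.toHS.ψpow m.1, conj3 (z3 φ), h.toHS.ψ1]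
  obtain ⟨b, hb⟩ := h.ker _ m.1 (e.resolve_right fun e => aa_facts.2.1 (eq_one (e ▸ e3) aa_sq))
  have := mem_Z_of φ (Hb_cen (h.φa.1 (hb ▸ m.2)) fun k hk => h.inj (by
    rw [map_mul, map_mul, hb]; exact c _ (QT ⟨⟨k, rfl⟩, h.φa.2 hk⟩)))
  rw [hb] at this
  exact (three_cases (z3 φ) this).resolve_left fun e => h.toHS.z1 (by simpa using e)

theorem sylowA {T : Subgroup G} (hT : IsSylowIn 3 T (Cx (φ zz) ⊓ Cx a)) : IsSylowIn 3 T (Cx a) := by
  have : Fact (Nat.Prime 3) := ⟨by norm_num⟩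
  have le := hT.le.trans inf_le_right
  refine isSylowIn_of_isSylowIn_normalizer le (isSylowIn_of_maximal hT.pgroup (le_inf le le_normalizer)
    fun R h3 TR RN => (hT.eq_of_le h3 TR fun y hy => ⟨?_, (RN hy).1⟩).le)
  obtain ⟨k, hk⟩ := isPGroup_iff_mem.1 h3 y hy
  exact mem_Cx.2 (Rec3.comm_of_odd (Odd.pow (by decide)) hk (h.normT hT (RN hy).1 (RN hy).2))

theorem gen {H : Subgroup G} (h1 : H ≤ Cx a) (hn : Cx a ≤ normalizer (H : Set G))
    (h3 : ∀ g ∈ Cx a, g ^ 3 = 1 → g ∈ H) (hC : Cx (φ zz) ⊓ Cx a ≤ H) : Cx a ≤ H := fun g hg => by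
  have : Fact (Nat.Prime 3) := ⟨by norm_num⟩
  obtain ⟨T, hT⟩ := exists_isSylowIn 3 (Cx (φ zz) ⊓ Cx a)
  obtain ⟨n, nH, e⟩ := ((h.sylowA hT).of_le (hT.le.trans hC) h1).frattini (hn hg)
  obtain ⟨t, ht, et⟩ := h.inv
  have tH : t ∈ H := (closure_le _).2 (fun x hx => h3 x hx.1 hx.2) ht
  have m := mul_mem (h1 nH) hg
  rw [← mul_mem_cancel_left nH]
  rcases h.normT hT m e with e | e
  · exact hC ⟨mem_Cx'.2 e, m⟩
  · rw [← mul_mem_cancel_left (inv_mem tH)]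
    refine hC (mem_inf.2 ⟨mem_Cx'.2 ?_, mul_mem (inv_mem (h1 tH)) m⟩)
    calc _ = t⁻¹ * (n * g * φ zz * (n * g)⁻¹) * t := by group
      _ = _ := by rw [e, ← et]; group

theorem exists_cj : ∃ g, g * a * g⁻¹ ∈ Cx a ∧ g * a * g⁻¹ ≠ a := by
  obtain ⟨-, -, -, -, -, t1R, ne, cm⟩ := aa_facts
  obtain ⟨c, cz, cρ, e⟩ := h.toHS.lift (h.toHS.Rm_le_Im t1R)
  have k := h.toHS.ψcj cz h.az
  rw [e, h.ψa] at k
  refine ⟨c, h.toHS.commX h.az h.aρ (mul_mem (mul_mem cz h.az) (inv_mem cz))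
    (mul_mem (mul_mem cρ h.aρ) (inv_mem cρ)) ?_ (by rw [k, h.ψa, cm]), fun e => ne (by rw [← k, e, h.ψa])⟩
  rw [show 8 = 2 * 4 from rfl, pow_mul, sq, h.a2, one_pow]

end HA

theorem HA.no_two (h : HA φ ψ ρ a N0) (H : Subgroup (Cx a)) : H.index ≠ 2 := fun i2 => by
  have sq : ∀ g ∈ Cx a, g * g ∈ H.map (Cx a).subtype := fun g hg =>
    ⟨_, mul_self_mem_of_index_two i2 ⟨g, hg⟩, rfl⟩
  have h3 : ∀ g ∈ Cx a, g ^ 3 = 1 → g ∈ H.map (Cx a).subtype := fun g hg e =>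
    three_of_sq sq hg (n := 1) (by simpa using e)
  have := normal_of_index_eq_two i2
  have := h.gen (map_subtype_le H) (Core.le_normalizer_map_subtype_of_normal H) h3 fun g hg => by
    obtain ⟨c, hc, e⟩ := (h.toHS.mem_img (D := H.map (Cx a).subtype ⊓ Cx (φ zz)) inf_le_right).1
      (sq_gen0 (fun s hs e => by
        obtain ⟨c, cz, -, ca, rfl⟩ := h.liftA hs e
        exact (h.toHS.mem_img inf_le_right).2 ⟨c * c, ⟨sq c ca, mul_mem cz cz⟩, h.mul _ cz _ cz⟩)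
        _ (h.ψK hg.1) (h.ψ_comm hg.1 hg.2))
    have hc1 := (mem_inf.1 hc).1
    rw [← mul_mem_cancel_right (inv_mem hc1)]
    exact h3 _ (mul_mem (mem_inf.1 hg).2 (inv_mem (map_subtype_le H hc1)))
      (h.toHS.mq.exp _ (h.toHS.mem_of_eq hg.1 hc.2 e.symm))
  rw [eq_top_iff.2 (show ⊤ ≤ H from fun x _ => (mem_map_iff_mem (subtype_injective _)).1 (this x.2)), index_top] at i2
  omega

theorem HA.fi23 (h : HA φ ψ ρ a N0) : Spor.IsoFi23 G := by
  have o2 : orderOf a = 2 := orderOf_eq_prime (by rw [sq, h.a2]) h.a1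
  have cen : (zpowers a).subgroupOf (Cx a) ≤ center (Cx a) := fun x hx =>
    mem_center_iff.2 fun g => Subtype.ext (zc hx g.2)
  have nrm : ((zpowers a).subgroupOf (Cx a)).Normal := ⟨fun y hy g => by
    rwa [mem_center_iff.1 (cen hy) g, mul_inv_cancel_right]⟩
  obtain ⟨F, q, -⟩ := exists_QT h.a2 (QuotientGroup.mk' ((zpowers a).subgroupOf (Cx a)))
    (QuotientGroup.mk'_surjective _) fun x => QuotientGroup.eq_one_iff x
  obtain ⟨P₀, r, π, τ, f⟩ := (h.preC q (c := 128) card_PK0).pre.exists_FH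
  obtain ⟨a', b, x, σ, k⟩ := f.exists_FX (h.cnjQ q)
  have e : Spor.IsoFi22 (Cx a ⧸ (zpowers a).subgroupOf (Cx a)) := k.fi22.resolve_right fun ⟨e⟩ =>
    h.no_two ((Inn Spor.Fi22).comap (e.toMonoidHom.comp (QuotientGroup.mk' _)))
      ((index_comap_of_surjective _ (e.surjective.comp (QuotientGroup.mk'_surjective _))).trans Agent.S2079.result)
  obtain ⟨e0⟩ := id e
  have := Fischer.simple22
  have sm := e0.isSimpleGroup
  have pf : (commutator (Cx a)).map (QuotientGroup.mk' ((zpowers a).subgroupOf (Cx a))) = ⊤ := by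
    rw [map_commutator_eq, MonoidHom.range_eq_top.2 (QuotientGroup.mk'_surjective _), ← commutator_def,
      ← map_equiv_top e0.symm, ← Fischer.perfect22, map_commutator_eq, MonoidHom.range_eq_top.2 e0.symm.surjective]
    rfl
  have ec : center (Cx a) = (zpowers a).subgroupOf (Cx a) := le_antisymm (by
    rcases (Normal.map (inferInstance : (center (Cx a)).Normal) _ (QuotientGroup.mk'_surjective
      ((zpowers a).subgroupOf (Cx a)))).eq_bot_or_eq_top with e | e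
    · rwa [Subgroup.map_eq_bot_iff, QuotientGroup.ker_mk'] at e
    · refine absurd (pf.symm.trans ?_) top_ne_bot
      rw [map_commutator_eq, commutator_eq_bot_iff_le_centralizer]
      rintro x - _ ⟨y, rfl⟩
      obtain ⟨x, hx, rfl⟩ := e.ge (mem_top x)
      rw [← map_mul, mem_center_iff.1 hx, map_mul]) cen
  refine Agent.S1714.result a o2 ⟨⟨?_⟩, (QuotientGroup.quotientMulEquivOfEq ec).isSimpleGroup⟩ e h.exists_cj
  have s := congrArg (comap (QuotientGroup.mk' ((zpowers a).subgroupOf (Cx a)))) pf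
  rw [comap_map_eq, QuotientGroup.ker_mk', comap_top] at s
  have d : (commutator (Cx a)).index ∣ 2 := by
    rw [← relIndex_top_right, ← s, relIndex_sup_left, ← o2, ← Nat.card_zpowers,
      ← Nat.card_congr (subgroupOfEquivOfLe (zpowers_le.2 (QT.aa_mem (a := a)))).toEquiv]
    exact relIndex_dvd_card _ _
  exact index_eq_one.1 (((Nat.dvd_prime Nat.prime_two).1 d).resolve_right (h.no_two _))

end CfsgLib.Rec3D
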