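import Mathlib
import Cfsg.Agent.Lib.W2.Tab
import Cfsg.Agent.Lib.U43.Model

/-! A computable model of `Sp₈(3)`, of the Heisenberg group `3^{1+8}` and of `2^{1+6}_-` (plans/REC3D.md). -/

set_option autoImplicit false
set_option maxRecDepth 100000

namespace CfsgLib.Rec3D

open Matrix CfsgLib.W2
open CfsgLib.U43 (SL)

abbrev V8 : Type := Fin 8 → ZMod 3
abbrev M8 : Type := Matrix (Fin 8) (Fin 8) (ZMod 3)

/-- an entry of a coded matrix -/
def ent (a i j : ℕ) : ℕ := Nat.mod (Nat.shiftRight a (Nat.mul 2 (Nat.add (Nat.mul 8 i) j))) 4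

noncomputable def pk (f : ℕ → ℕ) (n : ℕ) : ℕ :=
  Nat.rec 0 (fun n acc => Nat.add acc (Nat.shiftLeft (Nat.mod (f n) 3) (Nat.mul 2 n))) n

/-- the code of a matrix -/
noncomputable def pack (f : ℕ → ℕ → ℕ) : ℕ := pk (fun n => f (Nat.div n 8) (Nat.mod n 8)) 64

theorem pk_succ (f : ℕ → ℕ) (n : ℕ) : pk f (n + 1) = pk f n + f n % 3 * 4 ^ n := by
  change pk f n + (f n % 3) <<< (2 * n) = _
  rw [Nat.shiftLeft_eq, pow_mul]; rfl

theorem pk_lt (f : ℕ → ℕ) : ∀ n, pk f n < 4 ^ n
  | 0 => Nat.one_pos
  | n + 1 => by
    have h1 := pk_lt f n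
    have h2 : f n % 3 * 4 ^ n ≤ 2 * 4 ^ n := Nat.mul_le_mul_right _ (by omega)
    rw [pk_succ, pow_succ]; omega

theorem pk_dig (f : ℕ → ℕ) {k : ℕ} : ∀ n, k < n → pk f n / 4 ^ k % 4 = f k % 3
  | 0, h => absurd h (Nat.not_lt_zero _)
  | n + 1, h => by
    rw [pk_succ]
    rcases Nat.lt_succ_iff_lt_or_eq.1 h with h | rfl
    · obtain ⟨d, rfl⟩ := Nat.exists_eq_add_of_lt h
      rw [show f (k + d + 1) % 3 * 4 ^ (k + d + 1) = 4 ^ k * (4 * (f (k + d + 1) % 3 * 4 ^ d)) by ring,
        Nat.add_mul_div_left _ _ (by positivity), Nat.add_mul_mod_self_left, pk_dig f _ h]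
    · rw [Nat.add_mul_div_right _ _ (by positivity), Nat.div_eq_of_lt (pk_lt f k), zero_add]
      omega

theorem ent_pack (f : ℕ → ℕ → ℕ) {i j : ℕ} (hi : i < 8) (hj : j < 8) : ent (pack f) i j = f i j % 3 := by
  change pack f >>> (2 * (8 * i + j)) % 4 = _
  rw [Nat.shiftRight_eq_div_pow, pow_mul, pack, show (2 : ℕ) ^ 2 = 4 from rfl, pk_dig _ _ (by omega)]
  change f ((8 * i + j) / 8) ((8 * i + j) % 8) % 3 = _
  rw [show (8 * i + j) / 8 = i by omega, show (8 * i + j) % 8 = j by omega]

theorem pack_congr {f g : ℕ → ℕ → ℕ} (h : ∀ i < 8, ∀ j < 8, f i j % 3 = g i j % 3) : pack f = pack g := by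
  have : ∀ n ≤ 64, pk (fun n => f (Nat.div n 8) (Nat.mod n 8)) n = pk (fun n => g (Nat.div n 8) (Nat.mod n 8)) n := by
    intro n hn
    induction n with
    | zero => rfl
    | succ n ih =>
      rw [pk_succ, pk_succ, ih (by omega)]
      exact congrArg (fun t => _ + t * _) (h (n / 8) (by omega) (n % 8) (by omega))
  exact this 64 le_rfl

/-- the matrix of a code -/
def dec (a : ℕ) : M8 := Matrix.of fun i j => ((ent a i j : ℕ) : ZMod 3)

theorem dec_pack (f : ℕ → ℕ → ℕ) (i j : Fin 8) : dec (pack f) i j = (f i j : ZMod 3) := by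
  change ((ent (pack f) i j : ℕ) : ZMod 3) = _
  rw [ent_pack f i.2 j.2, ZMod.natCast_mod]

noncomputable def enc (A : M8) : ℕ :=
  pack fun i j => if h : i < 8 ∧ j < 8 then (A ⟨i, h.1⟩ ⟨j, h.2⟩).val else 0

theorem dec_enc (A : M8) : dec (enc A) = A := by
  ext i j
  rw [enc, dec_pack, dif_pos ⟨i.2, j.2⟩, ZMod.natCast_zmod_val]

/-- product of codes -/
noncomputable def cm (a b : ℕ) : ℕ := pack fun i j =>
  Nat.add (Nat.add (Nat.add (Nat.mul (ent a i 0) (ent b 0 j)) (Nat.mul (ent a i 1) (ent b 1 j)))
    (Nat.add (Nat.mul (ent a i 2) (ent b 2 j)) (Nat.mul (ent a i 3) (ent b 3 j))))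
   (Nat.add (Nat.add (Nat.mul (ent a i 4) (ent b 4 j)) (Nat.mul (ent a i 5) (ent b 5 j)))
    (Nat.add (Nat.mul (ent a i 6) (ent b 6 j)) (Nat.mul (ent a i 7) (ent b 7 j))))

/-- sum of codes -/
noncomputable def ca (a b : ℕ) : ℕ := pack fun i j => Nat.add (ent a i j) (ent b i j)

/-- transpose -/
noncomputable def ct (a : ℕ) : ℕ := pack fun i j => ent a j i

theorem dec_cm (a b : ℕ) : dec (cm a b) = dec a * dec b := by
  ext i j
  rw [cm, dec_pack, Matrix.mul_apply, Fin.sum_univ_eight]
  simp only [Nat.add_eq, Nat.mul_eq, dec, of_apply]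
  push_cast
  simp only [add_assoc]
  rfl

theorem dec_ca (a b : ℕ) : dec (ca a b) = dec a + dec b := by
  ext i j
  rw [ca, dec_pack]
  exact Nat.cast_add _ _

theorem dec_ct (a : ℕ) : dec (ct a) = (dec a)ᵀ := by
  ext i j
  rw [ct, dec_pack]; rfl

theorem can_pack (f : ℕ → ℕ → ℕ) : pack (ent (pack f)) = pack f :=
  pack_congr fun i hi j hj => by rw [ent_pack f hi hj, Nat.mod_mod]

theorem can_cm (a b : ℕ) : pack (ent (cm a b)) = cm a b := can_pack _
theorem can_ca (a b : ℕ) : pack (ent (ca a b)) = ca a b := can_pack _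
theorem can_enc (A : M8) : pack (ent (enc A)) = enc A := can_pack _

attribute [irreducible] pack cm ca ct enc

def cI : ℕ := 0x40001000040001000040001000040001
def cJ : ℕ := 0x20004000020004000020004000020004
def cK : ℕ := 0x10008000010008000010008000010008

/-- the matrix of the alternating form -/
def J0 : M8 := dec cJ

theorem dec_cI : dec cI = 1 := by decide +kernel
theorem dec_cK : dec cK = -J0 := by decide +kernel
theorem J0_sq : J0 * J0 = -1 := by decide +kernel
theorem J0_tr : J0ᵀ = -J0 := by decide +kernel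

theorem eq_of_dec {a b : ℕ} (ha : pack (ent a) = a) (hb : pack (ent b) = b) (h : dec a = dec b) : a = b := by
  rw [← ha, ← hb]
  exact pack_congr fun i hi j hj =>
    (ZMod.natCast_eq_natCast_iff' _ _ 3).1 (congrFun (congrFun h ⟨i, hi⟩) ⟨j, hj⟩)

noncomputable def ok (a : ℕ) : Bool := Nat.beq (pack (ent a)) a && Nat.beq (cm (ct a) (cm cJ a)) cJ

theorem ok_iff {a : ℕ} : ok a = true ↔ pack (ent a) = a ∧ (dec a)ᵀ * J0 * dec a = J0 := by
  rw [ok, Bool.and_eq_true, Nat.beq_eq, Nat.beq_eq]
  refine and_congr_right fun _ => ⟨fun h => ?_, fun h => eq_of_dec (can_cm _ _) (by decide +kernel) ?_⟩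
  · have := congrArg dec h
    rwa [dec_cm, dec_cm, dec_ct, ← Matrix.mul_assoc] at this
  · rw [dec_cm, dec_cm, dec_ct, ← Matrix.mul_assoc]; exact h

attribute [irreducible] ok

theorem sp_inv {A : M8} (h : Aᵀ * J0 * A = J0) : -J0 * (Aᵀ * J0) * A = 1 := by
  rw [Matrix.mul_assoc, h, Matrix.neg_mul, J0_sq, neg_neg]

/-- the symplectic group `Sp₈(3)`, on codes -/
def Sp : Type := {a : ℕ // ok a = true}

namespace Sp

instance : DecidableEq Sp := fun a b => decidable_of_iff (a.1 = b.1) Subtype.ext_iff.symm

theorem ext' {a b : Sp} (h : dec a.1 = dec b.1) : a = b :=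
  Subtype.ext (eq_of_dec (ok_iff.1 a.2).1 (ok_iff.1 b.2).1 h)

noncomputable instance : One Sp := ⟨⟨cI, by decide +kernel⟩⟩
noncomputable instance : Mul Sp := ⟨fun a b => ⟨cm a.1 b.1, ok_iff.2 ⟨can_cm _ _, by
  rw [dec_cm, transpose_mul]
  calc _ = (dec b.1)ᵀ * ((dec a.1)ᵀ * J0 * dec a.1) * dec b.1 := by simp only [Matrix.mul_assoc]
    _ = _ := by rw [(ok_iff.1 a.2).2, (ok_iff.1 b.2).2]⟩⟩⟩
noncomputable instance : Inv Sp := ⟨fun a => ⟨cm cK (cm (ct a.1) cJ), ok_iff.2 ⟨can_cm _ _, by
  rw [dec_cm, dec_cm, dec_ct, dec_cK]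
  have h := (ok_iff.1 a.2).2
  have h1 := mul_eq_one_comm.1 (sp_inv h)
  change (-J0 * ((dec a.1)ᵀ * J0))ᵀ * J0 * (-J0 * ((dec a.1)ᵀ * J0)) = J0
  generalize -J0 * ((dec a.1)ᵀ * J0) = B at h1
  calc _ = Bᵀ * ((dec a.1)ᵀ * J0 * dec a.1) * B := by rw [h]
    _ = (dec a.1 * B)ᵀ * J0 * (dec a.1 * B) := by simp only [transpose_mul, Matrix.mul_assoc]
    _ = _ := by simp [h1]⟩⟩⟩

theorem dec_mul (a b : Sp) : dec (a * b).1 = dec a.1 * dec b.1 := dec_cm _ _

noncomputable instance : Group Sp := Group.ofLeftAxioms
  (fun a b c => ext' (by simp only [dec_mul, Matrix.mul_assoc]))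
  (fun a => ext' (by rw [dec_mul]; change dec cI * _ = _; rw [dec_cI, Matrix.one_mul]))
  (fun a => ext' (by
    rw [dec_mul]
    change dec (cm cK (cm (ct a.1) cJ)) * _ = dec cI
    rw [dec_cm, dec_cm, dec_ct, dec_cK, dec_cI]
    exact sp_inv (ok_iff.1 a.2).2))

/-- the element with a given code -/
noncomputable def o (a : ℕ) : Sp := if h : ok a = true then ⟨a, h⟩ else 1

end Sp

/-- the matrix of an element -/
noncomputable def mat : Sp →* M8 := ⟨⟨fun a => dec a.1, dec_cI⟩, Sp.dec_mul⟩

theorem mat_inj : Function.Injective mat := fun _ _ => Sp.ext'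
theorem mat_sp (g : Sp) : (mat g)ᵀ * J0 * mat g = J0 := (ok_iff.1 g.2).2
theorem exists_mat {A : M8} (h : Aᵀ * J0 * A = J0) : ∃ g, mat g = A :=
  ⟨⟨enc A, ok_iff.2 ⟨can_enc _, by rw [dec_enc]; exact h⟩⟩, dec_enc A⟩
instance : Finite Sp := Finite.of_injective _ mat_inj

noncomputable instance : DistribMulAction Sp V8 where
  smul g v := mat g *ᵥ v
  one_smul v := by change mat 1 *ᵥ v = v; rw [map_one, one_mulVec]
  mul_smul a b v := by change mat (a * b) *ᵥ v = mat a *ᵥ mat b *ᵥ v; rw [map_mul, mulVec_mulVec]
  smul_zero g := mulVec_zero _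
  smul_add g := mulVec_add _

theorem smul_def (g : Sp) (v : V8) : g • v = mat g *ᵥ v := rfl

instance : SMulCommClass Sp (ZMod 3) V8 := ⟨fun g c v => mulVec_smul _ c v⟩

theorem eq_of_smul {g k : Sp} (h : ∀ v : V8, g • v = k • v) : g = k :=
  mat_inj (toLin'.injective (LinearMap.ext h))

/-- the alternating form -/
def B0 : V8 →ₗ[ZMod 3] V8 →ₗ[ZMod 3] ZMod 3 := Matrix.toBilin' J0

theorem B0_def (v w : V8) : B0 v w = v ⬝ᵥ J0 *ᵥ w := Matrix.toBilin'_apply' _ _ _

theorem B0_eq (v w : V8) : B0 v w = v 0 * w 1 - v 1 * w 0 + (v 2 * w 3 - v 3 * w 2) + (v 4 * w 5 - v 5 * w 4) +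
    (v 6 * w 7 - v 7 * w 6) := by
  have : J0 = !![0, 1, 0, 0, 0, 0, 0, 0; -1, 0, 0, 0, 0, 0, 0, 0; 0, 0, 0, 1, 0, 0, 0, 0; 0, 0, -1, 0, 0, 0, 0, 0;
      0, 0, 0, 0, 0, 1, 0, 0; 0, 0, 0, 0, -1, 0, 0, 0; 0, 0, 0, 0, 0, 0, 0, 1; 0, 0, 0, 0, 0, 0, -1, 0] := by
    decide +kernel
  rw [B0_def, this]
  simp [dotProduct, Fin.sum_univ_eight, mulVec]
  ring

@[simp] theorem B0_self (v : V8) : B0 v v = 0 := by rw [B0_eq]; ring
theorem B0_swap (v w : V8) : B0 w v = -B0 v w := by rw [B0_eq, B0_eq]; ring

theorem B0_mulVec (A : M8) (v w : V8) : B0 (A *ᵥ v) w = B0 v ((-J0 * Aᵀ * J0) *ᵥ w) := by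
  rw [B0_def, B0_def, mulVec_mulVec, ← Matrix.mul_assoc, ← Matrix.mul_assoc, Matrix.mul_neg, J0_sq, neg_neg,
    Matrix.one_mul, ← mulVec_mulVec, dotProduct_mulVec v, vecMul_transpose]

@[simp] theorem B0_smul (g : Sp) (v w : V8) : B0 (g • v) (g • w) = B0 v w := by
  rw [B0_def, B0_def, smul_def, smul_def, ← vecMul_transpose, ← dotProduct_mulVec, mulVec_mulVec, mulVec_mulVec, mat_sp]

theorem B0_nondeg {v : V8} (h : ∀ w, B0 v w = 0) : v = 0 := by
  have : v ᵥ* J0 = 0 := funext fun i => by
    have := h (Pi.single i 1)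
    rwa [B0_def, dotProduct_mulVec, dotProduct_single_one] at this
  have e := congrArg (· ᵥ* J0) this
  simpa [vecMul_vecMul, J0_sq, vecMul_neg] using e

/-- the Heisenberg group `3^{1+8}` -/
@[ext] structure He where
  v : V8
  c : ZMod 3

namespace He

instance : Mul He := ⟨fun a b => ⟨a.v + b.v, a.c + b.c - B0 a.v b.v⟩⟩
instance : One He := ⟨⟨0, 0⟩⟩
instance : Inv He := ⟨fun a => ⟨-a.v, -a.c⟩⟩

@[simp] theorem mul_v (a b : He) : (a * b).v = a.v + b.v := rfl
@[simp] theorem mul_c (a b : He) : (a * b).c = a.c + b.c - B0 a.v b.v := rfl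
@[simp] theorem one_v : (1 : He).v = 0 := rfl
@[simp] theorem one_c : (1 : He).c = 0 := rfl
@[simp] theorem inv_v (a : He) : a⁻¹.v = -a.v := rfl
@[simp] theorem inv_c (a : He) : a⁻¹.c = -a.c := rfl

instance : Group He := Group.ofLeftAxioms
  (fun a b c => He.ext (add_assoc _ _ _) (by simp; ring))
  (fun a => He.ext (zero_add _) (by simp))
  (fun a => He.ext (neg_add_cancel _) (by simp))

def eqv : He ≃ V8 × ZMod 3 := ⟨fun a => (a.v, a.c), fun p => ⟨p.1, p.2⟩, fun _ => rfl, fun _ => rfl⟩
instance : Finite He := Finite.of_equiv _ eqv.symm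
theorem card : Nat.card He = 3 ^ 9 := by rw [Nat.card_congr eqv]; simp

noncomputable instance : MulDistribMulAction Sp He where
  smul g a := ⟨g • a.v, a.c⟩
  one_smul a := He.ext (one_smul _ _) rfl
  mul_smul g k a := He.ext (mul_smul _ _ _) rfl
  smul_one g := He.ext (smul_zero _) rfl
  smul_mul g a b := He.ext (smul_add _ _ _) (by change _ - _ = _ - B0 (g • a.v) (g • b.v); rw [B0_smul]; rfl)

@[simp] theorem smul_v (g : Sp) (a : He) : (g • a).v = g • a.v := rfl
@[simp] theorem smul_c (g : Sp) (a : He) : (g • a).c = a.c := rfl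

end He

/-- the generator of the centre -/
def zz : He := ⟨0, 1⟩

theorem He.cmt (a b : He) : a * b * a⁻¹ * b⁻¹ = ⟨0, B0 a.v b.v⟩ := by
  refine He.ext (by simp) ?_
  have : ∀ x y t : ZMod 3, x + y - t + -x - t + -y = t := by decide
  simpa [B0_swap a.v b.v] using this a.c b.c (B0 a.v b.v)

theorem He.comm_iff {a b : He} : a * b = b * a ↔ B0 a.v b.v = 0 := by
  rw [← mul_inv_eq_one, _root_.mul_inv_rev, ← mul_assoc, He.cmt]
  exact ⟨fun h => congrArg He.c h, fun h => He.ext rfl h⟩

theorem He.cube (a : He) : a ^ 3 = 1 := by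
  have h : ∀ x : ZMod 3, x + x + x = 0 := by decide
  rw [pow_three']
  exact He.ext (funext fun i => h _) (by simpa using h a.c)

/-- the centre -/
def He.Z : Subgroup He where
  carrier := {a | a.v = 0}
  one_mem' := rfl
  mul_mem' := fun {a b} ha hb => by simp_all
  inv_mem' := fun {a} ha => by simp_all

theorem mem_zz {a : He} : a ∈ Subgroup.zpowers zz ↔ a.v = 0 := by
  refine ⟨fun h => (Subgroup.zpowers_le (H := He.Z)).2 rfl h, fun h => ?_⟩
  obtain ⟨v, c⟩ := a
  obtain rfl : v = 0 := h
  rcases (by decide : ∀ c : ZMod 3, c = 0 ∨ c = 1 ∨ c = -1) c with rfl | rfl | rfl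
  · exact one_mem _
  · exact Subgroup.mem_zpowers _
  · exact (show (⟨0, -1⟩ : He) = zz⁻¹ from He.ext (by simp [zz]) rfl) ▸ inv_mem (Subgroup.mem_zpowers _)

theorem zz_ne : zz ≠ 1 := fun h => by simpa [zz] using congrArg He.c h
@[simp] theorem smul_zz (g : Sp) : g • zz = zz := He.ext (smul_zero _) rfl
theorem zz_comm (a : He) : a * zz = zz * a := He.comm_iff.2 (by simp [zz])

/-! ### The extraspecial group `2^{1+6}_-` -/

noncomputable def qm (m n : ℕ) : ℕ :=
  Nat.xor (Nat.xor m n) (Nat.land 64 (Nat.xor (Nat.xor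
    (Nat.land (Nat.shiftLeft m 6) (Nat.shiftLeft n 4))
    (Nat.land (Nat.shiftLeft m 5) (Nat.shiftLeft n 3))) (Nat.xor
    (Nat.land (Nat.shiftLeft m 2) (Nat.xor (Nat.shiftLeft n 2) (Nat.shiftLeft n 1)))
    (Nat.land (Nat.shiftLeft m 1) (Nat.shiftLeft n 1)))))

theorem tokE : TOk 128 qm fun n => qm n (qm n n) :=
  (SOk.of_light (gs := [1, 2, 4, 8, 16, 32]) (D := 8) (by decide +kernel)).tok (by decide +kernel)

/-- bits 0,1: the signs `u, v`; bits 2,3: translations; bits 4,5: `i, j`; bit 6: `-1` -/
abbrev E7 : Type := TG tokE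

def rT : ℕ := 0xa00090050006005000600a0009000000a0009005000600a00090050006000000a000900a000900500060050006000000a000900a000900a000900a000900005000600a0009000000a0009005000600a00090050006000000a0009005000600500060050006000000a000900a000900a000900a0009000000a000900a0009000500060000a0009a00090000500060000500060000a0009500060000a00090000a00090000a0009500060000500060000a00090000a0009a00090000a000900a00090000500060000500060000a0009500060000a00090000500060000a0009500060000500060000a00090000a0009a00090000a00090000a00090000a00090006000a00900050090005006000a0000006000a0090005006000a00900050000006000a006000a009000500900050000006000a006000a006000a006000a000090005006000a0000006000a0090005006000a00900050000006000a0090005009000500900050000006000a006000a006000a006000a0000006000a006000a0009000500006000a6000a00009000500009000500006000a9000500006000a00006000a00006000a9000500009000500006000a00006000a6000a00006000a006000a00009000500009000500006000a9000500006000a00009000500006000a9000500009000500006000a00006000a6000a00006000a00006000a0000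6000a000100080020004002000400100080000001000800200040010008002000400000010008001000800200040020004000000100080010008001000800100080000200040010008000000100080020004001000800200040000001000800200040020004002000400000010008001000800100080010008000000100080010008000200040000100081000800002000400002000400001000820004000010008000010008000010008200040000200040000100080000100081000800001000800100080000200040000200040000100082000400001000800002000400001000820004000020004000010008000010008100080000100080000100080000100080008000200400010040001008000200000080002004000100800020040001000000800020080002004000100400010000008000200800020080002008000200004000100800020000008000200400010080002004000100000080002004000100400010040001000000800020080002008000200800020000008000200800020004000100008000280002000040001000040001000080002400010000800020000800020000800024000100004000100008000200008000280002000080002008000200004000100004000100008000240001000080002000040001000080002400010000400010000800020000800028000200008000200008000200008000200050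00600a000900a000900500060000005000600a0009005000600a000900000050006005000600a000900a0009000000500060050006005000600500060000a000900500060000005000600a0009005000600a00090000005000600a000900a000900a000900000050006005000600500060050006000000500060050006000a0009000050006500060000a00090000a0009000050006a0009000050006000050006000050006a00090000a00090000500060000500065000600005000600500060000a00090000a0009000050006a00090000500060000a0009000050006a00090000a00090000500060000500065000600005000600005000600005000600090005006000a006000a009000500000090005006000a0090005006000a000000900050090005006000a006000a0000009000500900050090005009000500006000a009000500000090005006000a0090005006000a00000090005006000a006000a006000a000000900050090005009000500900050000009000500900050006000a0000900059000500006000a00006000a0000900056000a0000900050000900050000900056000a00006000a00009000500009000590005000090005009000500006000a00006000a0000900056000a00009000500006000a0000900056000a00006000a00009000500009000590005000090005000090005000090005000200040010008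0010008002000400000020004001000800200040010008000000200040020004001000800100080000002000400200040020004002000400001000800200040000002000400100080020004001000800000020004001000800100080010008000000200040020004002000400200040000002000400200040001000800002000420004000010008000010008000020004100080000200040000200040000200041000800001000800002000400002000420004000020004002000400001000800001000800002000410008000020004000010008000020004100080000100080000200040000200042000400002000400002000400002000400040001008000200800020040001000000400010080002004000100800020000004000100400010080002008000200000040001004000100400010040001000080002004000100000040001008000200400010080002000000400010080002008000200800020000004000100400010040001004000100000040001004000100080002000040001400010000800020000800020000400018000200004000100004000100004000180002000080002000040001000040001400010000400010040001000080002000080002000040001800020000400010000800020000400018000200008000200004000100004000140001000040001000040001000040001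

noncomputable def gE : List E7 := [TG.o 1, TG.o 2, TG.o 4, TG.o 8, TG.o 16, TG.o 32]

theorem genE : TG.genB gE 8 = true := by decide +kernel

noncomputable def rm : E7 →* Sp :=
  TG.homOf genE (fun e => Sp.o (tab1 128 0xffffffffffffffffffffffffffffffff rT e.v)) (by decide +kernel)
    (by decide +kernel)

/-- the extraspecial group in `Sp₈(3)` -/
noncomputable def Rm : Subgroup Sp := rm.range

noncomputable def inR (a : ℕ) : Bool := anyN (fun k => Nat.beq (tab1 128 0xffffffffffffffffffffffffffffffff rT k) a) 128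

theorem rm_val : ∀ e : E7, (rm e).1 = tab1 128 0xffffffffffffffffffffffffffffffff rT e.v := by decide +kernel

theorem mem_Rm {g : Sp} : g ∈ Rm ↔ inR g.1 = true := by
  rw [inR, anyN_iff]
  constructor
  · rintro ⟨e, rfl⟩
    exact ⟨e.v, e.v_lt, Nat.beq_eq ▸ (rm_val e).symm⟩
  · rintro ⟨k, hk, e⟩
    exact ⟨TG.o k, Subtype.ext (by rw [rm_val, TG.v_o hk]; exact Nat.eq_of_beq_eq_true e)⟩

noncomputable instance (g : Sp) : Decidable (g ∈ Rm) := decidable_of_iff _ mem_Rm.symm

theorem rm_inj : Function.Injective rm := (injective_iff_map_eq_one _).2 (by decide +kernel)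

theorem card_Rm : Nat.card Rm = 128 := by
  rw [Rm, ← Nat.card_congr (MonoidHom.ofInjective rm_inj).toEquiv, TG.card_eq]

/-- the normaliser `2^{1+6} . U₄(2)` -/
noncomputable def N1 : Subgroup Sp := Subgroup.normalizer (Rm : Set Sp)

theorem mem_N1 {g : Sp} : g ∈ N1 ↔ ∀ e ∈ gE, g * rm e * g⁻¹ ∈ Rm := by
  refine ⟨fun h e _ => (Subgroup.mem_normalizer_iff.1 h _).1 ⟨e, rfl⟩, fun h => Subgroup.mem_normalizer_fintype ?_⟩
  rintro _ ⟨e, rfl⟩
  refine TG.ind_of_genB genE (P := fun e => g * rm e * g⁻¹ ∈ Rm) (by simp) (fun a ha k hk => ?_) e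
  rw [map_mul, ← conj_mul]
  exact mul_mem ha (h k hk)

noncomputable instance (g : Sp) : Decidable (g ∈ N1) := decidable_of_iff _ mem_N1.symm

theorem Rm_le : Rm ≤ N1 := Subgroup.le_normalizer

theorem conj_Rm {g r : Sp} (hg : g ∈ N1) (hr : r ∈ Rm) : g * r * g⁻¹ ∈ Rm := (Subgroup.mem_normalizer_iff.1 hg _).1 hr

/-! ### Named elements -/

noncomputable def ng : Sp := ⟨0x80002000080002000080002000080002, by decide +kernel⟩
noncomputable def uu : Sp := ⟨0x80002000080002000040001000040001, by decide +kernel⟩
noncomputable def vv : Sp := ⟨0x80002000040001000080002000040001, by decide +kernel⟩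
noncomputable def i3 : Sp := ⟨0x20004000020004000020004000020004, by decide +kernel⟩
noncomputable def j3 : Sp := ⟨0x90005000090005000090005000090005, by decide +kernel⟩
noncomputable def t1 : Sp := ⟨0x400010000400014000100004000100, by decide +kernel⟩
noncomputable def t2 : Sp := ⟨0x4000100400010000004000100400010, by decide +kernel⟩
noncomputable def x1 : Sp := ⟨0x44881122844821124848121244441111, by decide +kernel⟩
noncomputable def x2 : Sp := ⟨0x44841121844421114844121188842221, by decide +kernel⟩
noncomputable def x3 : Sp := ⟨0xa00040000a00040000a00040000a0004, by decide +kernel⟩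
/-- cyclic permutation of the three tensor factors -/
noncomputable def sg : Sp := ⟨0x826a24a918a9829595825624a9249541, by decide +kernel⟩
/-- `x1 * x2`, the cyclic permutation of the blocks 1, 2, 3 -/
noncomputable def c3 : Sp := ⟨0x4000100004000104000100000040001, by decide +kernel⟩
/-- `x1 * x2 * x3` -/
noncomputable def x0 : Sp := ⟨0xa00040000a00040a0004000000a0004, by decide +kernel⟩
/-- `diag (-1, 1, 1, 1)` -/
noncomputable def aa : Sp := ⟨0x40001000040001000040001000080002, by decide +kernel⟩

theorem mat_ng : mat ng = -1 := by decide +kernel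
theorem ng_smul (v : V8) : ng • v = -v := by rw [smul_def, mat_ng, neg_mulVec, one_mulVec]
theorem ng_comm (g : Sp) : g * ng = ng * g := mat_inj (by simp [mat_ng])
theorem rm_vals : rm (TG.o 64) = ng ∧ rm (TG.o 1) = uu ∧ rm (TG.o 2) = vv ∧ rm (TG.o 4) = t1 ∧ rm (TG.o 8) = t2 ∧
    rm (TG.o 16) = i3 ∧ rm (TG.o 32) = j3 := by decide +kernel

end CfsgLib.Rec3D
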