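import Cfsg.Agent.Lib.Rec3D.Defs
import Cfsg.Agent.Lib.ExtraTwo.Classify
import Cfsg.Agent.Lib.OrthE.OrderP
import Cfsg.Agent.Lib.OrthE.OrderStd

/-! The representation of `2^{1+6}_-` of degree 8 over `F₃`, MA (plans/REC3D.md). -/

set_option autoImplicit false
set_option maxRecDepth 100000
set_option linter.unusedSectionVars false
set_option linter.unusedVariables false

namespace CfsgLib.Rec3D

open Subgroup Cfsg CfsgLib.Tech CfsgLib.W2 CfsgLib.Rec3B Matrix
open CfsgLib.U43 (SL)

open CfsgLib.ExtraTwo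

namespace MA

theorem mem_adjoin (A : M8) : A ∈ Algebra.adjoin (ZMod 3) (Set.range fun e => mat (rm e)) := by
  set S := Algebra.adjoin (ZMod 3) (Set.range fun e => mat (rm e))
  have m : ∀ e, mat (rm e) ∈ S := fun e => Algebra.subset_adjoin ⟨e, rfl⟩
  have h0 : single 0 0 1 ∈ S := by
    have c : ∀ {a b}, dec a ∈ S → dec b ∈ S → dec (ca a b) ∈ S := fun ha hb => dec_ca _ _ ▸ add_mem ha hb
    have d : ∀ {a b}, dec a ∈ S → dec b ∈ S → dec (cm a b) ∈ S := fun ha hb => dec_cm _ _ ▸ mul_mem ha hb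
    have := d (c (m 1) (m (.o 1))) (d (c (m 1) (m (.o 2))) (c (m (.o 64)) (c (m (.o 32)) (m (.o 16 * .o 32)))))
    rwa [show cm _ _ = 1 by decide +kernel, show dec 1 = single 0 0 1 by decide +kernel] at this
  rw [matrix_eq_sum_single A]
  refine sum_mem fun i _ => sum_mem fun j _ => ?_
  have k := (by decide +kernel : ∀ i : Fin 8, ∃ e ∈ ([0, 80, 8, 88, 4, 84, 12, 92].map TG.o : List E7),
    mat (rm e) *ᵥ Pi.single 0 1 = Pi.single i 1 ∧ Pi.single 0 1 ᵥ* mat (rm e⁻¹) = Pi.single i 1)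
  obtain ⟨a, -, ha, -⟩ := k i
  obtain ⟨b, -, -, hb⟩ := k j
  have := S.smul_mem (mul_mem (mul_mem (m a) h0) (m b⁻¹)) (A i j)
  rwa [single_eq_single_vecMulVec_single, mul_vecMulVec, vecMulVec_mul, ha, hb, ← single_eq_single_vecMulVec_single,
    smul_single, smul_eq_mul, mul_one] at this

theorem es : ES (⊤ : Subgroup E7) (TG.o 64) := by
  refine ⟨by decide +kernel, by decide +kernel, trivial, fun x _ => ?_, fun x _ h => ?_, fun x _ y _ => ?_,
    TG.o 16, trivial, TG.o 32, trivial, by decide +kernel⟩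
  · exact (by decide +kernel : ∀ x : E7, x * TG.o 64 = TG.o 64 * x) x
  · exact (by decide +kernel : ∀ x : E7, (∀ q ∈ gE, q * x = x * q) → x = 1 ∨ x = TG.o 64) x fun q _ => h q trivial
  · exact (by decide +kernel : ∀ x y : E7, x * y = y * x ∨ x * y = TG.o 64 * (y * x)) x y

theorem minus : MinusType (⊤ : Subgroup E7) (TG.o 64) 2 := by
  refine (es.plus_or_minus (n := 3) (by rw [card_top, TG.card_eq]; rfl)).2.resolve_left fun p => ?_
  have h1 := p.card_sq
  rw [card_top_and, TG.card_subtype] at h1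
  revert h1
  decide +kernel

theorem card_aut : Nat.card (MulAut E7) = 64 * 51840 := by
  obtain ⟨π, c⟩ := minus.coord
  obtain ⟨Φ, h1, h2, -⟩ := c.exists_autHom
  have h3 := (MulAut.conj (G := E7)).ker.card_mul_index
  have h4 : (MulAut.conj (G := E7)).ker = zpowers (TG.o 64) := by
    ext g
    simp only [MonoidHom.mem_ker, MulEquiv.ext_iff, MulAut.conj_apply, MulAut.one_apply,
      mul_inv_eq_iff_eq_mul, es.mem_zpowers, ← es.center_iff, mem_top, true_and, forall_true_left]
    exact forall_congr' fun _ => eq_comm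
  rw [index_ker, h4, Nat.card_zpowers, es.orderOf_eq, TG.card_eq] at h3
  rw [← Φ.ker.card_mul_index, index_ker, h2, MonoidHom.range_eq_top.2 h1, card_top,
    OrthE.card_O_qMinus 2 anisotropic_zmod_two]
  have : Nat.card (Inn E7) = 64 := by
    change Nat.card (MulAut.conj (G := E7)).range = _
    omega
  rw [this]
  simp [Finset.prod_range_succ]

/-- the automorphism interchanging `i` and `j` -/
noncomputable def th : E7 →* E7 := TG.homOf genE (fun e => TG.o (e.v % 16 + e.v / 32 % 2 * 16 + e.v / 16 % 2 * 32 +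
  (e.v / 64 + e.v / 32 % 2 * (e.v / 16 % 2)) % 2 * 64)) (by decide +kernel) (by decide +kernel)

theorem th_th : th.comp th = MonoidHom.id _ := TG.hom_ext genE (by decide +kernel)

noncomputable def eR : E7 ≃* Rm := MonoidHom.ofInjective rm_inj

end MA

open MA

theorem schur {A : M8} (h : ∀ e ∈ gE, A * mat (rm e) = mat (rm e) * A) : ∃ c : ZMod 3, A = c • (1 : M8) := by
  have h1 := TG.ind_of_genB genE (P := fun e => A * mat (rm e) = mat (rm e) * A) (by simp) fun a ha g hg => by
    simp only [map_mul]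
    rw [← Matrix.mul_assoc, ha, Matrix.mul_assoc, h g hg, Matrix.mul_assoc]
  obtain ⟨c, e⟩ := Matrix.mem_range_scalar_of_commute_single (M := A) fun i j _ =>
    ((Algebra.adjoin_le (S := Subalgebra.centralizer (ZMod 3) {A}) (by
      rintro _ ⟨e, rfl⟩ _ rfl; exact h1 e)) (mem_adjoin (single i j 1)) A rfl).symm
  exact ⟨c, by rw [← e, scalar_apply, smul_one_eq_diagonal]⟩

theorem cent_Rm {g : Sp} (h : ∀ r ∈ Rm, g * r = r * g) : g = 1 ∨ g = ng := by
  obtain ⟨c, e⟩ := schur (A := mat g) fun e _ => by rw [← map_mul, h _ ⟨e, rfl⟩, map_mul]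
  rcases (by decide : ∀ c : ZMod 3, c = 0 ∨ c = 1 ∨ c = -1) c with rfl | rfl | rfl
  · have := mat_sp g
    rw [e, zero_smul, Matrix.mul_zero] at this
    exact absurd this (by decide +kernel)
  · exact .inl (mat_inj (by simp [e]))
  · exact .inr (mat_inj (by simp [e, mat_ng]))

theorem exists_equiv {W : Type*} [AddCommGroup W] [Module (ZMod 3) W] (hW : Nat.card W = 3 ^ 8)
    (σ : E7 →* Module.End (ZMod 3) W) (h : σ (TG.o 64) ≠ 1) :
    ∃ f : V8 ≃ₗ[ZMod 3] W, ∀ e v, f (rm e • v) = σ e (f v) := by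
  obtain ⟨p, hp⟩ : ∃ p, σ (TG.o 64) p ≠ p := by
    by_contra! k
    exact h (LinearMap.ext k)
  let F : Fin 8 → V8 →ₗ[ZMod 3] W := fun i =>
    ∑ e : E7, (LinearMap.proj i ∘ₗ toLin' (mat (rm e⁻¹))).smulRight (σ e p)
  have hF : ∀ i v, F i v = ∑ e : E7, (rm e⁻¹ • v) i • σ e p := fun i v => by simp [F, smul_def]
  have eq : ∀ i e v, F i (rm e • v) = σ e (F i v) := fun i g v => by
    rw [hF, hF, map_sum, ← Equiv.sum_comp (Equiv.mulLeft g)]
    refine Finset.sum_congr rfl fun e _ => ?_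
    simp [← mul_smul]
  obtain ⟨i, hi⟩ : ∃ i, F i ≠ 0 := by
    by_contra! k
    have : ∑ i, F i (Pi.single i 1) = ∑ e : E7, (mat (rm e⁻¹)).trace • σ e p := by
      simp only [hF, smul_def, mulVec_single_one, trace, Finset.sum_smul]
      exact Finset.sum_comm
    simp only [k, (by decide +kernel : ∀ e : E7, (mat (rm e⁻¹)).trace = (if e = TG.o 64 then 1 else 0) -
      if e = 1 then 1 else 0), sub_smul, ite_smul, Finset.sum_sub_distrib] at this
    exact hp (by simpa [sub_eq_zero] using this.symm)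
  have : Finite W := Nat.finite_of_card_ne_zero (by rw [hW]; norm_num)
  refine ⟨LinearEquiv.ofBijective (F i) ((Nat.bijective_iff_injective_and_card _).2
    ⟨(injective_iff_map_eq_zero _).2 fun w hw => by_contra fun h0 => hi (LinearMap.ext fun v => ?_), by simp [hW]⟩),
    eq i⟩
  obtain ⟨j, hj⟩ := Function.ne_iff.1 h0
  have : v = vecMulVec v (Pi.single j (w j)⁻¹) *ᵥ w := by
    rw [vecMulVec_mulVec, single_dotProduct, inv_mul_cancel₀ hj]; simp
  rw [this]
  refine Algebra.adjoin_induction (p := fun A _ => ∀ w, F i w = 0 → F i (A *ᵥ w) = 0) ?_ ?_ ?_ ?_ (mem_adjoin _) w hw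
  · rintro _ ⟨e, rfl⟩ w hw
    rw [← smul_def, eq, hw, map_zero]
  · intro c w hw
    rw [Algebra.algebraMap_eq_smul_one, smul_mulVec, one_mulVec, map_smul, hw, smul_zero]
  · intro A B _ _ hA hB w hw
    rw [add_mulVec, map_add, hA w hw, hB w hw, add_zero]
  · intro A B _ _ hA hB w hw
    rw [← mulVec_mulVec, hA _ (hB w hw)]

theorem form_eq {B : V8 →ₗ[ZMod 3] V8 →ₗ[ZMod 3] ZMod 3} (h : ∀ r ∈ Rm, ∀ v w, B (r • v) (r • w) = B v w)
    (h0 : B ≠ 0) : B = B0 ∨ B = -B0 := by
  obtain ⟨J, rfl⟩ := Matrix.toBilin'.surjective B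
  obtain ⟨c, e⟩ := schur (A := -J0 * J) fun e _ => by
    have h1 : (mat (rm e))ᵀ * J * mat (rm e) = J := Matrix.toBilin'.injective (LinearMap.ext₂ fun v w => by
      rw [← h _ ⟨e, rfl⟩, toBilin'_apply', toBilin'_apply', smul_def, smul_def, ← vecMul_transpose _ v,
        ← dotProduct_mulVec, mulVec_mulVec, mulVec_mulVec])
    have h2 := mul_eq_one_comm.1 (sp_inv (mat_sp (rm e)))
    generalize mat (rm e) = R at h1 h2
    have h3 : R * (-J0 * Rᵀ) = -J0 := by
      have := congrArg (· * -J0) h2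
      simpa [Matrix.mul_assoc, J0_sq] using this
    conv_rhs => rw [← h1]
    simp only [← Matrix.mul_assoc]
    rw [Matrix.mul_assoc R, h3]
  have e' : J = c • J0 := by simpa [← Matrix.mul_assoc, J0_sq] using congrArg (J0 * ·) e
  rw [e', map_smul] at h0 ⊢
  rcases (by decide : ∀ c : ZMod 3, c = 0 ∨ c = 1 ∨ c = -1) c with rfl | rfl | rfl
  exacts [absurd (zero_smul _ _) h0, .inl (one_smul _ _), .inr (neg_one_smul (ZMod 3) B0)]

theorem MA.card_N1 : ∃ a b, Nat.card N1 = a * b ∧ a ∣ 2 ∧ b ∣ 64 * 51840 ∧ b ≠ 64 * 51840 := by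
  have hA : Nat.card (MulAut Rm) = 64 * 51840 := (Nat.card_congr (MulAut.congr eR).toEquiv).symm.trans card_aut
  refine ⟨_, _, Rm.normalizerMonoidHom.ker.card_mul_index.symm, ?_, by rw [index_ker, ← hA]; exact card_subgroup_dvd_card _,
    fun h => ?_⟩
  · rw [normalizerMonoidHom_ker, Nat.card_congr (subgroupOfEquivOfLe (centralizer_le_normalizer _)).toEquiv,
      ← orderOf_eq_two (z := ng) (by decide +kernel) (by decide +kernel), ← Nat.card_zpowers]
    exact card_dvd_of_le fun g hg => (mem_zpowers_iff_of_mul_self (by decide +kernel)).2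
      (cent_Rm fun r hr => (hg r hr).symm)
  · rw [index_ker, ← hA] at h
    obtain ⟨g, hg⟩ := (eq_top_of_card_eq _ h).ge
      (mem_top (MulAut.congr eR (MonoidHom.toMulEquiv th th th_th th_th)))
    have k : ∀ e, mat g * mat (rm e) = mat (rm (th e)) * mat g := fun e => by
      have := congrArg (fun φ : MulAut Rm => (φ (eR e)).1) hg
      simp only [MulAut.congr_apply, MulEquiv.trans_apply, MulEquiv.symm_apply_apply] at this
      rw [← map_mul, ← map_mul]
      exact congrArg mat (mul_inv_eq_iff_eq_mul.1 this)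
    obtain ⟨d1, d2, d3⟩ : (∀ e ∈ gE, dec 0x80009000080009000080009000080009 * mat (rm (th e)) =
        mat (rm e) * dec 0x80009000080009000080009000080009) ∧
        dec 0x80009000080009000080009000080009 * dec 0x80009000080009000080009000080009 = 1 ∧ ∀ c : ZMod 3,
        (c • dec 0x80009000080009000080009000080009)ᵀ * J0 * (c • dec 0x80009000080009000080009000080009) ≠ J0 := by
      decide +kernel
    generalize dec _ = D at d1 d2 d3
    obtain ⟨c, e⟩ := schur (A := D * mat g) fun e he => by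
      rw [Matrix.mul_assoc, k, ← Matrix.mul_assoc, d1 e he, Matrix.mul_assoc]
    refine d3 c ?_
    rw [show c • D = mat g by simpa [← Matrix.mul_assoc, d2] using (congrArg (D * ·) e).symm]
    exact mat_sp _

theorem card_N1_dvd : Nat.card N1 ∣ 128 * 51840 := by
  obtain ⟨a, b, e, h1, h2, -⟩ := card_N1
  exact e ▸ (mul_dvd_mul h1 h2 :)

theorem card_N1_le : Nat.card N1 ≤ 128 * 25920 := by
  obtain ⟨a, b, e, h1, ⟨c, h2⟩, h3⟩ := card_N1
  have := Nat.le_of_dvd two_pos h1
  have : 2 ≤ c := by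
    rcases c with _ | _ | c
    · simp at h2
    · simp [h2] at h3
    · omega
  rw [e]; nlinarith

theorem iso_E7 {R : Type*} [Group R] [Finite R] (h : IsExtraspecial 2 R) (hc : Nat.card R = 2 ^ 7)
    (hm : ∀ A : Subgroup R, IsElementaryAbelian 2 A → Nat.card A ≤ 2 ^ 3) : Nonempty (E7 ≃* R) := by
  obtain ⟨z, hz⟩ := exists_ES_top h
  exact nonempty_mulEquiv_of_top (minus.nonempty_mulEquiv (hz.minusType_of_forall (n := 3) (by rw [card_top, hc])
    fun A _ hA e => by have := hm A hA; omega))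

end CfsgLib.Rec3D
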