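import Cfsg.Agent.Lib.Rec3D.Defs

/-! The centraliser of `aa` in the model, MK (plans/REC3D.md). -/

set_option autoImplicit false
set_option maxRecDepth 100000
set_option linter.unusedSectionVars false
set_option linter.unusedVariables false
set_option Elab.async false

namespace CfsgLib.Rec3D

open Subgroup Cfsg CfsgLib.Tech CfsgLib.W2 CfsgLib.Rec3B Matrix
open CfsgLib.U43 (SL)

namespace MK

theorem m2_one : m2 1 = 1 := by decide +kernel

theorem m2_eq_zero {s : SL} {a : Fin 2 → ZMod 3} : m2 s *ᵥ a = 0 ↔ a = 0 := by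
  refine ⟨fun h => ?_, fun h => by rw [h, mulVec_zero]⟩
  have := congrArg (m2 s⁻¹ *ᵥ ·) h
  simpa only [mulVec_mulVec, ← m2_mul, inv_mul_cancel, m2_one, one_mulVec, mulVec_zero] using this

/-- `g` moves the block `k` to the block `p k` -/
def Pp (g : Sp) (p : Equiv.Perm (Fin 4)) : Prop := ∀ v k, blk (g • v) (p k) = 0 ↔ blk v k = 0

theorem Pp.bd (γ : Fin 4 → SL) : Pp (bd γ) 1 := fun v k => by
  rw [Equiv.Perm.one_apply, blk_bd, m2_eq_zero]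

theorem Pp.one : Pp 1 1 := fun v k => by rw [one_smul]; rfl

theorem Pp.mul {g h : Sp} {p q : Equiv.Perm (Fin 4)} (hg : Pp g p) (hh : Pp h q) : Pp (g * h) (p * q) :=
  fun v k => by rw [mul_smul, Equiv.Perm.mul_apply, hg, hh]

theorem Pp.inv {g : Sp} {p : Equiv.Perm (Fin 4)} (hg : Pp g p) : Pp g⁻¹ p⁻¹ := fun v k => by
  rw [← hg, smul_inv_smul, show p (p⁻¹ k) = k from p.apply_symm_apply k]

theorem Pp.pow {g : Sp} {p : Equiv.Perm (Fin 4)} (hg : Pp g p) : ∀ n : ℕ, Pp (g ^ n) (p ^ n)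
  | 0 => by rw [pow_zero, pow_zero]; exact Pp.one
  | n + 1 => by rw [pow_succ, pow_succ]; exact (hg.pow n).mul hg

theorem blk_single (k l : Fin 4) : blk (unb (Pi.single k 1)) l = 0 ↔ l ≠ k := by
  rw [blk_unb]
  revert k l; decide

theorem Pp.uniq {g : Sp} {p q : Equiv.Perm (Fin 4)} (hp : Pp g p) (hq : Pp g q) : p = q := by
  ext1 k
  obtain ⟨l, hl⟩ := q.surjective (p k)
  have h := hq (unb (Pi.single k 1)) l
  rw [hl, hp, blk_single, blk_single] at h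
  by_contra e
  exact h.2 (fun e' => e (by rw [← hl, e'])) rfl

theorem Pp.c3 : Pp c3 pc := fun v k => by rw [blk_c3]
theorem Pp.s23 : Pp s23 (Equiv.swap 2 3) := fun v k => by rw [blk_s23]

theorem cj {g : Sp} {p : Equiv.Perm (Fin 4)} (h : ∀ v k, blk (g • v) (p k) = blk v k) (γ : Fin 4 → SL) :
    g * bd γ * g⁻¹ = bd fun k => γ (p⁻¹ k) := by
  rw [mul_inv_eq_iff_eq_mul]
  refine eq_of_smul fun v => blk_ext fun k => ?_
  obtain ⟨l, rfl⟩ := p.surjective k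
  rw [mul_smul, mul_smul, h, blk_bd, blk_bd, h, show p⁻¹ (p l) = l from p.symm_apply_apply l]

theorem bd_of_comm {h : Sp} (hu : h * uu = uu * h) (hv : h * vv = vv * h) : ∃ γ, h = bd γ := by
  have du : mat uu = diagonal ![1, 1, 1, 1, -1, -1, -1, -1] := by decide +kernel
  have dv : mat vv = diagonal ![1, 1, -1, -1, 1, 1, -1, -1] := by decide +kernel
  have z : ∀ k l s t, k ≠ l → mat h (ix k s) (ix l t) = 0 := fun k l s t hkl => by
    have h1 := congrFun (congrFun (congrArg mat hu) (ix k s)) (ix l t)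
    have h2 := congrFun (congrFun (congrArg mat hv) (ix k s)) (ix l t)
    rw [map_mul, map_mul, du, mul_diagonal, diagonal_mul] at h1
    rw [map_mul, map_mul, dv, mul_diagonal, diagonal_mul] at h2
    revert h1 h2
    generalize mat h (ix k s) (ix l t) = x
    revert k l s t x
    decide +kernel
  have a : ∀ v k, blk (h • v) k = (Matrix.of fun s t => mat h (ix k s) (ix k t)) *ᵥ blk v k := fun v k => by
    funext s
    simp only [blk, smul_def, mulVec, dotProduct, sum_ix, of_apply]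
    exact Finset.sum_eq_single k (fun l _ hl => by simp [z k l s _ hl.symm]) (by simp)
  have d : ∀ k, (Matrix.of fun s t => mat h (ix k s) (ix k t)).det = 1 := fun k => by
    have e := B0_smul h (unb (Pi.single k ![1, 0])) (unb (Pi.single k ![0, 1]))
    rw [B0_blk, B0_blk, Finset.sum_eq_single k (fun l _ hl => by simp [a, hl, b2]) (by simp),
      Finset.sum_eq_single k (fun l _ hl => by simp [hl, b2]) (by simp)] at e
    simpa [a, b2, det_fin_two, mulVec, dotProduct, mul_comm] using e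
  choose γ hγ using fun k => m2_surj (d k)
  exact ⟨γ, eq_of_smul fun v => blk_ext fun k => by rw [a, blk_bd, hγ]⟩

end MK

open MK

theorem blk_dec {g : Sp} (hg : g ∈ N1) (ha : g * aa = aa * g) :
    ∃ γ, ∃ w ∈ [1, c3, c3⁻¹, s23, s23 * c3, s23 * c3⁻¹], g = bd γ * w := by
  have f : ∀ r ∈ Rm, mat r * (1 - mat aa) = 1 - mat aa → g⁻¹ * r * g ∈ [1, uu, vv, uu * vv] := fun r hr h => by
    obtain ⟨e, he⟩ := conj_Rm (inv_mem hg) hr
    rw [inv_inv] at he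
    rw [← he]
    refine (by decide +kernel : ∀ e : E7, rm e • (Pi.single 0 1 : V8) = Pi.single 0 1 →
      rm e ∈ [1, uu, vv, uu * vv]) e ?_
    have h1 : ∀ y : V8, r • (y - aa • y) = y - aa • y := fun y => by
      simpa only [← mulVec_mulVec, sub_mulVec, one_mulVec, smul_def] using congrArg (· *ᵥ y) h
    have h2 : (Pi.single 0 1 : V8) = -Pi.single 0 1 - aa • (-Pi.single 0 1 : V8) := by decide +kernel
    rw [he, h2, mul_smul, mul_smul, smul_sub, ← mul_smul g, ha, mul_smul, h1, ← mul_smul aa, ← ha, mul_smul,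
      ← smul_sub, inv_smul_smul]
  have hu := f uu ⟨_, rm_vals.2.1⟩ (by decide +kernel)
  have hv := f vv ⟨_, rm_vals.2.2.1⟩ (by decide +kernel)
  have n1 : ∀ a b : Sp, g⁻¹ * a * g = g⁻¹ * b * g → a = b := fun a b h => by simpa using h
  obtain ⟨w, hw, h1, h2⟩ := (by decide +kernel : ∀ a ∈ [1, uu, vv, uu * vv], ∀ b ∈ [1, uu, vv, uu * vv], a ≠ 1 → b ≠ 1 →
    a ≠ b → ∃ w ∈ [1, c3, c3⁻¹, s23, s23 * c3, s23 * c3⁻¹], uu * w = w * a ∧ vv * w = w * b) _ hu _ hv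
    (fun h => absurd (n1 uu 1 (by simpa using h)) (by decide +kernel))
    (fun h => absurd (n1 vv 1 (by simpa using h)) (by decide +kernel))
    (fun h => absurd (n1 _ _ h) (by decide +kernel))
  have c : ∀ r : Sp, r * w = w * (g⁻¹ * r * g) → g * w⁻¹ * r = r * (g * w⁻¹) := fun r h => by
    calc _ = g * w⁻¹ * (r * w) * w⁻¹ := by group
      _ = _ := by rw [h]; group
  obtain ⟨γ, e⟩ := bd_of_comm (c _ h1) (c _ h2)
  exact ⟨γ, w, hw, by rw [← e, inv_mul_cancel_right]⟩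

theorem mems : aa ∈ N0 ∧ c3 ∈ N0 ∧ x3 ∈ N0 ∧ bd ![1, .o 2, .o 4, .o 6] ∈ N0 ∧ s23 ∈ N1 ∧ Rm ≤ N0 := by
  refine ⟨by decide +kernel, by decide +kernel, by decide +kernel, by decide +kernel, by decide +kernel,
    fun r hr => ⟨Rm_le hr, ?_⟩⟩
  have := mul_mem hr (conj_Rm (g := x0) (by decide +kernel) (inv_mem hr))
  rwa [← mul_assoc, ← mul_assoc] at this

theorem sign_mem (k : Fin 4) : bd (Pi.mulSingle k (.o 1)) ∈ N0 := by
  revert k; decide +kernel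

theorem bd_aa (γ : Fin 4 → SL) : bd γ * aa = aa * bd γ := by
  rw [← bd_vals.1, ← map_mul, ← map_mul]
  congr 1
  funext k
  fin_cases k
  · exact U43.SL.neg_comm _
  all_goals exact (mul_one _).trans (one_mul _).symm

theorem fix_aa {v : V8} : aa • v = v ↔ blk v 0 = 0 := by
  have h : ∀ k, blk (aa • v) k = if k = 0 then -blk v k else blk v k := fun k => by
    rw [← bd_vals.1, blk_bd]
    generalize blk v k = a
    revert k a; decide +kernel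
  refine ⟨fun e => ?_, fun e => blk_ext fun k => ?_⟩
  · have := h 0
    rw [e, if_pos rfl] at this
    revert this
    generalize blk v 0 = a
    revert a; decide +kernel
  · rw [h]
    split_ifs with hk
    · rw [hk, e, neg_zero]
    · rfl

theorem cent_core {g : Sp} (h : ∀ r ∈ [uu, vv, i3, j3], g * r = r * g) {n : ℕ} (h3 : g ^ 3 ^ n = 1) : g = 1 := by
  obtain ⟨γ, rfl⟩ := bd_of_comm (h uu (by simp)) (h vv (by simp))
  have hi := h i3 (by simp)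
  have hj := h j3 (by simp)
  rw [← bd_vals.2.2.2.2.1, ← map_mul, ← map_mul] at hi
  rw [← bd_vals.2.2.2.2.2.1, ← map_mul, ← map_mul] at hj
  have h2 : γ ^ 2 = 1 := funext fun k => (by decide +kernel : ∀ a : SL, a * .o 2 = .o 2 * a → a * .o 4 = .o 4 * a →
    a ^ 2 = 1) _ (congrFun (bd_inj hi) k) (congrFun (bd_inj hj) k)
  exact (pow_eq_one_iff_of_coprime (Nat.Coprime.pow_right n (by norm_num : Nat.Coprime 2 3))).1
    ⟨by rw [← map_pow, h2, map_one], h3⟩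

namespace MK

theorem dec2 {g : Sp} (hg : g ∈ N1) (ha : g * aa = aa * g) : ∃ γ w p, g = bd γ * w ∧ Pp g p ∧
    (w = 1 ∧ p = 1 ∨ w = c3 ∧ p = pc ∨ w = c3⁻¹ ∧ p = pc⁻¹ ∨
      p ∈ [Equiv.swap 2 3, Equiv.swap 2 3 * pc, Equiv.swap 2 3 * pc⁻¹]) := by
  obtain ⟨γ, w, hw, rfl⟩ := blk_dec hg ha
  have m : ∀ {w p}, Pp w p → Pp (bd γ * w) p := fun h => by simpa using (Pp.bd γ).mul h
  simp only [List.mem_cons, List.not_mem_nil, or_false] at hw
  rcases hw with rfl | rfl | rfl | rfl | rfl | rfl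
  · exact ⟨γ, _, _, rfl, m Pp.one, by simp⟩
  · exact ⟨γ, _, _, rfl, m Pp.c3, by simp⟩
  · exact ⟨γ, _, _, rfl, m Pp.c3.inv, by simp⟩
  · exact ⟨γ, _, _, rfl, m Pp.s23, by simp⟩
  · exact ⟨γ, _, _, rfl, m (Pp.s23.mul Pp.c3), by simp⟩
  · exact ⟨γ, _, _, rfl, m (Pp.s23.mul Pp.c3.inv), by simp⟩

theorem mem_zaa {g : Sp} : g ∈ zpowers aa ↔ g = 1 ∨ g = aa := by
  refine ⟨fun h => ?_, fun h => h.elim (fun e => e ▸ one_mem _) fun e => e ▸ mem_zpowers _⟩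
  obtain ⟨n, rfl⟩ := mem_zpowers_iff.1 h
  have e : aa ^ (2 : ℤ) = 1 := by rw [zpow_two, aa_sq]
  obtain ⟨k, rfl | rfl⟩ := Int.even_or_odd' n
  · exact Or.inl (by rw [_root_.zpow_mul, e, _root_.one_zpow])
  · exact Or.inr (by rw [_root_.zpow_add, _root_.zpow_mul, e, _root_.one_zpow, one_mul, zpow_one])

theorem Pp.zaa {g : Sp} (h : g ∈ zpowers aa) : Pp g 1 := by
  rcases mem_zaa.1 h with rfl | rfl
  · exact Pp.one
  · exact bd_vals.1 ▸ Pp.bd _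

/-- the block diagonal elements of `Rm` -/
def D4 (a b c d : SL) : Prop :=
  a.v < 8 ∧ b.v / 2 = a.v / 2 ∧ c.v / 2 = a.v / 2 ∧ d.v / 2 = a.v / 2 ∧ (a.v + b.v + c.v + d.v) % 2 = 0

instance (a b c d : SL) : Decidable (D4 a b c d) := by unfold D4; infer_instance

def dg (e : ℕ) (k : Fin 4) : SL :=
  .o (2 * (e / 16 % 4) + (e / 64 + e % 2 * (k.1 / 2) + e / 2 % 2 * (k.1 % 2) + e / 16 % 4 / 3) % 2)

theorem Rm_aa {r : Sp} (hr : r ∈ Rm) (h : r * aa = aa * r) : ∃ γ, r = bd γ ∧ D4 (γ 0) (γ 1) (γ 2) (γ 3) := by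
  obtain ⟨e, rfl⟩ := hr
  exact ⟨dg e.v, (by decide +kernel : ∀ e : E7, rm e * aa = aa * rm e →
    rm e = bd (dg e.v) ∧ D4 (dg e.v 0) (dg e.v 1) (dg e.v 2) (dg e.v 3)) e h⟩

theorem eta4 (γ : Fin 4 → SL) : γ = ![γ 0, γ 1, γ 2, γ 3] := by
  funext k; fin_cases k <;> rfl

theorem bd_Rm {γ : Fin 4 → SL} : bd γ ∈ Rm ↔ D4 (γ 0) (γ 1) (γ 2) (γ 3) := by
  refine ⟨fun h => ?_, fun h => ?_⟩
  · obtain ⟨δ, e, h⟩ := Rm_aa h (bd_aa γ)
    rwa [bd_inj e]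
  · rw [eta4 γ]
    exact (by decide +kernel : ∀ a : SL, a.v < 8 → ∀ b : SL, b.v / 2 = a.v / 2 → ∀ c : SL, c.v / 2 = a.v / 2 →
      ∀ d : SL, d.v / 2 = a.v / 2 → (a.v + b.v + c.v + d.v) % 2 = 0 → bd ![a, b, c, d] ∈ Rm) _ h.1 _ h.2.1 _ h.2.2.1 _
      h.2.2.2.1 h.2.2.2.2

/-- the block diagonal elements of `N1` -/
def C1 (a b c d : SL) : Prop :=
  D4 (a * c⁻¹) (b * d⁻¹) (c * a⁻¹) (d * b⁻¹) ∧ D4 (a * b⁻¹) (b * a⁻¹) (c * d⁻¹) (d * c⁻¹) ∧
    D4 (a * .o 2 * a⁻¹) (b * .o 2 * b⁻¹) (c * .o 2 * c⁻¹) (d * .o 2 * d⁻¹) ∧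
    D4 (a * .o 4 * a⁻¹) (b * .o 4 * b⁻¹) (c * .o 4 * c⁻¹) (d * .o 4 * d⁻¹)

instance (a b c d : SL) : Decidable (C1 a b c d) := by unfold C1; infer_instance

theorem cj_mem {t : Sp} (ht : t ∈ Rm) {p : Equiv.Perm (Fin 4)} (h : ∀ v k, blk (t • v) (p k) = blk v k)
    (γ : Fin 4 → SL) : bd γ * t * (bd γ)⁻¹ ∈ Rm ↔ bd (γ * fun k => γ⁻¹ (p⁻¹ k)) ∈ Rm := by
  rw [map_mul, ← cj h, map_inv, ← mul_mem_cancel_right (inv_mem ht)]
  simp only [mul_assoc]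

theorem bd_N1 {γ : Fin 4 → SL} : bd γ ∈ N1 ↔ C1 (γ 0) (γ 1) (γ 2) (γ 3) := by
  have c : ∀ δ, γ * δ * γ⁻¹ = δ → bd δ ∈ Rm → bd γ * bd δ * (bd γ)⁻¹ ∈ Rm := fun δ h hδ => by
    rwa [← map_inv, ← map_mul, ← map_mul, h]
  have s : ∀ a : SL, a * 1 * a⁻¹ = 1 ∧ a * .o 1 * a⁻¹ = .o 1 := by decide +kernel
  obtain ⟨-, e1, e2, e4, e8, e16, e32⟩ := rm_vals
  obtain ⟨-, b1, b2, -, b3, b4, -⟩ := bd_vals
  have h1 := c ![1, 1, .o 1, .o 1] (by funext k; fin_cases k; exacts [(s _).1, (s _).1, (s _).2, (s _).2])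
    ⟨_, e1.trans b1.symm⟩
  have h2 := c ![1, .o 1, 1, .o 1] (by funext k; fin_cases k; exacts [(s _).1, (s _).2, (s _).1, (s _).2])
    ⟨_, e2.trans b2.symm⟩
  rw [b1] at h1
  rw [b2] at h2
  simp only [mem_N1, gE, List.forall_mem_cons, List.not_mem_nil, false_imp_iff, implies_true, and_true, e1, e2, e4, e8,
    e16, e32, h1, h2, true_and]
  rw [cj_mem ⟨_, e4⟩ (p := ⟨![2, 3, 0, 1], ![2, 3, 0, 1], by decide, by decide⟩) (blk_of_mat (by decide +kernel)),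
    cj_mem ⟨_, e8⟩ (p := ⟨![1, 0, 3, 2], ![1, 0, 3, 2], by decide, by decide⟩) (blk_of_mat (by decide +kernel)),
    ← b3, ← b4, ← map_inv, ← map_mul, ← map_mul, ← map_mul, ← map_mul, bd_Rm, bd_Rm, bd_Rm, bd_Rm]
  rfl

/-- the block diagonal elements of `N0` -/
def C0 (a b c d : SL) : Prop :=
  C1 a b c d ∧ D4 (a * (.o 8 * a⁻¹ * (SL.o 8)⁻¹)) (b * (.o 8 * d⁻¹ * (SL.o 8)⁻¹)) (c * (.o 8 * b⁻¹ * (SL.o 8)⁻¹))
    (d * (.o 8 * c⁻¹ * (SL.o 8)⁻¹))

instance (a b c d : SL) : Decidable (C0 a b c d) := by unfold C0; infer_instance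

theorem x0_eq : x0 = c3 * x3 := by decide +kernel

theorem bd_N0 {γ : Fin 4 → SL} : bd γ ∈ N0 ↔ C0 (γ 0) (γ 1) (γ 2) (γ 3) := by
  have e : bd γ * x0 * (bd γ)⁻¹ * x0⁻¹ = bd γ * (c3 * (x3 * (bd γ)⁻¹ * x3⁻¹) * c3⁻¹) := by rw [x0_eq]; group
  rw [mem_N0, bd_N1, e, ← bd_vals.2.2.2.2.2.2, ← map_inv, ← map_inv, ← map_mul, ← map_mul, cj blk_c3, ← map_mul, bd_Rm]
  rfl

theorem q8 : ∀ a : SL, a ^ 4 = 1 ↔ a.v < 8 := by decide +kernel

def mk4 (x : Fin 8 × Fin 8 × Fin 8 × Fin 8) : Fin 4 → SL := ![.o x.1, .o x.2.1, .o x.2.2.1, .o x.2.2.2]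

theorem card_PK {K : Subgroup Sp} (P : SL → SL → SL → SL → Prop) [∀ a b c d, Decidable (P a b c d)]
    (h : ∀ γ, bd γ ∈ K ↔ P (γ 0) (γ 1) (γ 2) (γ 3)) : Nat.card (PK K) =
      (Finset.univ.filter fun x : Fin 8 × Fin 8 × Fin 8 × Fin 8 => P (.o x.1) (.o x.2.1) (.o x.2.2.1) (.o x.2.2.2)).card := by
  have a1 : ∀ i : Fin 8, SL.o i ^ 4 = 1 := by decide +kernel
  have a2 : ∀ i j : Fin 8, SL.o i = SL.o j → i = j := by decide +kernel
  have a3 : ∀ a : SL, a ^ 4 = 1 → ∃ i : Fin 8, SL.o i = a := by decide +kernel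
  rw [← Nat.subtype_card _ (fun x => Finset.mem_filter_univ x)]
  refine (Nat.card_congr (Equiv.ofBijective (fun x => ⟨bd (mk4 x.1), (h _).2 x.2, mk4 x.1,
    fun k => by fin_cases k <;> exact a1 _, rfl⟩) ⟨fun x y e => ?_, ?_⟩)).symm
  · have := bd_inj (congrArg Subtype.val e)
    exact Subtype.ext (Prod.ext (a2 _ _ (congrFun this 0)) (Prod.ext (a2 _ _ (congrFun this 1))
      (Prod.ext (a2 _ _ (congrFun this 2)) (a2 _ _ (congrFun this 3)))))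
  · rintro ⟨_, hK, γ, hγ, rfl⟩
    choose i hi using fun k => a3 _ (hγ k)
    have e : mk4 (i 0, i 1, i 2, i 3) = γ := by funext k; fin_cases k <;> exact hi _
    exact ⟨⟨(i 0, i 1, i 2, i 3), (h (mk4 (i 0, i 1, i 2, i 3))).1 (e ▸ hK)⟩, Subtype.ext (congrArg bd e)⟩

def gn : Fin 8 → Fin 4 → SL := ![1, fun _ => .o 2, fun _ => .o 4, fun _ => .o 6, 1, ![1, .o 2, .o 4, .o 6],
  ![1, .o 4, .o 6, .o 2], ![1, .o 6, .o 2, .o 4]]

theorem one_blk {a : SL} (h : bd ![a, 1, 1, 1] ∈ N1) : bd ![a, 1, 1, 1] = 1 ∨ bd ![a, 1, 1, 1] = aa := by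
  rcases (by decide +kernel : ∀ a : SL, C1 a 1 1 1 → a = 1 ∨ a = .o 1) a (bd_N1.1 h) with rfl | rfl
  · exact Or.inl (by decide +kernel)
  · exact Or.inr bd_vals.1

end MK

theorem card_PK0 : Nat.card (PK N0) = 256 := by
  rw [card_PK C0 fun _ => bd_N0]; decide +kernel

theorem card_PK1 : Nat.card (PK N1) = 1024 := by
  rw [card_PK C1 fun _ => bd_N1]; decide +kernel

theorem PK_norm {K : Subgroup Sp} (hK : K ≤ N1) {g p : Sp} (hg : g ∈ K) (ha : g * aa = aa * g) (hp : p ∈ PK K) :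
    g * p * g⁻¹ ∈ PK K := by
  refine ⟨K.mul_mem (K.mul_mem hg hp.1) (K.inv_mem hg), ?_⟩
  obtain ⟨γ, w, hw, rfl⟩ := blk_dec (hK hg) ha
  have a : ∀ {w : Sp} {q : Equiv.Perm (Fin 4)}, (∀ v k, blk (w • v) (q k) = blk v k) →
      w ∈ normalizer (Q84.map bd : Set Sp) := fun h => mem_normalizer_fintype (by
    rintro _ ⟨δ, hδ, rfl⟩
    exact ⟨_, fun k => hδ _, (cj h δ).symm⟩)
  have b : bd γ ∈ normalizer (Q84.map bd : Set Sp) := mem_normalizer_fintype (by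
    rintro _ ⟨δ, hδ, rfl⟩
    refine ⟨γ * δ * γ⁻¹, fun k => ?_, by simp⟩
    change (γ k * δ k * (γ k)⁻¹) ^ 4 = 1
    rw [conj_pow, hδ k, mul_one, mul_inv_cancel])
  have c := a blk_c3
  have d := a blk_s23
  refine (mem_normalizer_iff.1 (mul_mem b ?_) p).1 hp.2
  simp only [List.mem_cons, List.not_mem_nil, or_false] at hw
  rcases hw with rfl | rfl | rfl | rfl | rfl | rfl
  exacts [one_mem _, c, inv_mem c, d, mul_mem d c, mul_mem d (inv_mem c)]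

theorem PK_max {g : Sp} (hg : g ∈ N1) (ha : g * aa = aa * g) (h1 : g ^ 4 ∈ zpowers aa)
    (h2 : (g * c3 * g⁻¹ * c3⁻¹) ^ 4 ∈ zpowers aa) : g ∈ Q84.map bd := by
  obtain ⟨γ, w, p, rfl, hp, h⟩ := dec2 hg ha
  have e1 := (hp.pow 4).uniq (Pp.zaa h1)
  have e2 := ((((hp.mul Pp.c3).mul hp.inv).mul Pp.c3.inv).pow 4).uniq (Pp.zaa h2)
  rcases h with ⟨rfl, -⟩ | ⟨-, rfl⟩ | ⟨-, rfl⟩ | h
  · rw [mul_one] at h1 ⊢
    have : (γ ^ 4) ^ 2 = 1 := bd_inj (by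
      rw [map_pow, map_pow, map_one]
      rcases mem_zaa.1 h1 with e | e <;> rw [e]
      exacts [one_pow _, (sq _).trans aa_sq])
    exact ⟨γ, fun k => (by decide +kernel : ∀ a : SL, (a ^ 4) ^ 2 = 1 → a ^ 4 = 1) _ (congrFun this k), rfl⟩
  · exact absurd e1 (by decide)
  · exact absurd e1 (by decide)
  · exact absurd e2 (by revert h; generalize p = q; revert q; decide)

theorem triv_on {g : Sp} (hg : g ∈ N1) (ha : g * aa = aa * g) (h : ∀ v : V8, blk v 0 = 0 → g • v = v) :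
    g = 1 ∨ g = aa := by
  obtain ⟨γ, w, p, rfl, hp, hw⟩ := dec2 hg ha
  have e : ∀ k ≠ 0, p k = k := fun k hk => by
    have := hp (unb (Pi.single k 1)) k
    rw [h _ ((blk_single _ _).2 hk.symm), blk_single, blk_single] at this
    exact by_contra fun e => this.1 e rfl
  rcases hw with ⟨rfl, -⟩ | ⟨-, rfl⟩ | ⟨-, rfl⟩ | hw
  · rw [mul_one] at hg h ⊢
    have a : ∀ k ≠ 0, γ k = 1 := fun k hk => m2_inj (toLin'.injective (LinearMap.ext fun a => by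
      have := congrArg (blk · k) (h (unb (Pi.single k a)) (by simp [hk]))
      simpa [blk_bd, m2_one] using this))
    rw [eta4 γ, a 1 (by decide), a 2 (by decide), a 3 (by decide)] at hg ⊢
    exact one_blk hg
  · exact absurd e (by decide)
  · exact absurd e (by decide)
  · exact absurd e (by revert hw; generalize p = q; revert q; decide)

/-- `C_{N0}(aa)` has no subgroup of index two -/
theorem sq_gen0 {H : Subgroup Sp} (h : ∀ g ∈ N0, g * aa = aa * g → g * g ∈ H) :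
    ∀ g ∈ N0, g * aa = aa * g → g ∈ H := by
  obtain ⟨-, mc, mx, -, -, mR⟩ := mems
  have hc : ∀ {a}, a ∈ N0 ⊓ centralizer {aa} → a * a ∈ H := fun ha => h _ ha.1 (mem_centralizer_singleton_iff.1 ha.2)
  have cm : ∀ {a b}, a ∈ N0 ⊓ centralizer {aa} → b ∈ N0 ⊓ centralizer {aa} → a * b * a⁻¹ * b⁻¹ ∈ H := fun {a b} ha hb => by
    have := mul_mem (mul_mem (hc ha) (hc (mul_mem (inv_mem ha) hb))) (hc (inv_mem hb))
    rwa [show a * a * (a⁻¹ * b * (a⁻¹ * b)) * (b⁻¹ * b⁻¹) = a * b * a⁻¹ * b⁻¹ by group] at this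
  have cb : ∀ γ : Fin 4 → SL, C0 (γ 0) (γ 1) (γ 2) (γ 3) → bd γ ∈ N0 ⊓ centralizer {aa} := fun γ hγ =>
    ⟨bd_N0.2 hγ, mem_centralizer_singleton_iff.2 (bd_aa γ)⟩
  have c3C : c3 ∈ N0 ⊓ centralizer {aa} := ⟨mc, mem_centralizer_singleton_iff.2 (by decide +kernel)⟩
  have bx := bd_vals.2.2.2.2.2.2
  have x3C : x3 ∈ N0 ⊓ centralizer {aa} := ⟨mx, mem_centralizer_singleton_iff.2 (by decide +kernel)⟩
  have c3H : c3 ∈ H := by
    have := hc (inv_mem c3C)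
    rwa [(by decide +kernel : c3⁻¹ * c3⁻¹ = c3)] at this
  have x3H : x3 ∈ H := by
    have := hc (inv_mem x3C)
    rwa [(by decide +kernel : x3⁻¹ * x3⁻¹ = x3)] at this
  have l1 : ∀ i, gn i ∈ H.comap bd := fun i => by
    obtain ⟨j, hγ, e⟩ := (by decide +kernel : ∀ i, ∃ j, C0 (gn j 0) (gn j 1) (gn j 2) (gn j 3) ∧
      ∀ k, SL.o 8 * gn j k * (SL.o 8)⁻¹ * (gn j k)⁻¹ = gn i k) i
    rw [mem_comap, ← show (fun _ => SL.o 8) * gn j * (fun _ => SL.o 8)⁻¹ * (gn j)⁻¹ = gn i from funext e, map_mul,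
      map_mul, map_mul, map_inv, map_inv, bx]
    exact cm x3C (cb _ hγ)
  have l2 : ∀ γ : Fin 4 → SL, C0 (γ 0) (γ 1) (γ 2) (γ 3) → (fun k => γ (pc⁻¹ k)) * γ⁻¹ ∈ H.comap bd := fun γ hγ => by
    rw [mem_comap, map_mul, map_inv, ← cj blk_c3]
    exact cm c3C (cb _ hγ)
  have hu := l2 ![1, .o 1, 1, .o 1] (by decide +kernel)
  have hv := l2 ![1, .o 1, .o 1, 1] (by decide +kernel)
  have hi := l1 1
  have hp := l1 5
  have sg : ∀ k, Pi.mulSingle k (SL.o 1) ∈ H.comap bd := fun k => by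
    fin_cases k
    · convert mul_mem (mul_mem hi hi) (mul_mem hp hp) using 1; exact funext (by decide +kernel)
    · convert mul_mem hu (mul_mem hp hp) using 1; exact funext (by decide +kernel)
    · convert mul_mem hv (mul_mem hp hp) using 1; exact funext (by decide +kernel)
    · convert mul_mem (mul_mem hu hv) (mul_mem hp hp) using 1; exact funext (by decide +kernel)
  have l3 : ∀ γ ∈ Q84, bd γ ∈ N0 → γ ∈ H.comap bd := fun γ hγ h0 => by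
    obtain ⟨q, r, e⟩ := (by decide +kernel : ∀ a : SL, a.v < 8 → ∀ b : SL, b.v < 8 → ∀ c : SL, c.v < 8 →
      ∀ d : SL, d.v < 8 → C0 a b c d → ∃ q r : Fin 4, ∀ k, (![a, b, c, d] * (gn (q.castAdd 4) * gn (r.natAdd 4))⁻¹) k = 1 ∨
      (![a, b, c, d] * (gn (q.castAdd 4) * gn (r.natAdd 4))⁻¹) k = .o 1) _ ((q8 _).1 (hγ 0)) _
      ((q8 _).1 (hγ 1)) _ ((q8 _).1 (hγ 2)) _ ((q8 _).1 (hγ 3)) (bd_N0.1 h0)
    rw [← eta4] at e
    refine (mul_mem_cancel_right (inv_mem (mul_mem (l1 (q.castAdd 4)) (l1 (r.natAdd 4))))).1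
      (pi_mem_of_mulSingle_mem _ fun k => ?_)
    rcases e k with e | e <;> rw [e]
    exacts [by rw [Pi.mulSingle_one]; exact one_mem _, sg k]
  have l4 : ∀ γ, bd γ ∈ N0 → bd γ ∈ H := fun γ h0 => by
    have h1 := bd_N1.1 h0.1
    obtain ⟨n, e⟩ := (by decide +kernel : ∀ a : SL, ∃ n : Fin 3, (a * (SL.o 8 ^ n.1)⁻¹) ^ 4 = 1 ∧ ∀ b : SL,
      (b * a⁻¹).v / 2 < 4 → ∀ c : SL, (b * (SL.o 8 ^ n.1)⁻¹) ^ 4 = 1 ∧
        ((c * b⁻¹).v / 2 < 4 → (c * (SL.o 8 ^ n.1)⁻¹) ^ 4 = 1)) (γ 0)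
    obtain ⟨⟨a1, a2, a3, a4, -⟩, ⟨b1, b2, -⟩, -⟩ := h1
    have e1 := e.2 (γ 1) (by omega) (γ 3)
    have := l3 (γ * ((fun _ => SL.o 8) ^ n.1)⁻¹) (fun k => by
      fin_cases k
      exacts [e.1, e1.1, (e.2 (γ 2) (by omega) 1).1, e1.2 (by omega)])
      (by rw [map_mul, map_inv, map_pow, bx]; exact mul_mem h0 (inv_mem (pow_mem mx _)))
    rw [mem_comap, map_mul, map_inv, map_pow, bx] at this
    exact (mul_mem_cancel_right (inv_mem (pow_mem x3H _))).1 this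
  intro g hg ha
  obtain ⟨γ, w, p, rfl, hp, hw⟩ := dec2 hg.1 ha
  rcases hw with ⟨rfl, -⟩ | ⟨rfl, -⟩ | ⟨rfl, -⟩ | hw
  · rw [mul_one] at hg ⊢; exact l4 _ hg
  · exact mul_mem (l4 _ ((mul_mem_cancel_right mc).1 hg)) c3H
  · exact mul_mem (l4 _ ((mul_mem_cancel_right (inv_mem mc)).1 hg)) (inv_mem c3H)
  · have x0C : x0 ∈ centralizer {aa} := mem_centralizer_singleton_iff.2 (by decide +kernel)
    have gC := mem_centralizer_singleton_iff.2 ha
    obtain ⟨δ, e, -⟩ := Rm_aa hg.2 (mem_centralizer_singleton_iff.1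
      (mul_mem (mul_mem (mul_mem gC x0C) (inv_mem gC)) (inv_mem x0C)))
    have px : Pp x0 pc := by simpa only [bx, ← x0_eq, mul_one] using Pp.c3.mul (Pp.bd fun _ => .o 8)
    exact absurd ((((hp.mul px).mul hp.inv).mul px.inv).uniq (by rw [e]; exact Pp.bd δ))
      (by revert hw; generalize p = q; revert q; decide)

/-- `Q₈` in `SL` -/
def MK.χ (a : SL) : QuaternionGroup 2 :=
  if a.v / 4 = 0 then .a (a.v % 2 * 2 + a.v / 2 : ℕ) else .xa (a.v % 2 * 2 + a.v / 2 % 2 * 3 : ℕ)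

theorem PK1_quo : ∃ f : PK N1 →* QuaternionGroup 2 × QuaternionGroup 2 × QuaternionGroup 2,
    Function.Surjective f ∧ ∀ x, f x = 1 ↔ x.1 ∈ zpowers aa := by
  choose γ hγ e using fun x : PK N1 => mem_map.1 x.2.2
  have hm : ∀ x y, γ (x * y) = γ x * γ y := fun x y => bd_inj (by rw [map_mul, e, e, e]; rfl)
  have m : ∀ a : SL, a ^ 4 = 1 → ∀ b : SL, b ^ 4 = 1 → χ (a * b) = χ a * χ b := by decide +kernel
  have i : ∀ a : SL, a ^ 4 = 1 → χ a = 1 → a = 1 := by decide +kernel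
  have s : ∀ q, ∃ a : SL, a.v < 8 ∧ χ a = q := by decide +kernel
  refine ⟨MonoidHom.mk' (fun x => (χ (γ x 1), χ (γ x 2), χ (γ x 3))) fun x y => ?_, fun ⟨q1, q2, q3⟩ => ?_, fun x => ?_⟩
  · simp only [hm, Pi.mul_apply, m _ (hγ x _) _ (hγ y _), Prod.mk_mul_mk]
  · obtain ⟨b, hb, rfl⟩ := s q1
    obtain ⟨c, hc, rfl⟩ := s q2
    obtain ⟨d, hd, rfl⟩ := s q3
    obtain ⟨a, ha, h⟩ := (by decide +kernel : ∀ b : SL, b.v < 8 → ∀ c : SL, c.v < 8 → ∀ d : SL, d.v < 8 →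
      ∃ a : SL, a.v < 8 ∧ C1 a b c d) b hb c hc d hd
    let x : PK N1 := ⟨bd ![a, b, c, d], bd_N1.2 h, _, fun k => by
      fin_cases k
      exacts [(q8 _).2 ha, (q8 _).2 hb, (q8 _).2 hc, (q8 _).2 hd], rfl⟩
    refine ⟨x, ?_⟩
    rw [MonoidHom.mk'_apply, show γ x = ![a, b, c, d] from bd_inj (e x)]
    rfl
  · rw [MonoidHom.mk'_apply, mem_zaa]
    constructor
    · intro h
      have h1 := x.2.1
      simp only [Prod.mk_eq_one] at h
      rw [← e, eta4 (γ x), i _ (hγ x 1) h.1, i _ (hγ x 2) h.2.1, i _ (hγ x 3) h.2.2] at h1 ⊢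
      exact one_blk h1
    · rintro (h | h)
      · rw [show γ x = 1 from bd_inj (by rw [e, h, map_one])]; decide +kernel
      · rw [show γ x = ![.o 1, 1, 1, 1] from bd_inj (by rw [e, h, bd_vals.1])]; decide +kernel

end CfsgLib.Rec3D
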