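import Cfsg.Agent.Lib.Rec3D.ModP

/-! The two possible images, MN (plans/REC3D.md). -/

set_option autoImplicit false
set_option maxRecDepth 100000
set_option linter.unusedSectionVars false
set_option linter.unusedVariables false

namespace CfsgLib.Rec3D

open Subgroup Cfsg CfsgLib.Tech CfsgLib.W2 CfsgLib.Rec3B Matrix
open CfsgLib.U43 (SL)

def MN.cT : ℕ := 0x21444811124484112284442122484412080002000020004020004000000800021244841121444811228444212248441256826a2441a91895186a82a99524564141a9189556826a24186a82a96a18a982858a6162a85826162926585491618a4a82a66524189aa6826a284256a981286a82a965281895a6816a2442595641149a12448411214448112284442111848821562481656a8214a624566581826aa61415a2a125a11a2aa2688646648964684991922926162691614a8a54a4a8a44a4528a9562881956a81a62424596541419a214448111244841122844421118488218811228848211248214848121188882265241865a68241a642565681149595280200040000400010200040000008000265241865a68241a642565681286a6a1441a9189556826a24186a82a9952456418422214488122284124484111184882158588a8a6161191926196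192458a58a421484812228844221248841222444411894968981525a151686446495251151a12448411228444212144481111848821a11a2aa215a2a12568864664896468498811228848211248214848122244441112488412228844222148481222444411228844221248841221484812118888229849869851251a51866464492551511a21444811228444211244841111848821228844222148481212488412224444118156286a146a81a9598265249a245941286542a681a6289a598165286514a681186a82a941a9189556826a24952456412288442212488412214848122244441102000400200040000040001000040001286a42a981a92895598265249a245941200040000200040000400010000400010400010040001000004000100004000140001000040001000040001000040001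

/-- representatives of the 40 cosets of `N0` -/
noncomputable def MN.cs (i : Fin 40) : Sp := Sp.o (MP.tb MN.cT i)

theorem MN.cs_ok : (∀ i, cs i ∈ N1) ∧ ∀ i, ∀ j < i, cs i * x0 * (cs i)⁻¹ * (cs j * x0 * (cs j)⁻¹)⁻¹ ∉ Rm := by
  decide +kernel

open MN

theorem card_N0_le : Nat.card N0 ≤ 128 * 648 := by
  have h : Function.Injective fun i => (QuotientGroup.mk ⟨cs i, cs_ok.1 i⟩ : N1 ⧸ N0.subgroupOf N1) := fun i j e => by
    wlog h : j ≤ i generalizing i j
    · exact (this j i e.symm (le_of_not_ge h)).symm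
    refine h.eq_or_lt.elim Eq.symm fun h => absurd ?_ (cs_ok.2 i j h)
    have := conj_Rm (cs_ok.1 j) (show (cs j)⁻¹ * cs i ∈ N0 from (QuotientGroup.eq (s := N0.subgroupOf N1)).1 e.symm).2
    convert this using 1
    group
  have h1 : 40 ≤ N0.relIndex N1 := (Nat.card_fin 40).ge.trans (Nat.card_le_card_of_injective _ h)
  have h2 := card_N1_le
  rw [← card_mul_relIndex' N0_le] at h2
  nlinarith

theorem TF.eq {K : Subgroup Sp} (h : TF K) (h1 : K ≤ N1) (hR : Rm ≤ K) (hP : Pm ≤ K) : K = N0 := by
  obtain ⟨hc, t, ht, t1, t3, tc⟩ := h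
  refine eq_of_le_of_card_ge (fun k hk => ⟨h1 hk, ?_⟩) (hc ▸ card_N0_le)
  obtain ⟨g, hg, hs⟩ := (sylow_Pm.of_le hP h1).exists_conj_mem (pow_mem ht 4) (isPGroup_zpowers_of_pow (k := 1) (by
    obtain ⟨e, he⟩ := t3
    rw [pow_one, pow_right_comm, ← he, ← map_pow, MA.es.pow_four trivial, map_one]))
  have hr : g * t ^ 4 * g⁻¹ * t⁻¹ ∈ Rm := by
    convert mul_mem (conj_Rm (h1 hg) t3) (tc g hg) using 1
    group
  generalize g * t ^ 4 * g⁻¹ = s at hs hr
  have k1 : ∀ k ∈ K, k * s * k⁻¹ * s⁻¹ ∈ Rm := fun k hk => by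
    convert mul_mem (mul_mem (conj_Rm (h1 hk) hr) (tc k hk)) (inv_mem hr) using 1
    group
  rcases cent_Pm hs fun k hk => k1 k (hP hk) with rfl | rfl | rfl
  · exact absurd (by simpa using hr) t1
  · exact k1 k hk
  · convert conj_Rm (h1 (hP (Jm_le mem_Jm_vals.2.2.2.2))) (inv_mem (k1 k hk)) using 1
    group

theorem TB.eq {K : Subgroup Sp} (h : TB K) (h1 : K ≤ N1) : K = N1 := eq_of_le_of_card_ge h1 (h ▸ card_N1_le)

theorem TF.cj {K : Subgroup Sp} (h : TF K) {n : Sp} (hn : n ∈ N1) : TF (cj n K) := by
  obtain ⟨hc, t, ht, t1, t3, tc⟩ := h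
  refine ⟨(card_cj n K).trans hc, _, conj_mem_cj.2 ht, fun h => t1 ((mem_normalizer_iff.1 hn t).2 h),
    by rw [conj_pow]; exact conj_Rm hn t3, fun s hs => ?_⟩
  convert conj_Rm hn (tc _ (mem_cj.1 hs)) using 1
  group

theorem TB.cj {K : Subgroup Sp} (h : TB K) (n : Sp) : TB (cj n K) := (card_cj n K).trans h

theorem exists_conj' {K A : Subgroup Sp} (h1 : K ≤ N1) (h81 : 81 ∣ Nat.card K) (hA : A ≤ K) (h3 : IsPGroup 3 A) :
    ∃ n ∈ N1, cj n A ≤ Pm ∧ Pm ≤ cj n K := by
  obtain ⟨T, hT, hAT⟩ := exists_isSylowIn_ge h3 hA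
  obtain ⟨n, hn, h⟩ := sylow_Pm.exists_cj_le hT.pgroup (hT.le.trans h1)
  refine ⟨n, hn, (cj_mono n hAT).trans h, (eq_of_le_of_card_ge h ?_).ge.trans (cj_mono n hT.le)⟩
  rw [← card_mul_relIndex' hT.le] at h81
  rw [card_Pm, card_cj]
  exact Nat.le_of_dvd Nat.card_pos ((Nat.Coprime.pow_left 4 ((Nat.prime_three.coprime_iff_not_dvd).2
    hT.not_dvd)).dvd_of_dvd_mul_right h81)

end CfsgLib.Rec3D
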