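import Cfsg.Agent.Lib.Rec3D.ModA

/-! The Sylow 3-subgroup of the model, MP (plans/REC3D.md). -/

set_option autoImplicit false
set_option maxRecDepth 100000
set_option linter.unusedSectionVars false
set_option linter.unusedVariables false

namespace CfsgLib.Rec3D

open Subgroup Cfsg CfsgLib.Tech CfsgLib.W2 CfsgLib.Rec3B Matrix
open CfsgLib.U43 (SL)

namespace MP

/-- multiplication in `3 ≀ 3` -/
noncomputable def wm (m n : ℕ) : ℕ :=
  (m / 27 + (n / 3 + n / 3 * 27) / 3 ^ ((2 + m) % 3)) % 3 * 27 + (m / 9 + (n / 3 + n / 3 * 27) / 3 ^ ((1 + m) % 3)) % 3 * 9 +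
    (m / 3 + (n / 3 + n / 3 * 27) / 3 ^ (m % 3)) % 3 * 3 + (m + n) % 3

theorem tokW : TOk 81 wm fun n => wm (wm (wm n n) (wm n n)) (wm (wm n n) (wm n n)) :=
  (SOk.of_light (gs := [27, 1]) (D := 8) (by decide +kernel)).tok (by decide +kernel)

abbrev W : Type := TG tokW

def pT : ℕ := 0x5628145624a65924829a65826a81426a5624145924a95928829565819541819a001000a01000a00001000a000001000a1456958159248265658218a6426a5614145995825928826a658118a9819aa92400a00040a00040000a000400000a000495815628826524a618a6829a56146a8195825624826a24a918a98295a9249541004000104000100004000100000400018652a1865146895125946825642a156458926254268a4a298a19298592a4549121125aa51212a5a51122aa551111aaaaa186982a895125686825a246156486a1625445194a299258298558615491198a5aa58448a5a54848aa554488aaaa4444982a865225685146a246259486a1642a451958929258268a58618a19198a92a48448211248481212448811224444111126854a268a16298a589162586154a861514989522598682a8651a189981a2a941211a5aa1121aa5a21115aaa2221555a4a269254298a586262584516a861264a89522564682aa249a189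98252a944951a5aa4844aa5a44845aaa8444555a88849254268558628a1645165891264a615425645149a2492598982586514951981a484412114484112184442111888422215891625826854a268a16298a6154a8618651a189514989522598682a981a2a9421115aaa1211a5aa1121aa5a2221555a625845164a269254298a5862a861264aa189982589522564682aa2492a9449515aaa8444a5aa4844aa5a4484555a8884451658919254268558628a16264a61549825865125645149a24925984951981a84442111484412114484112188842221829a65825628145624a659246a81426a829565815624145924a959289541819a01000a00001000a01000a0000001000a658218a61456958159248265426a5614658118a9145995825928826a819aa9240a00040000a00040a0004000000a000418a6829a95815628826524a656146a8118a9829595825624826a24a9a924954104000100004000104000100000040001259468258652a18651468951642a15648a19298558926254268a4a2992a454911122aa5521125aa51212a5a51111aaaa6825a246a186982a89512568156486a129855861625445194a2992585491198aaa5544885aa58448a5a54848aaaa4444a2462594982a86522568514686a1642a58618a19451958929258268a198a92a4448811228448211248481212444411115146895125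9468258652a186642a1564268a4a298a1929855892625492a454911212a5a51122aa5521125aa51111aaaa895125686825a246a186982a156486a14a29925829855861625445195491198aa5a54848aa5544885aa58448aaaa444425685146a2462594982a865286a1642a9258268a58618a1945195892198a92a4484812124488112284482112444411118a16298a5891625826854a266154a8612598682a8651a18951498952981a2a941121aa5a21115aaa1211a5aa2221555a298a5862625845164a269254a861264a682aa249a1899825895225642a944951aa5a44845aaa8444a5aa4844555a888458628a164516589192542685264a6154a249259898258651256451494951981a4484112184442111484412118884222124a65924829a6582562814566a81426a24a9592882956581562414599541819a1000a00001000a00001000a00001000a59248265658218a614569581426a56145928826a658118a914599582819aa924a00040000a00040000a00040000a0004826524a618a6829a9581562856146a81826a24a918a9829595825624a924954140001000040001000040001000040001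
def nT : ℕ := 0x5885166161294a584aa492292961584a665a4412aa9622841288a5664822965540001000040001000040001000040001000000000000000000000000000000000000000000000000000000000000000004000100400010000040001000040001000000000000000000000000000000000000000000000000000000000000000004000100400010000040001000040001000000000000000000000000000000000000000000000000000000000000000018a98295826a24a995825624a9249541000000000000000000000000000000000000000000000000000000000000000018a6829a826524a69581562856146a8156656aa69aa9599581242841184282142a516489944925528668a11a512a896400120048001100442200880012004800000000000000000000000000000000000000000000000000000000000000000018a98295826a24a995825624a9249541944925522a5164898668a11a512a89644002600a4001600506a0081009a00410286542a681a6289a598165286514a6810000000000000000000000000000000000000000000000000000000000000000286a42a981a92895598265249a245941000000000000000000000000000000000000000000000000000000000000000018a6829a826524a69581562856146a810000000000000000000000000000000000000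00000000000000000000000000018a98295826a24a995825624a9249541aa4822961266a544885a661296228455926285458a856261545819161626a454001100440012004822008800120048000000000000000000000000000000000000000000000000000000000000000000040001004000100000400010000400015569114899a5882121445a99841169aa94942525a15249868686a1a1251a689440001000040001000040001000040001000000000000000000000000000000000000000000000000000000000000000040001000040001000040001000040001585416191929a8584a45929162924585020809050204090a605020409050104081a6289a286542a6598165286514a6810000000000000000000000000000000000000000000000000000000000000000826a24a918a9829595825624a92495410000000000000000000000000000000000000000000000000000000000000000826524a618a6829a9581562856146a81000000000000000000000000000000000000000000000000000000000000000018a6829a826524a69581562856146a8110085009100450060a90014005900240944625512a5264868664a11551258968286a42a981a92895598265249a2459410000000000000000000000000000000000000000000000000000000000000000286542a681a6289a59816528651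4a681015006409004100a9008100501a00680585816161926a8544a4a92926291458a81a92895286a42a9598265246518a6820000000000000000000000000000000000000000000000000000000000000000826524a618a6829a9581562856146a810000000000000000000000000000000000000000000000000000000000000000826a24a918a9829595825624a92495410000000000000000000000000000000000000000000000000000000000000000001100440012004822008800120048000000000000000000000000000000000000000000000000000000000000000000400010000400010000400010000400010502090860805010050109049080a0106080501005020908050109049080a01000000000000000000000000000000000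

noncomputable def tb (T n : ℕ) : ℕ := tab1 128 0xffffffffffffffffffffffffffffffff T n

theorem genW : TG.genB ([TG.o 27, TG.o 1] : List W) 8 = true := by decide +kernel

noncomputable def pw : W →* Sp := TG.homOf genW (fun e => Sp.o (tb pT e.v)) (by decide +kernel) (by decide +kernel)

theorem pw_val : ∀ w : W, (pw w).1 = tb pT w.v ∧ (pw w ∈ Rm → w = 1) ∧
    pw w = x1 ^ (w.v / 27) * x2 ^ (w.v / 9 % 3) * x3 ^ (w.v / 3 % 3) * sg ^ (w.v % 3) := by decide +kernel

theorem pw_inj : Function.Injective pw :=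
  (injective_iff_map_eq_one _).2 fun w h => (pw_val w).2.1 (h ▸ one_mem _)

theorem vals : pw (.o 27) = x1 ∧ pw (.o 9) = x2 ∧ pw (.o 3) = x3 ∧ pw (.o 1) = sg ∧ pw (.o 39) = x0 ∧
    pw (.o 78) = x0⁻¹ ∧ x1 * x2 = c3 ∧ x1 * x2 * x3 = x0 := by decide +kernel

theorem range_pw : pw.range = Pm := by
  refine le_antisymm ?_ ((closure_le _).2 (Set.pair_subset ⟨_, vals.1⟩ ⟨_, vals.2.2.2.1⟩))
  rintro _ ⟨w, rfl⟩
  exact (TG.eq_top_of_genB genW (S := Pm.comap pw) (List.forall_mem_cons.2 ⟨subset_closure (.inl vals.1),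
    List.forall_mem_singleton.2 (subset_closure (.inr vals.2.2.2.1))⟩)).ge (mem_top w)

noncomputable def JW : Subgroup W := TG.sub (fun w => w.v % 3 = 0) (by decide +kernel)

theorem x_mem : x1 ∈ Jm ∧ x2 ∈ Jm ∧ x3 ∈ Jm := ⟨subset_closure (by simp), subset_closure (by simp), subset_closure (by simp)⟩

theorem map_JW : JW.map pw = Jm := by
  refine le_antisymm ?_ ((closure_le _).2 ?_)
  · rintro _ ⟨w, hw : w.v % 3 = 0, rfl⟩
    rw [(pw_val w).2.2, hw, pow_zero, mul_one]
    exact mul_mem (mul_mem (pow_mem x_mem.1 _) (pow_mem x_mem.2.1 _)) (pow_mem x_mem.2.2 _)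
  · rintro _ (rfl | rfl | rfl)
    exacts [⟨_, rfl, vals.1⟩, ⟨_, rfl, vals.2.1⟩, ⟨_, rfl, vals.2.2.1⟩]

end MP

open MP

theorem mem_Jm {g : Sp} : g ∈ Jm ↔ ∃ a b c : Fin 3, g = x1 ^ a.1 * x2 ^ b.1 * x3 ^ c.1 := by
  refine ⟨fun h => ?_, fun ⟨a, b, c, e⟩ =>
    e ▸ mul_mem (mul_mem (pow_mem x_mem.1 _) (pow_mem x_mem.2.1 _)) (pow_mem x_mem.2.2 _)⟩
  obtain ⟨w, hw : w.v % 3 = 0, rfl⟩ := map_JW.ge h
  have := w.v_lt
  exact ⟨⟨w.v / 27, by omega⟩, ⟨w.v / 9 % 3, by omega⟩, ⟨w.v / 3 % 3, by omega⟩, by simpa [hw] using (pw_val w).2.2⟩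

theorem Jm_le : Jm ≤ Pm := map_JW ▸ range_pw ▸ map_le_range _ _

theorem mem_Pm {g : Sp} : g ∈ Pm ↔ ∃ a b c d : Fin 3, g = x1 ^ a.1 * x2 ^ b.1 * x3 ^ c.1 * sg ^ d.1 := by
  refine ⟨fun h => ?_, fun ⟨a, b, c, d, e⟩ =>
    e ▸ mul_mem (Jm_le (mem_Jm.2 ⟨a, b, c, rfl⟩)) (pow_mem (subset_closure (by simp)) _)⟩
  obtain ⟨w, rfl⟩ := range_pw.ge h
  have := w.v_lt
  exact ⟨⟨_, by omega⟩, ⟨_, by omega⟩, ⟨_, by omega⟩, ⟨_, by omega⟩, (pw_val w).2.2⟩

theorem mem_Jm_vals : x1 ∈ Jm ∧ x2 ∈ Jm ∧ x3 ∈ Jm ∧ c3 ∈ Jm ∧ x0 ∈ Jm :=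
  ⟨x_mem.1, x_mem.2.1, x_mem.2.2, vals.2.2.2.2.2.2.1 ▸ mul_mem x_mem.1 x_mem.2.1,
    vals.2.2.2.2.2.2.2 ▸ mul_mem (mul_mem x_mem.1 x_mem.2.1) x_mem.2.2⟩

theorem card_Jm : Nat.card Jm = 27 := by
  rw [← map_JW, card_map_of_injective pw_inj, JW, TG.card_sub]
  decide +kernel

theorem card_Pm : Nat.card Pm = 81 := by
  rw [← range_pw, ← Nat.card_congr (MonoidHom.ofInjective pw_inj).toEquiv, TG.card_eq]

theorem Pm_le : Pm ≤ N0 := (closure_le _).2 (Set.pair_subset (show x1 ∈ N0 by decide +kernel)
  (show sg ∈ N0 by decide +kernel))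

theorem sylow_Pm : IsSylowIn 3 Pm N1 := by
  refine ⟨Pm_le.trans N0_le, IsPGroup.of_card (n := 4) card_Pm, fun h => ?_⟩
  have := card_N1_dvd
  rw [← card_mul_relIndex' (Pm_le.trans N0_le), card_Pm] at this
  exact absurd ((mul_dvd_mul_left 81 h).trans this) (by norm_num)

theorem exists_conj {A : Subgroup Sp} (hA : A ≤ N1) (h3 : IsPGroup 3 A) : ∃ n ∈ N1, ∀ a ∈ A, n * a * n⁻¹ ∈ Pm := by
  obtain ⟨n, hn, h⟩ := sylow_Pm.exists_cj_le h3 hA
  exact ⟨n, hn, cj_le_iff.1 h⟩

theorem exp3_le {A : Subgroup Sp} (hA : A ≤ N1) (h3 : ∀ a ∈ A, a ^ 3 = 1) : Nat.card A ≤ 27 := by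
  obtain ⟨n, -, h⟩ := sylow_Pm.exists_cj_le (isPGroup_iff_mem.2 fun a ha => ⟨1, h3 a ha⟩) hA
  obtain ⟨k, hk, e⟩ := (Nat.dvd_prime_pow Nat.prime_three (m := 4)).1 (card_Pm ▸ card_dvd_of_le h :)
  rcases hk.eq_or_lt with rfl | hk
  · have := h3 _ (mem_cj.1 ((eq_of_le_of_card_ge h (by rw [e, card_Pm]; rfl)).ge
      (range_pw.le ⟨TG.o 28, rfl⟩)))
    rw [show n⁻¹ * pw (.o 28) * n = n⁻¹ * pw (.o 28) * n⁻¹⁻¹ by simp, conj_pow, conj_eq_one_iff, ← map_pow] at this
    exact absurd (pw_inj (this.trans (map_one pw).symm)) (by decide +kernel)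
  · rw [← card_cj n, e]
    exact Nat.pow_le_pow_right (by norm_num) (by omega : k ≤ 3)

theorem eq_Jm {A : Subgroup Sp} (hA : A ≤ Pm) (hc : ∀ a ∈ A, ∀ b ∈ A, a * b = b * a) (hn : 27 ≤ Nat.card A) :
    A = Jm := by
  refine eq_of_le_of_card_ge (fun a ha => ?_) (card_Jm ▸ hn)
  obtain ⟨s, rfl⟩ := range_pw.ge (hA ha)
  refine map_JW.le ⟨s, by_contra fun h => ?_, rfl⟩
  have h1 : A ≤ (Cx s).map pw := fun b hb => by
    obtain ⟨t, rfl⟩ := range_pw.ge (hA hb)
    exact ⟨t, mem_Cx.2 (pw_inj (by simpa using hc _ hb _ ha)), rfl⟩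
  have h2 := card_le_of_le h1
  rw [card_map_of_injective pw_inj, TG.card_subgroup _ _ fun _ => mem_Cx,
    (by decide +kernel : ∀ s : W, s.v % 3 ≠ 0 → TG.cnt (fun t => t * s = s * t) = 9) s h] at h2
  omega

theorem reps {x : Sp} (hx : x ∈ N1) (h1 : x ≠ 1) (h3 : x ^ 3 = 1) :
    ∃ n ∈ N1, n * x * n⁻¹ ∈ [x3, c3, x0, x0⁻¹] := by
  obtain ⟨g, hg, h⟩ := sylow_Pm.exists_conj_mem hx (isPGroup_zpowers_of_pow (k := 1) h3)
  obtain ⟨w, e⟩ := range_pw.ge h
  obtain ⟨h4, h5⟩ := (by decide +kernel : ∀ w : W, w ≠ 1 → w ^ 3 = 1 → Sp.o (tb nT w.v) ∈ N1 ∧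
    Sp.o (tb nT w.v) * pw w * (Sp.o (tb nT w.v))⁻¹ ∈ [x3, c3, x0, x0⁻¹]) w
    (fun h => h1 (conj_eq_one_iff.1 (e.symm.trans (h ▸ map_one pw))))
    (pw_inj (by rw [map_pow, e, conj_pow, h3]; simp))
  refine ⟨_, mul_mem h4 hg, ?_⟩
  simpa only [e, mul_assoc, _root_.mul_inv_rev] using h5

theorem fix_Jm {v : V8} (h : ∀ x ∈ Jm, x • v = v) : ∃ c : ZMod 3, v = c • v0 := by
  have k : ∀ x ∈ Jm, Nx x *ᵥ v = 0 := fun x hx => by rw [Nx_mulVec, h x hx, sub_self]
  have e : vecMulVec v0 (Pi.single 2 1) + dec 0x480012008800220000000000400010 * Nx x1 +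
    dec 0x400010008000200000000000800020 * Nx x2 + dec 0x100000001000000010000000000000 * Nx x3 = 1 := by
    decide +kernel
  have := congrArg (· *ᵥ v) e
  simp only [add_mulVec, ← mulVec_mulVec, k _ x_mem.1, k _ x_mem.2.1, k _ x_mem.2.2, mulVec_zero, add_zero,
    one_mulVec, vecMulVec_mulVec] at this
  exact ⟨_, this.symm.trans (op_smul_eq_smul _ _)⟩

theorem v0_im {x : Sp} (hx : x ∈ Jm) (h : Nx x * Nx x ≠ 0) : ∃ w, v0 = (Nx x * Nx x) *ᵥ w := by
  obtain ⟨w, hw, rfl⟩ := map_JW.ge hx
  rw [show Nx (pw w) = dec (tb pT w.v) - 1 by rw [← (pw_val w).1]; rfl] at h ⊢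
  obtain ⟨u, -, e⟩ := ((by decide +kernel : ∀ w : W, w.v % 3 = 0 → (dec (tb pT w.v) - 1) * (dec (tb pT w.v) - 1) = 0 ∨
    ∃ u ∈ ([![0, 1, 0, 0, 0, 0, 0, 0], ![0, 2, 0, 0, 0, 0, 0, 0], ![0, 0, 0, 0, 0, 0, 1, 1],
      ![0, 0, 0, 0, 0, 0, 2, 2]] : List V8), v0 = (dec (tb pT w.v) - 1) *ᵥ (dec (tb pT w.v) - 1) *ᵥ u) w hw).resolve_left h
  exact ⟨u, by rw [e, mulVec_mulVec]⟩

theorem aa_v0 : aa • v0 = v0 := by rw [smul_def]; decide +kernel

theorem cent_Pm {s : Sp} (hs : s ∈ Pm) (h : ∀ t ∈ Pm, t * s * t⁻¹ * s⁻¹ ∈ Rm) : s = 1 ∨ s = x0 ∨ s = x0⁻¹ := by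
  obtain ⟨w, rfl⟩ := range_pw.ge hs
  have k : ∀ t, t * w * t⁻¹ * w⁻¹ = 1 := fun t => (pw_val _).2.1 (by simpa using h _ (range_pw.le ⟨t, rfl⟩))
  rcases (by decide +kernel : ∀ w : W, (∀ t ∈ [TG.o 27, TG.o 1], t * w * t⁻¹ * w⁻¹ = 1) →
    w = 1 ∨ w = .o 39 ∨ w = .o 78) w fun t _ => k t with rfl | rfl | rfl
  exacts [.inl (map_one _), .inr (.inl vals.2.2.2.2.1), .inr (.inr vals.2.2.2.2.2.1)]

end CfsgLib.Rec3D
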