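import Cfsg.Agent.Lib.Rec3D.ModP

/-! The intersection of `Q` with a conjugate, in the model, ONE (plans/REC3D.md). -/

set_option autoImplicit false
set_option maxRecDepth 100000
set_option linter.unusedSectionVars false
set_option linter.unusedVariables false

namespace CfsgLib.Rec3D

open Subgroup Cfsg CfsgLib.Tech CfsgLib.W2 CfsgLib.Rec3B Matrix
open CfsgLib.U43 (SL)

namespace On

theorem three : (3 : ZMod 3) = 0 := rfl

variable {x : Sp} {h0 : He} {E : Subgroup He}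

theorem mem_Dx {h : He} : h ∈ Dx x h0 ↔ x • h.v = h.v ∧ B0 h0.v h.v = 0 := by
  change h0 * x • h = h * h0 ↔ _
  rw [He.ext_iff]
  simp only [He.mul_v, He.mul_c, He.smul_v, He.smul_c]
  rw [add_comm h.v, add_right_inj]
  refine and_congr_right fun e => ?_
  rw [e, B0_swap h0.v]
  exact ⟨fun e => by linear_combination e + B0 h0.v h.v * three, fun e => by linear_combination -2 * e⟩

theorem B0_N {k : V8} (hk : x • k = k) (w : V8) : B0 k (x • w - w) = 0 := by
  rw [map_sub, sub_eq_zero]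
  conv_lhs => rw [← hk, B0_smul]

theorem exists_N {w : V8} (h : ∀ k, x • k = k → B0 k w = 0) : ∃ u, x • u - u = w := by
  have := Fact.mk Nat.prime_three
  have hk : ∀ k, k ∈ LinearMap.ker (toLin' (Nx x)) ↔ x • k = k := fun k => by
    rw [LinearMap.mem_ker, toLin'_apply, Nx_mulVec, sub_eq_zero]
  have e : LinearMap.range (toLin' (Nx x)) = LinearMap.BilinForm.orthogonal B0 (LinearMap.ker (toLin' (Nx x))) := by
    refine Submodule.eq_of_le_of_finrank_eq ?_ ?_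
    · rintro _ ⟨u, rfl⟩ k e
      rw [toLin'_apply, Nx_mulVec]
      exact B0_N ((hk k).1 e) u
    · rw [LinearMap.BilinForm.finrank_orthogonal ⟨fun v => B0_nondeg, fun v e => B0_nondeg fun w => by
        rw [B0_swap, e, neg_zero]⟩, ← LinearMap.finrank_range_add_finrank_ker (toLin' (Nx x)), Nat.add_sub_cancel]
  obtain ⟨u, hu⟩ := e.ge fun k e => h k ((hk k).1 e)
  exact ⟨u, by rwa [toLin'_apply, Nx_mulVec] at hu⟩

theorem card_le (x : Sp) (h0 : He) : Nat.card (Dx x 1) ≤ 3 * Nat.card (Dx x h0) := by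
  let β : He →* Multiplicative (ZMod 3) := MonoidHom.mk' (fun h => Multiplicative.ofAdd (B0 h0.v h.v)) (by simp)
  have e : Dx x h0 = β.ker ⊓ Dx x 1 := Subgroup.ext fun h => by
    rw [mem_inf, mem_Dx, mem_Dx, and_comm]; simp [β]
  rw [← card_mul_relIndex' (e.le.trans inf_le_right), mul_comm, e, inf_relIndex_right, relIndex_ker]
  exact Nat.mul_le_mul_right _ ((card_le_card_group _).trans (by simp))

theorem le_card {d : ℕ} (f : (Fin d → ZMod 3) → V8) (hf : Function.Injective f) (h : ∀ p, x • f p = f p) :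
    3 ^ d * 3 ≤ Nat.card (Dx x 1) := by
  have := Nat.card_le_card_of_injective (fun p : (Fin d → ZMod 3) × ZMod 3 =>
    (⟨⟨f p.1, p.2⟩, mem_Dx.2 ⟨h _, by simp⟩⟩ : Dx x 1)) fun p q e =>
      Prod.ext (hf (congrArg (fun a => a.1.v) e)) (congrArg (fun a => a.1.c) e)
  simpa using this

theorem Dx_eq (h : ∀ k, x • k = k → B0 k h0.v = 0) : Dx x h0 = Dx x 1 := Subgroup.ext fun a => by
  rw [mem_Dx, mem_Dx]
  exact and_congr_right fun e => by rw [B0_swap, h _ e]; simp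

variable (h : OM x h0 E)
include h

theorem eq_one {e : He} (he : e ∈ E) (h1 : e.v = 0) : e = 1 := by
  obtain ⟨v, c⟩ := e
  obtain rfl : v = 0 := h1
  rcases (by decide : ∀ c : ZMod 3, c = 0 ∨ c = 1 ∨ c = -1) c with rfl | rfl | rfl
  · rfl
  · exact (h.z he).elim
  · exact (h.z ((show zz = (⟨0, -1⟩ : He)⁻¹ from He.ext (by simp [zz]) rfl) ▸ inv_mem he)).elim

theorem fix {e : He} (he : e ∈ E) : x • e.v = e.v := (mem_Dx.1 (h.le he)).1

theorem rad {e k : He} (he : e ∈ E) (hk : k ∈ Dx x h0) : B0 k.v e.v = 0 := by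
  have h1 := h.inv 1 (one_mem _) (by simp) k (by rw [one_smul]; exact Eq.symm hk) e he
  rw [one_smul] at h1
  have := eq_one h (mul_mem h1 (inv_mem he)) (by simp)
  rw [He.cmt] at this
  exact congrArg He.c this

theorem card_three (y : V8) (hy : ∀ e ∈ E, B0 e.v y = 0 → e = 1) : Nat.card E ≤ 3 :=
  (Nat.card_le_card_of_injective (fun e : E => B0 e.1.v y) fun a b e => Subtype.ext (inv_mul_eq_one.1
    (hy _ (mul_mem (inv_mem a.2) b.2) (by simpa [neg_add_eq_zero] using e)))).trans (by simp)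

theorem star' {e : He} (he : e ∈ E) (w : V8) (h1 : e.v = w - x • w) (h2 : e.c = B0 (w - h0.v) (x • w)) : e = 1 := by
  have : e = ⟨w, 0⟩ * (h0 * x • (⟨w, 0⟩ : He)⁻¹ * h0⁻¹) := He.ext (by simp [h1, sub_eq_add_neg]) (by
    simp only [h2, He.mul_c, He.mul_v, He.smul_c, He.smul_v, He.inv_c, He.inv_v, map_add, map_neg, map_sub,
      LinearMap.add_apply, LinearMap.neg_apply, LinearMap.sub_apply, B0_self, smul_neg, B0_swap h0.v (x • w)]
    linear_combination -B0 h0.v (x • w) * three)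
  rw [this] at he ⊢
  exact h.star _ he

theorem caseA {k : V8} (hk : x • k = k) (hk' : B0 k h0.v ≠ 0) {e : He} (he : e ∈ E) {w : V8}
    (h1 : e.v = x • w - w) : e = 1 := by
  have := Fact.mk Nat.prime_three
  refine star' h he (-w + ((e.c - B0 (-w - h0.v) (x • -w)) / B0 k h0.v) • k) ?_ ?_
  · rw [h1, smul_add, smul_comm, hk, smul_neg]; abel
  · generalize ht : (e.c - B0 (-w - h0.v) (x • -w)) / B0 k h0.v = t
    rw [div_eq_iff hk'] at ht
    have e1 := B0_N hk w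
    rw [smul_add, smul_comm, hk]
    simp only [map_add, map_neg, map_sub, map_smul, LinearMap.add_apply, LinearMap.neg_apply, LinearMap.sub_apply,
      LinearMap.smul_apply, B0_self, smul_neg, smul_eq_mul, B0_swap k w, B0_swap k h0.v] at ht e1 ⊢
    linear_combination ht + t * e1

theorem act {u : V8} (hu : x • u - u = h0.v) {r : Sp} (hr : r ∈ Rm) (hc : r * x = x * r) {e : He} (he : e ∈ E) :
    (⟨r • e.v, e.c + B0 (r • u - u) (r • e.v)⟩ : He) ∈ E := by
  have e1 : x • r • u = r • x • u := by rw [← mul_smul, ← hc, mul_smul]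
  have := h.inv r hr hc ⟨r • u - u, 0⟩ (He.ext (by
    simp only [He.mul_v, He.smul_v, ← hu, smul_sub, e1]; abel) (by
    have e2 := B0_smul x u (r • u)
    have e3 := B0_smul r u (x • u)
    simp only [He.mul_c, He.smul_c, He.smul_v, ← hu, smul_sub, e1, map_sub, LinearMap.sub_apply, B0_self,
      B0_swap u (r • u), B0_swap u (x • u)] at e2 e3 ⊢
    linear_combination e2 - e3)) e he
  convert this using 1
  refine He.ext (by simp; abel) ?_
  simp only [He.mul_c, He.mul_v, He.smul_c, He.smul_v, He.inv_c, He.inv_v, map_add, map_neg,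
    LinearMap.add_apply, B0_self, B0_swap (r • u - u) (r • e.v)]
  linear_combination B0 (r • u - u) (r • e.v) * three

theorem caseB {u : V8} (hu : x • u - u = h0.v) {e : He} (he : e ∈ E) {w : V8} (h1 : e.v = x • w - w)
    (h2 : B0 w (x • w) = 0) : e = 1 := by
  have e1 := congrArg He.c (eq_one h (mul_mem he (act h hu ⟨_, rm_vals.1⟩ (ng_comm x).symm he)) (by simp [ng_smul]))
  refine star' h he (-w) (by rw [h1, smul_neg]; abel) ?_
  have e2 := B0_smul x u w
  simp only [He.mul_c, ng_smul, h1, ← hu, map_add, map_neg, map_sub, LinearMap.neg_apply, LinearMap.sub_apply,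
    B0_self, smul_neg, He.one_c, B0_swap w (x • w)] at e1 e2 ⊢
  linear_combination -e1 - h2 - e2 + (e.c + B0 u (x • w) - B0 u w) * three

theorem sq_one {e : He} (he : e ∈ E) (w : V8) (h1 : e.v = (Nx x * Nx x) *ᵥ w) :
    e = 1 := by
  have e1 : e.v = x • (Nx x *ᵥ w) - Nx x *ᵥ w := by rw [h1, ← mulVec_mulVec, Nx_mulVec]
  by_cases hB : ∀ k, x • k = k → B0 k h0.v = 0
  · obtain ⟨u, hu⟩ := exists_N hB
    refine caseB h hu he e1 ?_
    have := B0_N (fix h he) w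
    rw [← Nx_mulVec, B0_swap, neg_eq_zero, e1, map_sub, B0_self, sub_zero] at this
    exact this
  · push Not at hB
    obtain ⟨k, hk, hk'⟩ := hB
    exact caseA h hk hk' he e1

/-- an isotropic fixed space -/
theorem botA (hi : ∀ v w : V8, x • v = v → x • w = w → B0 v w = 0) {k : V8} (hk : x • k = k)
    (hk' : B0 k h0.v ≠ 0) : E = ⊥ := eq_bot_iff.2 fun e he => by
  obtain ⟨w, hw⟩ := exists_N fun k hk => hi k e.v hk (fix h he)
  exact caseA h hk hk' he hw.symm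

omit h

theorem smul_x3 (v : V8) : x3 • v = ![v 1, -v 0 - v 1, v 3, -v 2 - v 3, v 5, -v 4 - v 5, v 7, -v 6 - v 7] := by
  have : mat x3 = !![0, 1, 0, 0, 0, 0, 0, 0; -1, -1, 0, 0, 0, 0, 0, 0; 0, 0, 0, 1, 0, 0, 0, 0; 0, 0, -1, -1, 0, 0, 0, 0;
      0, 0, 0, 0, 0, 1, 0, 0; 0, 0, 0, 0, -1, -1, 0, 0; 0, 0, 0, 0, 0, 0, 0, 1; 0, 0, 0, 0, 0, 0, -1, -1] := by
    decide +kernel
  rw [smul_def, this]
  ext i
  fin_cases i <;> simp [mulVec, dotProduct, Fin.sum_univ_eight, sub_eq_add_neg]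

theorem smul_c3 (v : V8) : c3 • v = ![v 0, v 1, v 6, v 7, v 2, v 3, v 4, v 5] := by
  have : mat c3 = !![1, 0, 0, 0, 0, 0, 0, 0; 0, 1, 0, 0, 0, 0, 0, 0; 0, 0, 0, 0, 0, 0, 1, 0; 0, 0, 0, 0, 0, 0, 0, 1;
      0, 0, 1, 0, 0, 0, 0, 0; 0, 0, 0, 1, 0, 0, 0, 0; 0, 0, 0, 0, 1, 0, 0, 0; 0, 0, 0, 0, 0, 1, 0, 0] := by
    decide +kernel
  rw [smul_def, this]
  ext i
  fin_cases i <;> simp [mulVec, dotProduct, Fin.sum_univ_eight]

theorem smul_x0 (v : V8) : x0 • v = ![v 1, -v 0 - v 1, v 7, -v 6 - v 7, v 3, -v 2 - v 3, v 5, -v 4 - v 5] := by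
  have : mat x0 = !![0, 1, 0, 0, 0, 0, 0, 0; -1, -1, 0, 0, 0, 0, 0, 0; 0, 0, 0, 0, 0, 0, 0, 1; 0, 0, 0, 0, 0, 0, -1, -1;
      0, 0, 0, 1, 0, 0, 0, 0; 0, 0, -1, -1, 0, 0, 0, 0; 0, 0, 0, 0, 0, 1, 0, 0; 0, 0, 0, 0, -1, -1, 0, 0] := by
    decide +kernel
  rw [smul_def, this]
  ext i
  fin_cases i <;> simp [mulVec, dotProduct, Fin.sum_univ_eight, sub_eq_add_neg]

def k3 (p : Fin 4 → ZMod 3) : V8 := ![p 0, p 0, p 1, p 1, p 2, p 2, p 3, p 3]
def kc (p : Fin 4 → ZMod 3) : V8 := ![p 0, p 1, p 2, p 3, p 2, p 3, p 2, p 3]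
def k0 (p : Fin 3 → ZMod 3) : V8 := ![p 0, p 0, p 1, p 2, p 2, -p 1 - p 2, -p 1 - p 2, p 1]

theorem fix_x3 {v : V8} : x3 • v = v ↔ ∃ p, v = k3 p := by
  rw [smul_x3]
  refine ⟨fun e => ⟨![v 0, v 2, v 4, v 6], ?_⟩, ?_⟩
  · ext i
    fin_cases i
    exacts [rfl, show v 1 = v 0 from congrFun e 0, rfl, show v 3 = v 2 from congrFun e 2, rfl,
      show v 5 = v 4 from congrFun e 4, rfl, show v 7 = v 6 from congrFun e 6]
  · rintro ⟨p, rfl⟩
    revert p
    decide +kernel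

theorem fix_c3 {v : V8} : c3 • v = v ↔ ∃ p, v = kc p := by
  rw [smul_c3]
  refine ⟨fun e => ⟨![v 0, v 1, v 2, v 3], ?_⟩, ?_⟩
  · ext i
    fin_cases i
    exacts [rfl, rfl, rfl, rfl, (show v 2 = v 4 from congrFun e 4).symm, (show v 3 = v 5 from congrFun e 5).symm,
      show v 6 = v 2 from congrFun e 2, show v 7 = v 3 from congrFun e 3]
  · rintro ⟨p, rfl⟩
    rfl

theorem fix_x0 {v : V8} : x0 • v = v ↔ ∃ p, v = k0 p := by
  rw [smul_x0]
  refine ⟨fun e => ⟨![v 0, v 2, v 3], ?_⟩, ?_⟩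
  · have e5 : -v 2 - v 3 = v 5 := congrFun e 5
    ext i
    fin_cases i
    exacts [rfl, show v 1 = v 0 from congrFun e 0, rfl, rfl, (show v 3 = v 4 from congrFun e 4).symm, e5.symm,
      (show v 5 = v 6 from congrFun e 6).symm.trans e5.symm, show v 7 = v 2 from congrFun e 2]
  · rintro ⟨p, rfl⟩
    revert p
    decide +kernel

theorem k3_inj : Function.Injective k3 := fun p q e => funext fun i => by
  fin_cases i
  exacts [show p 0 = q 0 from congrFun e 0, show p 1 = q 1 from congrFun e 2, show p 2 = q 2 from congrFun e 4,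
    show p 3 = q 3 from congrFun e 6]

theorem kc_inj : Function.Injective kc := fun p q e => funext fun i => by
  fin_cases i
  exacts [show p 0 = q 0 from congrFun e 0, show p 1 = q 1 from congrFun e 1, show p 2 = q 2 from congrFun e 2,
    show p 3 = q 3 from congrFun e 3]

theorem k0_inj : Function.Injective k0 := fun p q e => funext fun i => by
  fin_cases i
  exacts [show p 0 = q 0 from congrFun e 0, show p 1 = q 1 from congrFun e 2, show p 2 = q 2 from congrFun e 3]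

/-- the conclusion -/
def Cc (x : Sp) (h0 : He) (E : Subgroup He) : Prop :=
  (∀ a ∈ Dx x h0, ∀ b ∈ Dx x h0, a * b = b * a) ∧ Nat.card (Dx x h0) = 27 * Nat.card E ∧
    (∀ e ∈ E, ∀ w, e.v = (Nx x * Nx x) *ᵥ w → e = 1) ∧ Nx x * Nx x ≠ 0

theorem not_x3 (h : OM x3 h0 E) : False := by
  have c1 := le_card k3 k3_inj fun p => fix_x3.2 ⟨p, rfl⟩
  have c2 := card_le x3 h0
  have c3 := h.card
  have hE : E ≠ ⊥ := fun e => by rw [e, card_bot] at c3; omega
  by_cases hB : ∀ k, x3 • k = k → B0 k h0.v = 0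
  · obtain ⟨u, hu⟩ := exists_N hB
    let S : AddSubgroup V8 :=
      { carrier := {v | ∃ e ∈ E, e.v = v}
        zero_mem' := ⟨1, one_mem _, rfl⟩
        add_mem' := fun ⟨a, ha, e⟩ ⟨b, hb, e'⟩ => ⟨a * b, mul_mem ha hb, e ▸ e' ▸ rfl⟩
        neg_mem' := fun ⟨a, ha, e⟩ => ⟨a⁻¹, inv_mem ha, e ▸ rfl⟩ }
    have hS : ∀ r ∈ [uu, vv, t1, t2], ∀ v ∈ S, r • v ∈ S := fun r hr _ ⟨e, he, e'⟩ =>
      have k := (by decide +kernel : ∀ r ∈ [uu, vv, t1, t2], r ∈ Rm ∧ r * x3 = x3 * r) r hr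
      ⟨_, act h hu k.1 k.2 he, e' ▸ rfl⟩
    have n1 : k3 ![1, 1, 1, 0] ∉ S := fun ⟨e, he, e'⟩ => by
      rw [caseB h hu he (w := ![0, 1, 0, 1, 0, 1, 0, 0]) (by rw [e', smul_x3]; decide +kernel)
        (by rw [smul_x3, B0_eq]; decide +kernel)] at e'
      exact absurd e' (by decide +kernel)
    have key : ∀ p, k3 p ∈ S → p 0 = 0 := fun p hp => by
      have a1 := add_mem hp (hS uu (by simp) _ hp)
      have a2 := add_mem a1 (hS vv (by simp) _ a1)
      have a3 := add_mem (add_mem a2 (hS t1 (by simp) _ a2)) (hS t2 (by simp) _ a2)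
      rw [(by decide +kernel : ∀ p, k3 p + uu • k3 p + vv • (k3 p + uu • k3 p) = k3 ![p 0, 0, 0, 0]) p] at a3
      generalize p 0 = c at a3
      rcases (by decide : ∀ c : ZMod 3, c = 0 ∨ c = 1 ∨ c = -1) c with rfl | rfl | rfl
      · rfl
      · exact (n1 (by convert a3 using 1; decide +kernel)).elim
      · exact (n1 (by convert neg_mem a3 using 1; decide +kernel)).elim
    refine hE (eq_bot_iff.2 fun e he => eq_one h he ?_)
    obtain ⟨p, hp⟩ := fix_x3.1 (fix h he)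
    have b0 : k3 p ∈ S := ⟨e, he, hp⟩
    have b1 := hS t1 (by simp) _ b0
    have b2 := hS t2 (by simp) _ b0
    have b3 := hS t2 (by simp) _ b1
    obtain ⟨d1, d2, d3⟩ := (by decide +kernel : ∀ p, t1 • k3 p = k3 ![p 2, p 3, p 0, p 1] ∧
      t2 • k3 p = k3 ![p 1, p 0, p 3, p 2] ∧ t2 • t1 • k3 p = k3 ![p 3, p 2, p 1, p 0]) p
    rw [hp, k3, key _ b0, show p 1 = 0 from key _ (d2 ▸ b2), show p 2 = 0 from key _ (d1 ▸ b1),
      show p 3 = 0 from key _ (d3 ▸ b3)]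
    decide +kernel
  · push Not at hB
    obtain ⟨k, hk, hk'⟩ := hB
    refine hE (botA h (fun v w hv hw => ?_) hk hk')
    obtain ⟨p, rfl⟩ := fix_x3.1 hv
    obtain ⟨q, rfl⟩ := fix_x3.1 hw
    rw [B0_eq]
    simp [k3, mul_comm]

theorem cc_c3 (h : OM c3 h0 E) : Cc c3 h0 E := by
  have c1 := le_card kc kc_inj fun p => fix_c3.2 ⟨p, rfl⟩
  have c2 := card_le c3 h0
  have c3' := h.card
  have s := fun e he => sq_one h (e := e) he
  have hB : ∀ p q, B0 (kc p) (kc q) = p 0 * q 1 - p 1 * q 0 := fun p q => by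
    rw [B0_eq]
    simp [kc]
    linear_combination (p 2 * q 3 - p 3 * q 2) * three
  have s' : ∀ e ∈ E, ∀ p, e.v = kc p → p 0 = 0 → p 1 = 0 → e = 1 := fun e he p hp a b =>
    s e he ![0, 0, p 2, p 3, 0, 0, 0, 0] (by
      rw [hp, kc, a, b, ← mulVec_mulVec, Nx_mulVec, Nx_mulVec]
      generalize p 2 = c
      generalize p 3 = d
      revert c d
      decide +kernel)
  obtain ⟨e, he, e1⟩ : ∃ e ∈ E, e ≠ 1 := by
    by_contra! e
    rw [(eq_bot_iff_forall _).2 e, card_bot] at c3'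
    omega
  obtain ⟨p, hp⟩ := fix_c3.1 (fix h he)
  have hp' : ¬ (p 0 = 0 ∧ p 1 = 0) := fun a => e1 (s' e he p hp a.1 a.2)
  have c4 := card_three h (kc ![p 1, -p 0, 0, 0]) fun e' he' a => by
    obtain ⟨q, hq⟩ := fix_c3.1 (fix h he')
    have b := rad h he (h.le he')
    rw [hq, hp, hB] at b
    rw [hq, hB] at a
    have := (by decide +kernel : ∀ a b c d : ZMod 3, ¬ (a = 0 ∧ b = 0) → c * b - d * a = 0 → c * -a - d * b = 0 →
      c = 0 ∧ d = 0) _ _ _ _ hp' b a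
    exact s' e' he' q hq this.1 this.2
  refine ⟨fun a ha b hb => He.comm_iff.2 ?_, by omega, s, by decide +kernel⟩
  obtain ⟨q, hq⟩ := fix_c3.1 (mem_Dx.1 ha).1
  obtain ⟨r, hr⟩ := fix_c3.1 (mem_Dx.1 hb).1
  have b1 := rad h he ha
  have b2 := rad h he hb
  rw [hq, hp, hB] at b1
  rw [hr, hp, hB] at b2
  rw [hq, hr, hB]
  exact (by decide +kernel : ∀ a b c d e f : ZMod 3, ¬ (a = 0 ∧ b = 0) → c * b - d * a = 0 → e * b - f * a = 0 →
    c * f - d * e = 0) _ _ _ _ _ _ hp' b1 b2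

theorem cc_x0 (h : OM x h0 E) (hf : ∀ v : V8, x • v = v ↔ x0 • v = v) (h2 : Nx x * Nx x = Nx x0 * Nx x0) :
    Cc x h0 E := by
  have c1 := le_card (x := x) k0 k0_inj fun p => (hf _).2 (fix_x0.2 ⟨p, rfl⟩)
  have c2 := card_le x h0
  have c3' := h.card
  have s := fun e he => sq_one h (e := e) he
  have hi : ∀ v w : V8, x • v = v → x • w = w → B0 v w = 0 := fun v w hv hw => by
    obtain ⟨p, rfl⟩ := fix_x0.1 ((hf _).1 hv)
    obtain ⟨q, rfl⟩ := fix_x0.1 ((hf _).1 hw)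
    rw [B0_eq]
    simp [k0]
    linear_combination (p 1 * q 2 - p 2 * q 1) * three
  refine ⟨fun a ha b hb => He.comm_iff.2 (hi _ _ (mem_Dx.1 ha).1 (mem_Dx.1 hb).1), ?_, s,
    h2 ▸ by decide +kernel⟩
  by_cases hB : ∀ k, x • k = k → B0 k h0.v = 0
  · have c4 := card_three h ![0, 1, 0, 0, 0, 0, 0, 0] fun e he a => by
      obtain ⟨p, hp⟩ := fix_x0.1 ((hf _).1 (fix h he))
      refine s e he ![0, 0, p 1, p 2, 0, 0, 0, 0] ?_
      rw [hp, B0_eq] at a
      rw [h2, hp, k0, show p 0 = 0 by simpa [k0] using a, ← mulVec_mulVec, Nx_mulVec, Nx_mulVec]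
      generalize p 1 = c
      generalize p 2 = d
      revert c d
      decide +kernel
    rw [Dx_eq hB] at c3' ⊢
    omega
  · push Not at hB
    obtain ⟨k, hk, hk'⟩ := hB
    rw [botA h hi hk hk', card_bot] at c3' ⊢
    omega

theorem card_comap (n : Sp) (K : Subgroup He) :
    Nat.card (K.comap (MulDistribMulAction.toMonoidHom He n)) = Nat.card K :=
  Nat.card_congr (Equiv.subtypeEquiv (MulAction.toPerm n) fun _ => Iff.rfl)

theorem Dx_conj (n : Sp) : Dx (n * x * n⁻¹) (n • h0) = (Dx x h0).comap (MulDistribMulAction.toMonoidHom He n⁻¹) :=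
  Subgroup.ext fun a => by
    change n • h0 * (n * x * n⁻¹) • a = a * n • h0 ↔ h0 * x • n⁻¹ • a = n⁻¹ • a * h0
    rw [← (MulAction.injective n).eq_iff (a := h0 * _), smul_mul', smul_mul', smul_inv_smul, mul_smul, mul_smul]

theorem conj (h : OM x h0 E) {n : Sp} (hn : n ∈ N1) :
    OM (n * x * n⁻¹) (n • h0) (E.comap (MulDistribMulAction.toMonoidHom He n⁻¹)) where
  z e := h.z (smul_zz n⁻¹ ▸ e)
  le := Dx_conj n ▸ comap_mono h.le
  inv r hr hc k hk e he := by
    have := h.inv (n⁻¹ * r * n⁻¹⁻¹) (conj_Rm (inv_mem hn) hr) (by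
      rw [show x = n⁻¹ * (n * x * n⁻¹) * n⁻¹⁻¹ by group, conj_mul, conj_mul, hc]) (n⁻¹ • k) (by
      have := congrArg (n⁻¹ • ·) hk
      simpa only [smul_mul', mul_smul, inv_smul_smul, inv_inv] using this) _ he
    change n⁻¹ • _ ∈ E
    simpa only [smul_mul', smul_inv', mul_smul, inv_inv, MulDistribMulAction.toMonoidHom_apply,
      smul_inv_smul] using this
  star a ha := by
    have e : n⁻¹ • (a * (n • h0 * (n * x * n⁻¹) • a⁻¹ * (n • h0)⁻¹)) =
        n⁻¹ • a * (h0 * x • (n⁻¹ • a)⁻¹ * h0⁻¹) := by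
      simp only [smul_mul', smul_inv', mul_smul, inv_smul_smul]
    have := h.star (n⁻¹ • a) (by rw [← e]; exact ha)
    rwa [← e, smul_eq_iff_eq_inv_smul, smul_one] at this
  card := by rw [Dx_conj, card_comap, card_comap]; exact h.card

theorem cc_conj {n : Sp} (h : Cc (n * x * n⁻¹) (n • h0) (E.comap (MulDistribMulAction.toMonoidHom He n⁻¹))) :
    Cc x h0 E := by
  obtain ⟨h1, h2, h3, h4⟩ := h
  have e : Nx (n * x * n⁻¹) * Nx (n * x * n⁻¹) = mat n * (Nx x * Nx x) * mat n⁻¹ := by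
    have e1 : Nx (n * x * n⁻¹) = mat n * Nx x * mat n⁻¹ := by
      rw [Nx, Nx, mul_sub, sub_mul, mul_one, ← map_mul, ← map_mul, ← map_mul, mul_inv_cancel, map_one]
    rw [e1, mul_assoc, ← mul_assoc (mat n⁻¹), ← mul_assoc (mat n⁻¹), ← map_mul, inv_mul_cancel, map_one, one_mul]
    simp only [mul_assoc]
  rw [Dx_conj] at h1 h2
  rw [card_comap, card_comap] at h2
  refine ⟨fun a ha b hb => MulAction.injective n ?_, h2, fun a ha w hw => ?_, fun a => h4 (by rw [e, a]; simp)⟩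
  · simp only [smul_mul']
    exact h1 _ (by simpa using ha) _ (by simpa using hb)
  · have := h3 (n • a) (by simpa using ha) (n • w) (by
      rw [e, He.smul_v, hw, ← mulVec_mulVec _ (mat n * _), ← smul_def n⁻¹, inv_smul_smul, smul_def, mulVec_mulVec])
    rwa [smul_eq_iff_eq_inv_smul, smul_one] at this

end On

open On in
theorem OM.main {x : Sp} {h0 : He} {E : Subgroup He} (h : OM x h0 E) (hx : x ∈ N1) (h1 : x ≠ 1) (h3 : x ^ 3 = 1) :
    (∀ a ∈ Dx x h0, ∀ b ∈ Dx x h0, a * b = b * a) ∧ Nat.card (Dx x h0) = 27 * Nat.card E ∧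
      (∀ e ∈ E, ∀ w, e.v = (Nx x * Nx x) *ᵥ w → e = 1) ∧ Nx x * Nx x ≠ 0 := by
  obtain ⟨n, hn, e⟩ := reps hx h1 h3
  have k := conj h hn
  refine cc_conj (n := n) ?_
  simp only [List.mem_cons, List.not_mem_nil, or_false] at e
  rcases e with e | e | e | e <;> rw [e] at k ⊢
  · exact (not_x3 k).elim
  · exact cc_c3 k
  · exact cc_x0 k (fun _ => Iff.rfl) rfl
  · exact cc_x0 k (fun _ => inv_smul_eq_iff.trans eq_comm) (by decide +kernel)

end CfsgLib.Rec3D
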