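import Cfsg.Agent.Lib.Rec3D.Two
import Cfsg.Agent.Lib.Rec3D.ModK

/-! The involution `a`, THREE (plans/REC3D.md). -/

set_option autoImplicit false
set_option maxRecDepth 100000
set_option linter.unusedSectionVars false
set_option linter.unusedVariables false

namespace CfsgLib.Rec3D

open Subgroup Cfsg CfsgLib.Tech CfsgLib.W2 CfsgLib.Rec3B Matrix
open CfsgLib.U43 (SL)

open Es FT

variable {G : Type*} [Group G] [Finite G] {φ φ' : He →* G} {ψ ψ' : G → Sp} {ρ ρ' g c d a y : G}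

namespace HS

variable (h : HS φ ψ ρ)
include h

theorem exists_p (az : a ∈ Cx (φ zz)) (a2 : a * a = 1) (yQ : y ∈ φ.range) (yn : y ∉ zpowers (φ zz)) (ya : y ∈ Cx a) :
    ∃ p ∈ φ.range, p ∈ Cx a ∧ p * y * p⁻¹ = φ zz * y := by
  obtain ⟨p, hp, hn⟩ : ∃ p ∈ φ.range ⊓ Cx a, p * y ≠ y * p := by
    by_contra hc
    push Not at hc
    exact yn (h.ez.cen y yQ (h.hz.cent_of (h.norm_Q az) az (by rw [a2]; exact one_mem _) hc fun n hn =>
      (h.hz.comm_pn az y ⟨yQ, ya⟩ n hn).symm))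
  rcases three_cases (z3 φ) (h.hz.cmt p hp.1 y yQ) with e | e | e
  · exact absurd (mem_Cx.1 (Cx_comm.1 (Cx_comm.1 (cmt_one e)))) hn
  · exact ⟨p, hp.1, hp.2, by rw [← e]; group⟩
  · refine ⟨p⁻¹, inv_mem (mem_inf.1 hp).1, inv_mem (mem_inf.1 hp).2, ?_⟩
    have k := mem_Cx'.1 (inv_mem (range_le φ hp.1))
    calc _ = p⁻¹ * (φ zz * (p * y * p⁻¹ * y⁻¹) * y) * p⁻¹⁻¹ := by rw [e]; group
      _ = p⁻¹ * φ zz * p⁻¹⁻¹ * y * (p⁻¹ * (y⁻¹ * y) * p) := by group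
      _ = _ := by rw [k]; group

theorem z_mem (h' : HS φ' ψ' ρ') (yQ : φ' zz ∈ φ.range) (yn : φ' zz ∉ zpowers (φ zz)) : φ zz ∈ φ'.range := by
  by_contra zR
  have c1 := h'.exp_card (D := φ.range ⊓ Cx (φ' zz)) inf_le_right fun q hq => h.mq.exp q hq.1
  rw [inf_assoc, inf_eq_right.2 (range_le φ'), h.mq.cc _ yQ yn] at c1
  have ab : ∀ u ∈ φ.range ⊓ φ'.range, φ.range ⊓ φ'.range ⊔ zpowers (φ zz) ≤ Cx u := fun u hu =>
    sup_le (fun v hv => cmt_one (eq_one_of (z3 φ) (h.hz.cmt v hv.1 u hu.1) (mul_mem (mul_mem (mul_mem hv.2 hu.2)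
      (inv_mem (mem_inf.1 hv).2)) (inv_mem (mem_inf.1 hu).2)) zR)) (zpowers_le.2 (Cx_comm.1 (range_le φ hu.1)))
  have c2 := h.mq.ab (φ.range ⊓ φ'.range ⊔ zpowers (φ zz)) (sup_le inf_le_left h.Z_le) fun u hu v hv => mem_Cx.1
    ((sup_le (fun w hw => Cx_comm.1 (ab w hw hv)) (zpowers_le.2 (Cx_comm.1 (range_le φ (sup_le inf_le_left h.Z_le hv)))) :
      _ ≤ Cx v) hu)
  have c3 := eq_of_le_of_card_ge (le_sup_left : φ.range ⊓ φ'.range ≤ _ ⊔ zpowers (φ zz)) (by omega)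
  exact zR (c3.ge (mem_sup_right (mem_zpowers _))).2

theorem card_D (h' : HS φ' ψ' ρ') (yQ : φ' zz ∈ φ.range) (yn : φ' zz ∉ zpowers (φ zz)) :
    27 ≤ Nat.card (h.img (φ'.range ⊓ Cx (φ zz))) := by
  have ci := h.card_img (D := φ'.range ⊓ Cx (φ zz)) inf_le_right
  rw [inf_assoc, inf_eq_right.2 (range_le φ), h'.mq.cc _ (h.z_mem h' yQ yn) fun e =>
    yn (mem_of_ne (z3 φ') e (mem_zpowers _) h.z1)] at ci
  have c2 := h.mq.ab (φ'.range ⊓ φ.range) inf_le_right fun u hu v hv => mem_Cx.1 (cmt_one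
    (eq_one_of (z3 φ') (h'.hz.cmt u hu.1 v hv.1) (h.hz.cmt u hu.2 v hv.2) yn))
  by_contra hn
  have := Nat.mul_le_mul c2 (Nat.le_of_lt_succ (not_le.1 hn))
  omega

theorem ha (h' : HS φ' ψ' ρ') (yQ : φ' zz ∈ φ.range) (yn : φ' zz ∉ zpowers (φ zz))
    (hP : h.img (φ'.range ⊓ Cx (φ zz)) ≤ Pm) (eK : h.Im = N0 ∨ h.Im = N1) : ∃ a, HA φ ψ ρ a h.Im := by
  have le : φ'.range ⊓ Cx (φ zz) ≤ Cx (φ zz) := inf_le_right
  have zR := h.z_mem h' yQ yn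
  have eJ := eq_Jm hP (fun s hs t ht => by
    obtain ⟨g, hg, rfl⟩ := (h.mem_img le).1 hs
    obtain ⟨k, hk, rfl⟩ := (h.mem_img le).1 ht
    rw [← mul_inv_eq_one, _root_.mul_inv_rev, ← mul_assoc, ← h.ψcmt hg.2 hk.2, h.ker_iff (le (mul_mem (mul_mem
      (mul_mem hg hk) (inv_mem hg)) (inv_mem hk)))]
    exact zpowers_le.2 yQ (h'.hz.cmt g hg.1 k hk.1)) (h.card_D h' yQ yn)
  obtain ⟨b, hb⟩ := yQ
  obtain ⟨c, hc⟩ := fix_Jm (v := b.v) fun x hx => by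
    obtain ⟨g, hg, rfl⟩ := (h.mem_img le).1 (eJ.ge hx)
    exact h.fix_v hg.2 (hb ▸ range_le φ' hg.1)
  obtain ⟨a, az, aρ, ψa, a2⟩ := h.lift2 (s := aa) (eK.elim (fun e => e.ge mems.1) fun e => e.ge (N0_le mems.1))
    (m := 2) (by norm_num) (by rw [sq, aa_sq])
  rw [sq] at a2
  have ay : a ∈ Cx (φ' zz) := mem_Cx'.2 (by
    rw [← hb, h.actX az aρ, ψa]
    exact congrArg φ (He.ext (by rw [He.smul_v, hc, smul_comm, aa_v0]) rfl))
  obtain ⟨q, hq, qa, eq⟩ := h.exists_p az a2 ⟨b, hb⟩ yn (Cx_comm.1 ay)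
  obtain ⟨p, hp, pa, ep⟩ := h'.exists_p ay a2 zR (fun e => yn (mem_of_ne (z3 φ') e (mem_zpowers _) h.z1))
    (Cx_comm.1 az)
  refine ⟨a, h, fun s => h.mem_Im, eK, az, aρ, ψa, a2, ⟨p, pa, ?_, fun e => yn ?_⟩, p * q * p, ?_, ?_⟩
  · rw [ep]; exact mul_mem ⟨b, hb⟩ ⟨zz, rfl⟩
  · rw [ep] at e
    simpa using mul_mem e (inv_mem (mem_zpowers _))
  · have m : p ∈ closure {g | g ∈ Cx a ∧ g ^ 3 = 1} := subset_closure ⟨pa, h'.mq.exp p hp⟩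
    exact mul_mem (mul_mem m (subset_closure ⟨qa, h.mq.exp q hq⟩)) m
  · have e1 := mem_Cx'.1 (range_le φ hq)
    have e2 := mem_Cx'.1 (range_le φ' hp)
    have cm : Commute (φ' zz) (φ zz) := mem_Cx.1 (range_le φ ⟨b, hb⟩)
    have y3 := z3 φ'
    have w3 := z3 φ
    generalize φ' zz = y at *
    generalize φ zz = z at *
    calc _ = p * (q * (p * z * p⁻¹) * q⁻¹) * p⁻¹ := by group
      _ = p * (q * y * q⁻¹ * (q * z * q⁻¹)) * p⁻¹ := by rw [ep]; group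
      _ = p * z * p⁻¹ * (p * y * p⁻¹) * (p * z * p⁻¹) := by rw [eq, e1]; group
      _ = y * (z * y) * (y * z) := by rw [ep, e2]; group
      _ = y * y * (z * y) * z := by rw [← cm.eq]; simp only [mul_assoc]; rw [← mul_assoc z y z, ← cm.eq, mul_assoc]
      _ = y ^ 3 * z ^ 3 * z⁻¹ := by rw [← cm.eq]; simp only [pow_succ, pow_zero, one_mul, mul_assoc, mul_inv_cancel, mul_one]
      _ = _ := by rw [y3, w3]; group

theorem exists_HA (t : TF h.Im ∨ TB h.Im)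
    (hQ : ∃ g, g * φ zz * g⁻¹ ∈ φ.range ∧ g * φ zz * g⁻¹ ∉ zpowers (φ zz)) :
    ∃ φ' ψ' a K, HA φ' ψ' ρ a K ∧ φ' zz = φ zz ∧ (TF h.Im → K = N0) ∧ (TB h.Im → K = N1) := by
  obtain ⟨g, h1, h2⟩ := hQ
  have h' := h.conj g
  have ez : ((MulAut.conj g).toMonoidHom.comp φ) zz = g * φ zz * g⁻¹ := rfl
  rw [← ez] at h1 h2
  generalize (MulAut.conj g).toMonoidHom.comp φ = φ' at h' h1 h2
  obtain ⟨n, hn, hP, hP'⟩ := exists_conj' h.Im_le (t.elim (fun t => by rw [t.1]; norm_num) fun t => by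
    rw [show Nat.card h.Im = _ from t]; norm_num) (h.img_le (φ'.range ⊓ Cx (φ zz)))
    ((h'.hz.two.to_inf_left.comap_subtype).map _)
  have k := h.transport hn
  have e := h.Im_tr hn
  have f : TF h.Im → k.Im = N0 := fun t => (e ▸ t.cj hn).eq k.Im_le k.Rm_le_Im (e ▸ hP')
  have b : TB h.Im → k.Im = N1 := fun t => (e ▸ t.cj n).eq k.Im_le
  obtain ⟨a, ha⟩ := k.ha h' (by rwa [range_tr]) (by rwa [tr_zz]) (fun s hs => by
    obtain ⟨x, hx, rfl⟩ := (k.mem_img inf_le_right).1 hs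
    rw [tr_zz] at hx
    exact hP (conj_mem_cj.2 ((h.mem_img inf_le_right).2 ⟨x, hx, rfl⟩))) (t.imp f b)
  exact ⟨_, _, a, _, ha, tr_zz n, f, b⟩

end HS

end CfsgLib.Rec3D
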