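import Cfsg.Agent.Lib.Rec3D.Bas
import Cfsg.Agent.Lib.Rec3D.One

/-! The centre of `Q` is not weakly closed in `Q`, TWO (plans/REC3D.md). -/

set_option autoImplicit false
set_option maxRecDepth 100000
set_option linter.unusedSectionVars false
set_option linter.unusedVariables false

namespace CfsgLib.Rec3D

open Subgroup Cfsg CfsgLib.Tech CfsgLib.W2 CfsgLib.Rec3B Matrix
open CfsgLib.U43 (SL)

open Es FT

variable {G : Type*} [Group G] [Finite G] {φ φ' : He →* G} {ψ ψ' : G → Sp} {ρ ρ' g c d : G}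

theorem Rm_pow {r : Sp} (hr : r ∈ Rm) : r ^ 4 = 1 := by
  obtain ⟨e, rfl⟩ := hr
  rw [← map_pow, (by decide +kernel : ∀ e : E7, e ^ 4 = 1) e, map_one]

namespace HS

variable (h : HS φ ψ ρ)
include h

theorem fix_v (hg : g ∈ Cx (φ zz)) {a : He} (e : g ∈ Cx (φ a)) : ψ g • a.v = a.v := by
  obtain ⟨k, hk⟩ := h.act g hg a
  exact congrArg He.v (h.inj (hk.symm.trans (mem_Cx'.1 e)))

theorem one (h' : HS φ' ψ' ρ') (yz : φ' zz ∈ Cx (φ zz)) (yQ : φ' zz ∉ φ.range) (zR : φ zz ∉ φ'.range)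
    (wc : ∀ g, g * φ' zz * g⁻¹ ∈ φ'.range → g * φ' zz * g⁻¹ ∈ zpowers (φ' zz)) :
    (∀ a ∈ φ.range ⊓ Cx (φ' zz), ∀ b ∈ φ.range ⊓ Cx (φ' zz), a * b = b * a) ∧
      Nat.card (φ.range ⊓ Cx (φ' zz) : Subgroup G) = 27 * Nat.card (φ.range ⊓ φ'.range : Subgroup G) ∧
      (∀ a w, φ a ∈ φ'.range → a.v = (Nx (ψ (φ' zz)) * Nx (ψ (φ' zz))) *ᵥ w → a = 1) ∧
      Nx (ψ (φ' zz)) * Nx (ψ (φ' zz)) ≠ 0 := by
  obtain ⟨h0, c, cz, cρ, ey, ec⟩ := h.dec yz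
  have ac := h.actX cz cρ
  have xm := h.mem _ yz
  have x1 : ψ (φ' zz) ≠ 1 := fun e => yQ (h.ker _ yz e)
  have x3 : ψ (φ' zz) ^ 3 = 1 := by rw [← h.ψpow yz, z3, h.ψ1]
  rw [ec] at ac
  generalize ψ (φ' zz) = x at *
  have mD : ∀ {a}, φ a ∈ Cx (φ' zz) ↔ a ∈ Dx x h0 := fun {a} => by
    rw [mem_Cx, ey]
    refine ⟨fun e => h.inj ?_, fun e => ?_⟩
    · rw [map_mul, ← ac, map_mul, ← mul_assoc, ← mul_assoc, ← e]; group
    · have := congrArg φ (show h0 * _ = _ from e)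
      rw [map_mul, ← ac, map_mul] at this
      rw [← mul_assoc, ← this]; group
  have eD : (Dx x h0).map φ = φ.range ⊓ Cx (φ' zz) := le_antisymm
    (by rintro _ ⟨a, ha, rfl⟩; exact ⟨⟨a, rfl⟩, mD.2 ha⟩) (by rintro _ ⟨⟨a, rfl⟩, ha⟩; exact ⟨a, mD.1 ha, rfl⟩)
  have cD := card_map_of_injective (K := Dx x h0) h.inj
  have cE := card_map_of_injective (K := φ'.range.comap φ) h.inj
  rw [eD] at cD
  rw [map_comap_eq] at cE
  have om : OM x h0 (φ'.range.comap φ) := by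
    refine ⟨zR, fun a ha => mD.1 (range_le φ' ha), fun r hr e k hk a ha => ?_, fun a ha => h.inj ?_, ?_⟩
    · obtain ⟨s, sz, sρ, rfl, s4⟩ := h.lift2 (h.Rm_le_Im hr) (m := 4) (by norm_num) (Rm_pow hr)
      have cs := mem_Cx.1 (h.commX sz sρ cz cρ (by rw [show 8 = 4 * 2 from rfl, pow_mul, s4, one_pow])
        (by rw [ec, e]))
      have m : φ k * s ∈ Cx (φ' zz) := mem_Cx.2 (by
        have := congrArg φ hk
        rw [map_mul, map_mul, ← ac, ← h.actX sz sρ] at this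
        rw [ey]
        calc _ = φ k * (s * φ h0 * s⁻¹) * (s * c) := by group
          _ = _ := by rw [this, ← cs]; group)
      have := conj_mem_of_mem_normalizer (h'.norm_Q m) (show φ a ∈ _ from ha)
      rw [mem_comap, map_mul, map_mul, ← h.actX sz sρ, map_inv]
      convert this using 1
      group
    · have e : φ (a * (h0 * x • a⁻¹ * h0⁻¹)) = φ a * φ' zz * (φ a)⁻¹ * (φ' zz)⁻¹ := by
        rw [map_mul, map_mul, map_mul, ← ac, map_inv, map_inv]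
        conv_rhs => rw [ey]
        group
      rw [mem_comap, e] at ha
      have m := wc (φ a) (by simpa using mul_mem ha (show φ' zz ∈ φ'.range from ⟨zz, rfl⟩))
      rw [map_one]
      exact eq_one_of (z3 φ') (K := φ.range) (e ▸ mul_mem m (inv_mem (mem_zpowers _))) ⟨_, rfl⟩ yQ
    · have := h'.exp_card (D := φ.range ⊓ Cx (φ' zz)) inf_le_right (by rintro _ ⟨⟨a, rfl⟩, -⟩; exact Q3 φ a)
      rwa [inf_assoc, inf_eq_right.2 (range_le φ'), cD, cE] at this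
  obtain ⟨o1, o2, o3, o4⟩ := om.main xm x1 x3
  refine ⟨?_, by rw [cD, cE, o2], fun a w ha => o3 a ha w, o4⟩
  rintro _ ⟨⟨a, rfl⟩, ha⟩ _ ⟨⟨b, rfl⟩, hb⟩
  rw [← map_mul, o1 a (mD.1 ha) b (mD.1 hb), map_mul]

theorem card_v0 {D : Subgroup G} (hD : D ≤ φ.range) (e : ∀ a, φ a ∈ D → ∃ c : ZMod 3, a.v = c • v0) :
    Nat.card D ≤ 9 := by
  have : (D : Set G) ⊆ Set.range fun p : ZMod 3 × ZMod 3 => φ ⟨p.1 • v0, p.2⟩ := fun q hq => by
    obtain ⟨a, rfl⟩ := hD hq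
    obtain ⟨c, hc⟩ := e a hq
    exact ⟨(c, a.c), congrArg φ (He.ext hc.symm rfl)⟩
  exact (Nat.card_mono (Set.toFinite _) this).trans ((Finite.card_range_le _).trans (by simp))

theorem final (h' : HS φ' ψ' ρ') (yz : φ' zz ∈ Cx (φ zz)) (yQ : φ' zz ∉ φ.range) (zR : φ zz ∉ φ'.range)
    (wc : ∀ g, g * φ zz * g⁻¹ ∈ φ.range → g * φ zz * g⁻¹ ∈ zpowers (φ zz))
    (wc' : ∀ g, g * φ' zz * g⁻¹ ∈ φ'.range → g * φ' zz * g⁻¹ ∈ zpowers (φ' zz))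
    (hP : ∀ g ∈ φ'.range ⊓ Cx (φ zz), ψ g ∈ Pm) : False := by
  obtain ⟨-, o2, o3, o4⟩ := h.one h' yz yQ zR wc'
  obtain ⟨p1, p2, -, -⟩ := h'.one h (Cx_comm.1 yz) zR yQ wc
  have le : φ'.range ⊓ Cx (φ zz) ≤ Cx (φ zz) := inf_le_right
  have ci := h.card_img le
  rw [inf_assoc, inf_eq_right.2 (range_le φ), p2, mul_comm] at ci
  have eJ : h.img (φ'.range ⊓ Cx (φ zz)) = Jm := by
    refine eq_Jm (fun s hs => ?_) (fun s hs t ht => ?_) (Nat.eq_of_mul_eq_mul_left Nat.card_pos ci).le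
    · obtain ⟨g, hg, rfl⟩ := (h.mem_img le).1 hs
      exact hP g hg
    · obtain ⟨g, hg, rfl⟩ := (h.mem_img le).1 hs
      obtain ⟨k, hk, rfl⟩ := (h.mem_img le).1 ht
      rw [← h.mul _ hg.2 _ hk.2, p1 g hg k hk, h.mul _ hk.2 _ hg.2]
  have fx : ∀ a, (∀ g ∈ φ'.range ⊓ Cx (φ zz), g ∈ Cx (φ a)) → ∃ c : ZMod 3, a.v = c • v0 := fun a e =>
    fix_Jm fun x hx => by
      obtain ⟨g, hg, rfl⟩ := (h.mem_img le).1 (eJ.ge hx)
      exact h.fix_v hg.2 (e g hg)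
  obtain ⟨w, hw⟩ := v0_im (eJ.le ((h.mem_img le).2 ⟨_, ⟨⟨zz, rfl⟩, yz⟩, rfl⟩)) o4
  have E1 : φ.range ⊓ φ'.range = ⊥ := eq_bot_iff.2 (by
    rintro _ ⟨⟨a, rfl⟩, ha⟩
    obtain ⟨c, hc⟩ := fx a fun g hg => mem_Cx.2 (p1 g hg _ ⟨ha, Qz φ a⟩)
    rw [o3 a (c • w) ha (by rw [hc, hw, mulVec_smul]), map_one]
    exact one_mem _)
  have := h.card_v0 (D := φ.range ⊓ Cx (φ' zz)) inf_le_left fun a ha => fx a fun g hg => cmt_one (mem_bot.1 (E1.le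
    (mem_inf.2 ⟨mul_mem (conj_mem_of_mem_normalizer (h.norm_Q hg.2) ha.1) (inv_mem (mem_inf.1 ha).1), by
      have := mul_mem (mem_inf.1 hg).1 (conj_mem_of_mem_normalizer (h'.norm_Q ha.2) (inv_mem (mem_inf.1 hg).1))
      rwa [← mul_assoc, ← mul_assoc] at this⟩)))
  rw [o2, E1, card_bot] at this
  omega

theorem exists_in_Q (nw : ∃ g, g * φ zz * g⁻¹ ∈ Cx (φ zz) ∧ g * φ zz * g⁻¹ ∉ zpowers (φ zz)) :
    ∃ g, g * φ zz * g⁻¹ ∈ φ.range ∧ g * φ zz * g⁻¹ ∉ zpowers (φ zz) := by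
  by_contra wc
  push Not at wc
  obtain ⟨g, h1, h2⟩ := nw
  have h' := h.conj g
  have r := range_conj (φ := φ) g
  have ez : ((MulAut.conj g).toMonoidHom.comp φ) zz = g * φ zz * g⁻¹ := rfl
  generalize (MulAut.conj g).toMonoidHom.comp φ = φ' at h' r ez
  obtain ⟨n, hn, hP⟩ := exists_conj ((h.img_le (φ'.range ⊓ Cx (φ zz))).trans h.Im_le)
    ((h'.hz.two.to_inf_left.comap_subtype).map _)
  refine (h.transport hn).final h' ?_ ?_ ?_ ?_ ?_ ?_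
  all_goals try rw [tr_zz]
  all_goals try rw [range_tr]
  · rwa [ez]
  · rw [ez]; exact fun e => h2 (wc g e)
  · rw [r, mem_cj]
    intro e
    have := conj_zp (g := g).2 (wc g⁻¹ (by rwa [inv_inv]))
    rw [show g * (g⁻¹ * φ zz * g⁻¹⁻¹) * g⁻¹ = φ zz by group] at this
    exact h2 (mem_of_ne (conj3 (z3 φ) g) this (mem_zpowers _) h.z1)
  · exact wc
  · intro k hk
    rw [r, mem_cj, ez] at hk
    have := conj_zp (g := g).2 (wc (g⁻¹ * k * g) (by convert hk using 1; group))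
    rw [ez]
    convert this using 1
    group
  · exact fun k hk => hP _ ((h.mem_img inf_le_right).2 ⟨k, hk, rfl⟩)

end HS

end CfsgLib.Rec3D
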